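import Groth.Agent.Lib.SepField.Reduced
import Mathlib.RingTheory.Jacobson.Ring
import Mathlib.LinearAlgebra.TensorProduct.Basis
import Mathlib.RingTheory.Finiteness.Basic
import Mathlib.RingTheory.Ideal.Quotient.Operations
import Mathlib.AlgebraicGeometry.Pullbacks
import Mathlib.AlgebraicGeometry.Properties

/-!
Over a perfect field, products of reduced schemes are reduced (no finiteness hypotheses).
-/

open TensorProduct CategoryTheory CategoryTheory.Limits AlgebraicGeometry

namespace GrothLib.GrpSchField

universe u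

variable {K A B : Type u} [Field K] [CommRing A] [CommRing B] [Algebra K A] [Algebra K B]

/-- Reduced algebras over a perfect field are geometrically reduced. -/
theorem isGeometricallyReduced_of_isReduced [PerfectField K] [IsReduced B] :
    Algebra.IsGeometricallyReduced K B := by
  rw [Algebra.isGeometricallyReduced_field_iff]
  refine ⟨fun x hx => ?_⟩
  classical
  let e := Module.Free.chooseBasis K (AlgebraicClosure K)
  obtain ⟨b, rfl⟩ := TensorProduct.eq_repr_basis_left e x
  suffices ∀ i, b i = 0 by
    rw [show b = 0 from Finsupp.ext this, Finsupp.sum_zero_index]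
  intro i
  apply IsNilpotent.eq_zero
  rw [← mem_nilradical, nilradical_eq_sInf, Submodule.mem_sInf]
  intro p hp
  have : Ideal.IsPrime p := hp
  have : Algebra.IsGeometricallyReduced K (FractionRing (B ⧸ p)) :=
    GrothLib.SepField.isGeometricallyReduced_of_perfectField
  let ρ : B →ₐ[K] FractionRing (B ⧸ p) :=
    (IsScalarTower.toAlgHom K (B ⧸ p) (FractionRing (B ⧸ p))).comp (Ideal.Quotient.mkₐ K p)
  have h0 : Algebra.TensorProduct.map (AlgHom.id K (AlgebraicClosure K)) ρ
      (b.sum fun i m => e i ⊗ₜ m) = 0 := (hx.map _).eq_zero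
  rw [Finsupp.sum, map_sum] at h0
  have h1 : ∀ j ∈ b.support, ρ (b j) = 0 := by
    let b' : Module.Free.ChooseBasisIndex K (AlgebraicClosure K) →₀ FractionRing (B ⧸ p) :=
      b.mapRange ρ (map_zero ρ)
    have : b'.sum (fun i m => e i ⊗ₜ[K] m) = 0 := by
      rw [Finsupp.sum_mapRange_index (fun i => by rw [tmul_zero]), Finsupp.sum]
      exact h0
    have hb' := (TensorProduct.sum_tmul_basis_left_eq_zero e b' this)
    intro j _
    exact DFunLike.congr_fun hb' j
  by_cases hi : b i = 0
  · rw [hi]; exact p.zero_mem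
  · exact Ideal.Quotient.eq_zero_iff_mem.mp ((map_eq_zero_iff _
      (IsFractionRing.injective (B ⧸ p) (FractionRing (B ⧸ p)))).mp
        (h1 i (Finsupp.mem_support_iff.mpr hi)))

/-- A reduced algebra tensor a geometrically reduced algebra is reduced. -/
theorem isReduced_tensorProduct [IsReduced A] [Algebra.IsGeometricallyReduced K B] :
    IsReduced (A ⊗[K] B) := by
  have h : IsReduced (B ⊗[K] A) := by
    refine IsReduced.tensorProduct_of_flat_of_forall_fg fun A₀ hA₀ => ?_
    have : Algebra.FiniteType K A₀ := ⟨(Subalgebra.fg_top A₀).2 hA₀⟩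
    have : IsReduced A₀ := isReduced_of_injective A₀.val Subtype.val_injective
    have : IsJacobsonRing A₀ := isJacobsonRing_of_finiteType (A := K)
    refine ⟨fun x hx => ?_⟩
    classical
    let e := Module.Free.chooseBasis K B
    obtain ⟨b, rfl⟩ := TensorProduct.eq_repr_basis_left e x
    suffices ∀ i, b i = 0 by
      rw [show b = 0 from Finsupp.ext this, Finsupp.sum_zero_index]
    intro i
    have h0 : (⊥ : Ideal A₀).jacobson = ⊥ :=
      IsJacobsonRing.out ‹_› (Ideal.isRadical_iff_quotient_reduced ⊥ |>.mpr
        (isReduced_of_injective (RingEquiv.quotientBot A₀) (RingEquiv.quotientBot A₀).injective))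
    suffices b i ∈ (⊥ : Ideal A₀).jacobson by rwa [h0] at this
    simp only [Ideal.jacobson, Submodule.mem_sInf]
    rintro m ⟨-, hm⟩
    let _ := Ideal.Quotient.field m
    have : Module.Finite K (A₀ ⧸ m) := finite_of_finite_type_of_isJacobsonRing K _
    have : IsReduced (B ⊗[K] (A₀ ⧸ m)) :=
      isReduced_of_injective (Algebra.TensorProduct.comm K B (A₀ ⧸ m))
        (Algebra.TensorProduct.comm K B (A₀ ⧸ m)).injective
    let ρ : A₀ →ₐ[K] A₀ ⧸ m := Ideal.Quotient.mkₐ K m
    have h0 : Algebra.TensorProduct.map (AlgHom.id K B) ρ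
        (b.sum fun i m => e i ⊗ₜ m) = 0 := (hx.map _).eq_zero
    rw [Finsupp.sum, map_sum] at h0
    let b' : Module.Free.ChooseBasisIndex K B →₀ (A₀ ⧸ m) := b.mapRange ρ (map_zero ρ)
    have h' : b'.sum (fun i a => e i ⊗ₜ[K] a) = 0 := by
      rw [Finsupp.sum_mapRange_index (fun i => by rw [tmul_zero]), Finsupp.sum]
      exact h0
    exact Ideal.Quotient.eq_zero_iff_mem.mp
      (DFunLike.congr_fun (TensorProduct.sum_tmul_basis_left_eq_zero e b' h') i)
  exact isReduced_of_injective (Algebra.TensorProduct.comm K A B)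
    (Algebra.TensorProduct.comm K A B).injective

/-- Over a perfect field the fibre product of two reduced schemes is reduced. -/
theorem isReduced_pullback [PerfectField K] {X Y : Scheme.{u}} [AlgebraicGeometry.IsReduced X]
    [AlgebraicGeometry.IsReduced Y] (f : X ⟶ Spec (CommRingCat.of K))
    (g : Y ⟶ Spec (CommRingCat.of K)) : AlgebraicGeometry.IsReduced (pullback f g) := by
  suffices ∀ (R S : CommRingCat.{u}) [_root_.IsReduced R] [_root_.IsReduced S]
      (f : Spec R ⟶ Spec (CommRingCat.of K)) (g : Spec S ⟶ Spec (CommRingCat.of K)),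
      AlgebraicGeometry.IsReduced (pullback f g) by
    apply +allowSynthFailures @IsReduced.of_openCover
      (𝒰 := Scheme.Pullback.openCoverOfLeftRight X.affineCover Y.affineCover f g)
    intro i
    have hX : AlgebraicGeometry.IsReduced (X.affineCover.X i.1) := inferInstance
    have hY : AlgebraicGeometry.IsReduced (Y.affineCover.X i.2) := inferInstance
    exact @this _ _ ((affine_isReduced_iff _).mp hX) ((affine_isReduced_iff _).mp hY) _ _
  intro R S _ _ f g
  obtain ⟨φ, rfl⟩ := Spec.map_surjective f
  obtain ⟨ψ, rfl⟩ := Spec.map_surjective g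
  let _ : Algebra K R := φ.hom.toAlgebra
  let _ : Algebra K S := ψ.hom.toAlgebra
  have : Algebra.IsGeometricallyReduced K S := isGeometricallyReduced_of_isReduced
  have : _root_.IsReduced (CommRingCat.of (R ⊗[K] S)) := isReduced_tensorProduct
  exact isReduced_of_isOpenImmersion (pullbackSpecIso K R S).hom

end GrothLib.GrpSchField
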