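import Mathlib.CategoryTheory.Monoidal.Cartesian.Grp
import Mathlib.CategoryTheory.Monoidal.Cartesian.Over
import Mathlib.CategoryTheory.Limits.Shapes.Pullback.IsPullback.Defs

/-!
Bookkeeping with points of group objects in a cartesian monoidal category.
-/

open CategoryTheory MonoidalCategory CartesianMonoidalCategory MonObj GrpObj

namespace GrothLib.GrpSchField

universe v u

variable {C : Type u} [Category.{v} C] [CartesianMonoidalCategory C]

/-- A morphism of group objects compatible with the multiplication is a homomorphism. -/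
theorem isMonHom_of_mul {G H : C} [GrpObj G] [GrpObj H] (f : H ⟶ G)
    (h : μ[H] ≫ f = (f ⊗ₘ f) ≫ μ[G]) : IsMonHom f where
  one_hom := by
    have e : ((1 : 𝟙_ C ⟶ H) * 1) ≫ f = ((1 : 𝟙_ C ⟶ H) ≫ f) * ((1 : 𝟙_ C ⟶ H) ≫ f) := by
      rw [Hom.mul_def, Category.assoc, h, lift_map_assoc, ← Hom.mul_def]
    rw [_root_.mul_one] at e
    have e1 : (1 : 𝟙_ C ⟶ H) ≫ f = 1 := right_eq_mul.mp e
    simpa [Hom.one_def, toUnit_unit] using e1
  mul_hom := h

/-- A morphism out of `A ⊗ B` is determined on points. -/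
theorem hom_ext_points₂ {A B Y : C} {f g : A ⊗ B ⟶ Y}
    (h : ∀ (T : C) (a : T ⟶ A) (b : T ⟶ B), lift a b ≫ f = lift a b ≫ g) : f = g := by
  have e : lift (fst A B) (snd A B) = 𝟙 (A ⊗ B) := lift_fst_snd
  simpa [e] using h (A ⊗ B) (fst A B) (snd A B)

theorem lift_fst_snd_comp {T A B : C} (p : T ⟶ A ⊗ B) : lift (p ≫ fst A B) (p ≫ snd A B) = p := by
  rw [← comp_lift, lift_fst_snd, Category.comp_id]

omit [CartesianMonoidalCategory C] in
/-- A morphism which is bijective on points is an isomorphism. -/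
theorem isIso_of_points {A B : C} (f : A ⟶ B) (h₁ : ∀ (T : C) (b : T ⟶ B), ∃ a, a ≫ f = b)
    (h₂ : ∀ (T : C) (a a' : T ⟶ A), a ≫ f = a' ≫ f → a = a') : IsIso f := by
  obtain ⟨g, hg⟩ := h₁ B (𝟙 B)
  exact ⟨g, h₂ A _ _ (by rw [Category.assoc, hg, Category.comp_id, Category.id_comp]), hg⟩

section Kernel

variable {N G Q : C} [GrpObj Q] {i : N ⟶ G} {q : G ⟶ Q}

theorem exists_lift_of_comp_eq_one (hK : IsPullback i (toUnit N) q η[Q]) {T : C} (g : T ⟶ G)
    (hg : g ≫ q = 1) : ∃ n : T ⟶ N, n ≫ i = g :=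
  ⟨hK.lift g (toUnit T) (by rw [hg, Hom.one_def]), hK.lift_fst _ _ _⟩

theorem comp_eq_one (hK : IsPullback i (toUnit N) q η[Q]) : i ≫ q = 1 := by
  rw [hK.w, Hom.one_def]

theorem mono_of_kernel (hK : IsPullback i (toUnit N) q η[Q]) : Mono i :=
  ⟨fun _ _ e => hK.hom_ext e (Subsingleton.elim _ _)⟩

end Kernel

end GrothLib.GrpSchField
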