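import Groth.Agent.Lib.GrpSchField.HeightMax
import Mathlib.AlgebraicGeometry.Morphisms.Smooth
import Mathlib.AlgebraicGeometry.Morphisms.FiniteType
import Mathlib.AlgebraicGeometry.Noetherian
import Mathlib.RingTheory.RingHom.StandardSmooth
import Mathlib.RingTheory.Unramified.LocalRing
import Mathlib.RingTheory.RegularLocalRing.Defs
import Mathlib.RingTheory.Smooth.Flat
import Mathlib.RingTheory.Jacobson.Ring

/-!
Local rings at closed points of schemes smooth over a field are regular.
-/

open CategoryTheory AlgebraicGeometry IsLocalRing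

namespace GrothLib.GrpSchField

universe u

/-- A maximal ideal of a polynomial ring in `n` variables over a field has `n` generators. -/
theorem exists_span_of_isMaximal_mvPolynomial (k : Type*) [Field k] :
    ∀ (n : ℕ) (M : Ideal (MvPolynomial (Fin n) k)), M.IsMaximal →
      ∃ s : Finset (MvPolynomial (Fin n) k), s.card ≤ n ∧ Ideal.span (s : Set _) = M := by
  intro n
  induction n with
  | zero =>
    intro M hM
    refine ⟨∅, le_rfl, ?_⟩
    let e := (MvPolynomial.isEmptyRingEquiv k (Fin 0))
    have hf : IsField (MvPolynomial (Fin 0) k) := e.toMulEquiv.isField (Field.toIsField k)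
    let := hf.toField
    rw [Finset.coe_empty, Ideal.span_empty]
    exact ((Ideal.eq_bot_or_top M).resolve_right hM.ne_top).symm
  | succ n ih =>
    intro M hM
    let e := (MvPolynomial.finSuccEquiv k n).toRingEquiv
    let M' : Ideal (Polynomial (MvPolynomial (Fin n) k)) := M.map e
    have : M'.IsMaximal := Ideal.map_isMaximal_of_equiv e
    set q := M'.comap Polynomial.C with hqdef
    have hq : q.IsMaximal := Polynomial.isMaximal_comap_C_of_isJacobsonRing M'
    obtain ⟨s, hs, hsq⟩ := ih q hq
    let _ := Ideal.Quotient.field q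
    let φ : Polynomial (MvPolynomial (Fin n) k) →+* Polynomial (MvPolynomial (Fin n) k ⧸ q) :=
      Polynomial.mapRingHom (Ideal.Quotient.mk q)
    have hφ : Function.Surjective φ := Polynomial.map_surjective _ Ideal.Quotient.mk_surjective
    have hker : RingHom.ker φ = q.map Polynomial.C := by
      rw [Polynomial.ker_mapRingHom, Ideal.mk_ker]
    obtain ⟨f', hf'⟩ := IsPrincipalIdealRing.principal (M'.map φ)
    obtain ⟨f, rfl⟩ := hφ f'
    have hle : q.map Polynomial.C ≤ M' := Ideal.map_comap_le
    have hM' : M' = q.map Polynomial.C ⊔ Ideal.span {f} := by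
      rw [← sup_eq_left.mpr hle, ← hker, sup_comm (RingHom.ker φ)]
      have h1 := Ideal.comap_map_of_surjective φ hφ M'
      rw [← RingHom.ker_eq_comap_bot] at h1
      have h2 := Ideal.comap_map_of_surjective φ hφ (Ideal.span {f})
      rw [← RingHom.ker_eq_comap_bot, Ideal.map_span, Set.image_singleton] at h2
      rw [← h1, ← h2]
      exact congrArg (Ideal.comap φ) hf'
    classical
    refine ⟨(insert f (s.image Polynomial.C)).image e.symm, ?_, ?_⟩
    · exact Finset.card_image_le.trans ((Finset.card_insert_le _ _).trans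
        (Nat.succ_le_succ (Finset.card_image_le.trans hs)))
    · show _ = M
      rw [Finset.coe_image, ← Ideal.map_span, Finset.coe_insert, Finset.coe_image, Ideal.span_insert,
        ← Ideal.map_span, hsq, sup_comm, ← hM', Ideal.map_symm,
        Ideal.comap_map_of_bijective _ e.bijective]

/-- Local rings at maximal ideals of algebras étale over a polynomial ring are regular. -/
theorem isRegularLocalRing_of_etale_mvPolynomial {k : Type u} [Field k] (n : ℕ) {A : Type u}
    [CommRing A] [Algebra (MvPolynomial (Fin n) k) A] [Algebra.Etale (MvPolynomial (Fin n) k) A]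
    (q : Ideal A) [q.IsMaximal] : IsRegularLocalRing (Localization.AtPrime q) := by
  let P := MvPolynomial (Fin n) k
  have : IsJacobsonRing P := inferInstance
  let p := q.under P
  have hp : p.IsMaximal := by
    have : Algebra.FiniteType P A := inferInstance
    have : Algebra.FiniteType P (A ⧸ q) :=
      Algebra.FiniteType.of_surjective (Ideal.Quotient.mkₐ P q) Ideal.Quotient.mk_surjective
    let _ := Ideal.Quotient.field q
    have hfin : Module.Finite P (A ⧸ q) := finite_of_finite_type_of_isJacobsonRing P _
    have := Ideal.isMaximal_comap_of_isIntegral_of_isMaximal (R := P) (⊥ : Ideal (A ⧸ q))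
    rwa [← RingHom.ker_eq_comap_bot, IsScalarTower.algebraMap_eq P A (A ⧸ q), ← RingHom.comap_ker,
      Ideal.Quotient.algebraMap_eq, Ideal.mk_ker] at this
  have : q.LiesOver p := ⟨rfl⟩
  let := Localization.AtPrime.algebraOfLiesOver p q
  have : IsNoetherianRing A := Algebra.FiniteType.isNoetherianRing P A
  have hu : Algebra.IsUnramifiedAt P q :=
    Algebra.FormallyUnramified.comp P A (Localization.AtPrime q)
  have hmap := ((Algebra.isUnramifiedAt_iff_map_eq P p q).mp hu).2
  obtain ⟨s, hs, hsp⟩ := exists_span_of_isMaximal_mvPolynomial k n p hp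
  have : Module.Flat P A := inferInstance
  have hle : (maximalIdeal (Localization.AtPrime q)).spanFinrank ≤ n := by
    classical
    rw [← hmap, ← hsp, Ideal.map_span]
    refine (Submodule.spanFinrank_span_le_ncard_of_finite (s.finite_toSet.image _)).trans ?_
    exact (Set.ncard_image_le s.finite_toSet).trans (by simpa using hs)
  apply IsRegularLocalRing.of_spanFinrank_maximalIdeal_le
  rw [IsLocalization.AtPrime.ringKrullDim_eq_height q (Localization.AtPrime q)]
  have h := Ideal.height_eq_height_add_of_liesOver_of_hasGoingDown p q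
  rw [height_eq_of_isMaximal_mvPolynomial k n p hp] at h
  have h' : (n : ℕ∞) ≤ q.height := h ▸ le_self_add
  calc ((maximalIdeal (Localization.AtPrime q)).spanFinrank : WithBot ℕ∞) ≤ (n : ℕ∞) := by
        exact_mod_cast hle
    _ ≤ _ := by exact_mod_cast h'

/-- Local rings at closed points of a scheme smooth over a field are regular. -/
theorem isRegularLocalRing_stalk_of_smooth {K : Type u} [Field K] {X : Scheme.{u}}
    (f : X ⟶ Spec (CommRingCat.of K)) [Smooth f] {x : X} (hx : IsClosed ({x} : Set X)) :
    IsRegularLocalRing (X.presheaf.stalk x) := by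
  obtain ⟨U, hU, V, hV, hxV, e, he⟩ := Smooth.exists_isStandardSmooth f x
  have htop : U = ⊤ := by
    ext s
    simp only [TopologicalSpace.Opens.coe_top, Set.mem_univ, iff_true]
    rw [Subsingleton.elim (α := ↥(Spec (CommRingCat.of K))) s (f x)]
    exact e hxV
  have hfield : IsField Γ(Spec (CommRingCat.of K), U) := by
    rw [htop]
    exact ((Scheme.ΓSpecIso (CommRingCat.of K)).commRingCatIsoToRingEquiv.toMulEquiv).isField
      (Field.toIsField K)
  let := hfield.toField
  obtain ⟨n, g, -, hg⟩ := he.exists_etale_mvPolynomial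
  algebraize [g]
  have : Algebra.Etale (MvPolynomial (Fin n) Γ(Spec (CommRingCat.of K), U)) Γ(X, V) := hg
  have : (hV.primeIdealOf ⟨x, hxV⟩).asIdeal.IsMaximal :=
    hV.primeIdealOf_isMaximal_of_isClosed ⟨x, hxV⟩ hx
  let _ : Algebra Γ(X, V) (X.presheaf.stalk x) := X.presheaf.algebra_section_stalk ⟨x, hxV⟩
  have : IsLocalization.AtPrime (X.presheaf.stalk x) (hV.primeIdealOf ⟨x, hxV⟩).asIdeal :=
    hV.isLocalization_stalk ⟨x, hxV⟩
  have := isRegularLocalRing_of_etale_mvPolynomial (k := Γ(Spec (CommRingCat.of K), U)) n
    (hV.primeIdealOf ⟨x, hxV⟩).asIdeal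
  exact IsRegularLocalRing.of_ringEquiv (R := Localization.AtPrime (hV.primeIdealOf ⟨x, hxV⟩).asIdeal)
    (IsLocalization.algEquiv (hV.primeIdealOf ⟨x, hxV⟩).asIdeal.primeCompl _ (X.presheaf.stalk x)).toRingEquiv

end GrothLib.GrpSchField
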