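import Groth.Prelude.Def_AlgGrp
import Groth.Agent.Lib.GrpSchField.Points
import Mathlib.CategoryTheory.Limits.Constructions.Over.Connected
import Mathlib.CategoryTheory.Limits.Shapes.Pullback.IsPullback.Basic
import Mathlib.AlgebraicGeometry.Pullbacks

/-!
Shear isomorphisms: action and multiplication morphisms of a group scheme have every property of the
structure morphism that is stable under base change; the diagonal is a base change of the unit section.
-/

open CategoryTheory CategoryTheory.Limits MonoidalCategory CartesianMonoidalCategory MonObj GrpObj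
open AlgebraicGeometry

set_option linter.unusedSimpArgs false

namespace GrothLib.GrpSchField

universe u

variable {S : Scheme.{u}} {G X : Over S} [GrpObj G]

theorem act_one (a : AlgGrp.Action G X) {T : Over S} (x : T ⟶ X) :
    lift (1 : T ⟶ G) x ≫ a.act = x := by
  rw [Hom.one_def, ← lift_whiskerRight_assoc, a.one_act, leftUnitor_hom, lift_snd]

theorem act_mul (a : AlgGrp.Action G X) {T : Over S} (g g' : T ⟶ G) (x : T ⟶ X) :
    lift (g * g') x ≫ a.act = lift g (lift g' x ≫ a.act) ≫ a.act := by
  rw [Hom.mul_def, ← lift_whiskerRight_assoc, a.mul_act, lift_lift_associator_hom_assoc,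
    lift_whiskerLeft_assoc]

/-- The shear automorphism `(g, x) ↦ (g, g • x)` of `G ⊗ X`. -/
noncomputable def shear (a : AlgGrp.Action G X) : G ⊗ X ≅ G ⊗ X where
  hom := lift (fst G X) a.act
  inv := lift (fst G X) (lift (fst G X)⁻¹ (snd G X) ≫ a.act)
  hom_inv_id := by
    apply hom_ext_points₂
    intro T g x
    simp only [comp_lift, comp_lift_assoc, GrpObj.comp_inv, lift_fst, lift_snd, lift_fst_assoc,
      lift_snd_assoc, ← act_mul, inv_mul_cancel, act_one, Category.assoc, Category.comp_id]
  inv_hom_id := by
    apply hom_ext_points₂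
    intro T g x
    simp only [comp_lift, comp_lift_assoc, GrpObj.comp_inv, lift_fst, lift_snd, lift_fst_assoc,
      lift_snd_assoc, ← act_mul, mul_inv_cancel, act_one, Category.assoc, Category.comp_id]

@[simp]
theorem shear_hom_snd (a : AlgGrp.Action G X) : (shear a).hom ≫ snd G X = a.act := lift_snd _ _

@[simp]
theorem shear_hom_fst (a : AlgGrp.Action G X) : (shear a).hom ≫ fst G X = fst G X := lift_fst _ _

theorem act_left_eq (a : AlgGrp.Action G X) :
    a.act.left = (shear a).hom.left ≫ (snd G X).left := by
  rw [← Over.comp_left, shear_hom_snd]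

/-- An action morphism has every base change stable property of the structure morphism of the group. -/
theorem act_property (P : MorphismProperty Scheme.{u}) [P.IsStableUnderBaseChange] [P.RespectsIso]
    (a : AlgGrp.Action G X) (h : P G.hom) : P a.act.left := by
  rw [act_left_eq, P.cancel_left_of_respectsIso]
  exact P.pullback_snd _ _ h

/-- Left translation of `G` on itself. -/
noncomputable def mulAction (G : Over S) [GrpObj G] : AlgGrp.Action G G where
  act := μ[G]
  one_act := MonObj.one_mul G
  mul_act := MonObj.mul_assoc G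

theorem mul_property (P : MorphismProperty Scheme.{u}) [P.IsStableUnderBaseChange] [P.RespectsIso]
    (h : P G.hom) : P μ[G].left :=
  act_property P (mulAction G) h

/-- The division morphism `(x, y) ↦ x y⁻¹`. -/
noncomputable def divMor (G : Over S) [GrpObj G] : G ⊗ G ⟶ G := fst G G * (snd G G)⁻¹

/-- The diagonal is the pullback of the unit section along `(x, y) ↦ x y⁻¹`. -/
theorem isPullback_diag_div (G : Over S) [GrpObj G] :
    IsPullback (toUnit G) (lift (𝟙 G) (𝟙 G)) η[G] (divMor G) := by
  have w : toUnit G ≫ η[G] = lift (𝟙 G) (𝟙 G) ≫ divMor G := by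
    rw [← Hom.one_def, divMor, MonObj.comp_mul, GrpObj.comp_inv, lift_fst, lift_snd, mul_inv_cancel]
  refine IsPullback.of_isLimit' ⟨w⟩ (PullbackCone.IsLimit.mk _
    (fun s => s.snd ≫ fst G G) (fun s => Subsingleton.elim _ _) (fun s => ?_) (fun s m _ hm => ?_))
  · have hc : (s.snd ≫ fst G G) * (s.snd ≫ snd G G)⁻¹ = 1 := by
      rw [← GrpObj.comp_inv, ← MonObj.comp_mul, ← divMor, ← s.condition, Hom.one_def]
      congr 1
      exact Subsingleton.elim _ _
    rw [comp_lift, Category.comp_id]
    calc lift (s.snd ≫ fst G G) (s.snd ≫ fst G G)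
        = lift (s.snd ≫ fst G G) (s.snd ≫ snd G G) := by rw [← mul_inv_eq_one.mp hc]
      _ = s.snd := lift_fst_snd_comp _
  · rw [← hm, Category.assoc, lift_fst, Category.comp_id]

theorem isPullback_diag_div_left (G : Over S) [GrpObj G] :
    IsPullback G.hom (pullback.diagonal G.hom) η[G].left (divMor G).left :=
  (isPullback_diag_div G).map (Over.forget S)

theorem diagonal_property (P : MorphismProperty Scheme.{u}) [P.IsStableUnderBaseChange]
    (h : P η[G].left) : P (pullback.diagonal G.hom) :=
  P.of_isPullback (isPullback_diag_div_left G) h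

@[simp]
theorem eta_left_hom (G : Over S) [GrpObj G] : η[G].left ≫ G.hom = 𝟙 S := Over.w η[G]

theorem graph_w (G : Over S) [GrpObj G] :
    𝟙 G.left ≫ G.hom = (G.hom ≫ η[G].left) ≫ G.hom := by
  rw [Category.id_comp]
  exact ((Category.assoc _ _ _).trans
    ((congrArg (G.hom ≫ ·) (eta_left_hom G)).trans (Category.comp_id _))).symm

/-- The unit section is a pullback of the diagonal. -/
theorem isPullback_unit_diag (G : Over S) [GrpObj G] :
    IsPullback η[G].left η[G].left
      (pullback.lift (𝟙 G.left) (G.hom ≫ η[G].left) (graph_w G))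
      (pullback.diagonal G.hom) := by
  refine IsPullback.of_isLimit' ⟨?_⟩ (PullbackCone.IsLimit.mk _ (fun s => s.fst ≫ G.hom)
    (fun s => ?_) (fun s => ?_) (fun s m h₁ _ => ?_))
  · apply pullback.hom_ext
    · rw [pullback.diagonal, Category.assoc, Category.assoc]
      erw [pullback.lift_fst, pullback.lift_fst]
    · rw [pullback.diagonal, Category.assoc, Category.assoc]
      erw [pullback.lift_snd, pullback.lift_snd]
      exact ((Category.assoc _ _ _).symm.trans
        ((congrArg (· ≫ η[G].left) (eta_left_hom G)).trans (Category.id_comp _))).trans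
        (Category.comp_id _).symm
  · have h₁ := congrArg (· ≫ pullback.fst _ _) s.condition
    have h₂ := congrArg (· ≫ pullback.snd _ _) s.condition
    simp only [Category.assoc, pullback.lift_fst, pullback.lift_snd, pullback.diagonal_fst,
      pullback.diagonal_snd, Category.comp_id] at h₁ h₂
    exact (Category.assoc _ _ _).trans (h₂.trans h₁.symm)
  · have h₂ := congrArg (· ≫ pullback.snd _ _) s.condition
    simp only [Category.assoc, pullback.lift_snd, pullback.diagonal_snd, Category.comp_id] at h₂
    exact (Category.assoc _ _ _).trans h₂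
  · simp [← h₁]

theorem unit_property (P : MorphismProperty Scheme.{u}) [P.IsStableUnderBaseChange]
    (h : P (pullback.diagonal G.hom)) : P η[G].left :=
  P.of_isPullback (isPullback_unit_diag G).flip h

end GrothLib.GrpSchField

namespace GrothLib.GrpSchField

universe u'

variable {S : Scheme.{u'}}

theorem isPullback_whiskerRight {A B : Over S} (i : A ⟶ B) (X : Over S) :
    IsPullback (i ▷ X) (fst A X) (fst B X) i := by
  refine IsPullback.of_isLimit' ⟨whiskerRight_fst i X⟩ (PullbackCone.IsLimit.mk _
    (fun s => lift s.snd (s.fst ≫ snd B X)) (fun s => ?_) (fun s => ?_) (fun s m h₁ h₂ => ?_))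
  · rw [lift_whiskerRight, ← s.condition, lift_fst_snd_comp]
  · exact lift_fst _ _
  · rw [← h₁, ← h₂, Category.assoc, whiskerRight_snd, lift_fst_snd_comp]

theorem whiskerRight_property (P : MorphismProperty Scheme.{u'}) [P.IsStableUnderBaseChange]
    {A B : Over S} (i : A ⟶ B) (X : Over S) (h : P i.left) : P (i ▷ X).left :=
  P.of_isPullback ((isPullback_whiskerRight i X).map (Over.forget S)).flip h

theorem isIso_left {A B : Over S} (f : A ⟶ B) [IsIso f] : IsIso f.left :=
  inferInstanceAs (IsIso ((Over.forget S).map f))

end GrothLib.GrpSchField
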