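import Mathlib.AlgebraicGeometry.Morphisms.FlatDescent
import Mathlib.AlgebraicGeometry.Morphisms.Flat
import Mathlib.AlgebraicGeometry.QuasiAffine

/-!
Affineness descends along flat surjective morphisms of affine schemes.
-/

open CategoryTheory CategoryTheory.Limits AlgebraicGeometry

namespace GrothLib.GrpSchField

universe u

/-- A quasi-compact quasi-separated scheme over an affine base which becomes affine after an affine
faithfully flat base change is affine. -/
theorem isAffine_of_pullback_flat_surjective {G Q V : Scheme.{u}} (g : G ⟶ Q) (p : V ⟶ Q)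
    [IsAffine Q] [IsAffine V] [Flat p] [Surjective p] [CompactSpace G] [QuasiSeparatedSpace G]
    [IsAffine (pullback g p)] : IsAffine G := by
  have hsq := IsPullback.of_hasPullback g p
  have hi := isIso_pushoutSection_of_isQuasiSeparated_of_flat_right hsq
    (US := ⊤) (UT := ⊤) (UX := ⊤) (UY := ⊤) (by simp) (by simp) (by simp)
    (isAffineOpen_top Q) (isAffineOpen_top V) isCompact_univ isQuasiSeparated_univ
  rw [isIso_pushoutSection_iff] at hi
  simp only [Scheme.Hom.appLE] at hi
  have hpo : IsPushout g.appTop p.appTop (pullback.fst g p).appTop (pullback.snd g p).appTop := by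
    simpa using hi
  have hspec := isPullback_SpecMap_of_isPushout _ _ _ _ hpo
  have bot : IsPullback (pullback.fst g p ≫ G.toSpecΓ) (pullback.snd g p)
      (Spec.map g.appTop ≫ Q.isoSpec.inv) p :=
    IsPullback.of_iso hspec (pullback g p).isoSpec.symm (Iso.refl _) V.isoSpec.symm Q.isoSpec.symm
      (by simp [Scheme.toSpecΓ_naturality])
      (by rw [Iso.symm_hom, Iso.symm_hom, Scheme.isoSpec_inv_naturality])
      (by simp) (by rw [Iso.symm_hom, Iso.symm_hom, Scheme.isoSpec_inv_naturality])
  have h1 : G.toSpecΓ ≫ Spec.map g.appTop ≫ Q.isoSpec.inv = g := by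
    rw [← Scheme.toSpecΓ_naturality_assoc, ← Scheme.isoSpec_hom, Iso.hom_inv_id, Category.comp_id]
  have sq : IsPullback (pullback.fst g p) (𝟙 _) G.toSpecΓ (pullback.fst g p ≫ G.toSpecΓ) :=
    IsPullback.of_bot (by rw [Category.id_comp, h1]; exact hsq) (by simp) bot
  have : IsPullback (pullback.snd g p) (pullback.fst g p ≫ G.toSpecΓ) p
      (Spec.map g.appTop ≫ Q.isoSpec.inv) := bot.flip
  have hf : (@Surjective ⊓ @Flat ⊓ @QuasiCompact : MorphismProperty Scheme.{u})
      (pullback.fst g p ≫ G.toSpecΓ) :=
    ⟨⟨MorphismProperty.of_isPullback this (inferInstanceAs (Surjective p)),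
      MorphismProperty.of_isPullback this (inferInstanceAs (Flat p))⟩,
      inferInstanceAs (QuasiCompact (pullback.fst g p ≫ G.toSpecΓ))⟩
  have : IsIso G.toSpecΓ :=
    MorphismProperty.of_isPullback_of_descendsAlong (P := MorphismProperty.isomorphisms Scheme.{u})
      (Q := @Surjective ⊓ @Flat ⊓ @QuasiCompact) sq.flip hf
      (inferInstanceAs (IsIso (𝟙 (pullback g p))))
  exact ⟨this⟩

end GrothLib.GrpSchField
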