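import Groth.Agent.Lib.GrpSchField.HeightMax
import Groth.Agent.Lib.Dim.Scheme

/-!
The local ring at a closed point of an irreducible open piece of a scheme locally of finite type
over a field has dimension the dimension of that piece.
-/

open CategoryTheory AlgebraicGeometry TopologicalSpace

namespace GrothLib.GrpSchField

universe u

/-- The height of a maximal ideal of a finitely generated algebra with a unique minimal prime. -/
theorem height_eq_ringKrullDim_of_irreducible (k : Type*) [Field k] (A : Type*) [CommRing A]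
    [Algebra k A] [Algebra.FiniteType k A] [IrreducibleSpace (PrimeSpectrum A)] (m : Ideal A)
    [hm : m.IsMaximal] : (m.height : WithBot ℕ∞) = ringKrullDim A := by
  have hprime : (nilradical A).IsPrime := PrimeSpectrum.irreducibleSpace_iff_isPrime_nilradical.mp ‹_›
  have hsurj := Ideal.Quotient.mk_surjective (I := nilradical A)
  let e : PrimeSpectrum (A ⧸ nilradical A) ≃o PrimeSpectrum A :=
    { Equiv.ofBijective (PrimeSpectrum.comap (Ideal.Quotient.mk (nilradical A)))
        ⟨PrimeSpectrum.comap_injective_of_surjective _ hsurj, fun p =>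
          ⟨⟨p.asIdeal.map (Ideal.Quotient.mk (nilradical A)),
            Ideal.map_isPrime_of_surjective hsurj (by rw [Ideal.mk_ker]; exact nilradical_le_prime _)⟩,
            PrimeSpectrum.ext (by
              simp only [PrimeSpectrum.comap_asIdeal]
              rw [Ideal.comap_map_of_surjective _ hsurj, ← RingHom.ker_eq_comap_bot, Ideal.mk_ker,
                sup_eq_left.mpr (nilradical_le_prime _)])⟩⟩ with
      map_rel_iff' := fun {p q} => by
        constructor
        · intro h x hx
          obtain ⟨y, rfl⟩ := hsurj x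
          exact h hx
        · intro h
          exact Ideal.comap_mono h }
  obtain ⟨⟨m', hm'⟩, he⟩ := e.surjective ⟨m, hm.isPrime⟩
  have he' : m'.comap (Ideal.Quotient.mk (nilradical A)) = m := congrArg PrimeSpectrum.asIdeal he
  have : m'.IsMaximal := by
    have h0 : (m'.comap (Ideal.Quotient.mk (nilradical A))).map (Ideal.Quotient.mk (nilradical A)) = m' :=
      Ideal.map_comap_of_surjective _ hsurj m'
    rw [← h0, he']
    exact Ideal.IsMaximal.map_of_surjective_of_ker_le hsurj (by
      rw [Ideal.mk_ker]; exact nilradical_le_prime m)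
  have := height_eq_ringKrullDim_of_isMaximal k (A ⧸ nilradical A) m'
  rw [(⟨m', hm'⟩ : PrimeSpectrum _).height_eq_orderHeight] at this
  rw [(⟨m, hm.isPrime⟩ : PrimeSpectrum A).height_eq_orderHeight, ← he, Order.height_orderIso e, this]
  exact (Order.krullDim_eq_of_orderIso e : _)

variable {K : Type u} [Field K]

theorem ringKrullDim_stalk_eq_of_isClosed {X : Scheme.{u}} (f : X ⟶ Spec (CommRingCat.of K))
    [LocallyOfFiniteType f] {C : Set X} (hC : IsClosed C) (hCo : IsOpen C) (hCi : IsIrreducible C)
    {x : X} (hxC : x ∈ C) (hx : IsClosed ({x} : Set X)) :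
    ringKrullDim (X.presheaf.stalk x) = topologicalKrullDim C := by
  obtain ⟨n, hn, hnU⟩ := GrothLib.Dim.exists_nat_dim_irreducible f hC hCi
  obtain ⟨_, ⟨U₀, hU, rfl⟩, hxU, hUC⟩ := X.isBasis_affineOpens.exists_subset_of_mem_open
    (a := x) hxC hCo
  let U : X.Opens := U₀
  have hdimU : ringKrullDim Γ(X, U) = n := by
    rw [← GrothLib.Dim.topologicalKrullDim_affineOpen hU]
    have h := hnU U ⟨x, hxC, hxU⟩
    rw [Set.inter_eq_right.mpr hUC] at h
    exact h
  obtain ⟨ψ, hψ, -⟩ := GrothLib.Dim.exists_finiteType_specMap f hU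
  algebraize [ψ.hom]
  have : IrreducibleSpace (PrimeSpectrum Γ(X, U)) := by
    have h : IsIrreducible (hU.fromSpec ⁻¹' C) :=
      ⟨⟨hU.primeIdealOf ⟨x, hxU⟩, by rw [Set.mem_preimage, hU.fromSpec_primeIdealOf]; exact hxC⟩,
        hCi.2.preimage hU.fromSpec.isOpenEmbedding⟩
    have huniv : hU.fromSpec ⁻¹' C = Set.univ := Set.eq_univ_of_forall fun p => hUC (by
      rw [← hU.range_fromSpec]; exact ⟨p, rfl⟩)
    rw [huniv] at h
    exact { isPreirreducible_univ := h.2, toNonempty := ⟨hU.primeIdealOf ⟨x, hxU⟩⟩ }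
  have : (hU.primeIdealOf ⟨x, hxU⟩).asIdeal.IsMaximal := by
    apply (PrimeSpectrum.isClosed_singleton_iff_isMaximal _).mp
    have h := hx.preimage hU.fromSpec.continuous
    have e : hU.fromSpec ⁻¹' {x} = {hU.primeIdealOf ⟨x, hxU⟩} := by
      refine Set.Subset.antisymm (fun p hp => hU.fromSpec.isOpenEmbedding.injective ?_) fun p hp => ?_
      · rw [hU.fromSpec_primeIdealOf]; exact hp
      · rw [Set.mem_singleton_iff.mp hp]
        exact hU.fromSpec_primeIdealOf ⟨x, hxU⟩
    rw [e] at h
    exact h
  let _ : Algebra Γ(X, U) (X.presheaf.stalk x) := X.presheaf.algebra_section_stalk ⟨x, hxU⟩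
  have : IsLocalization.AtPrime (X.presheaf.stalk x) (hU.primeIdealOf ⟨x, hxU⟩).asIdeal :=
    hU.isLocalization_stalk ⟨x, hxU⟩
  rw [IsLocalization.AtPrime.ringKrullDim_eq_height (hU.primeIdealOf ⟨x, hxU⟩).asIdeal,
    height_eq_ringKrullDim_of_irreducible K, hdimU, hn]

end GrothLib.GrpSchField
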