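import Groth.Agent.Lib.GrpSchField.Shear
import Mathlib.AlgebraicGeometry.Morphisms.UniversallyOpen
import Mathlib.AlgebraicGeometry.Morphisms.ClosedImmersion

/-!
Group schemes over a field: separatedness, openness.
-/

open CategoryTheory CategoryTheory.Limits MonoidalCategory CartesianMonoidalCategory MonObj GrpObj
open AlgebraicGeometry

namespace GrothLib.GrpSchField

universe u

variable {K : Type u} [Field K]

theorem unit_isClosedImmersion (G : Over (Spec (CommRingCat.of K))) [GrpObj G] :
    IsClosedImmersion η[G].left :=
  isClosedImmersion_of_comp_eq_id (Y := Spec (CommRingCat.of K)) G.hom η[G].left (eta_left_hom G)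

/-- A group scheme over a field is separated. -/
theorem isSeparated (G : Over (Spec (CommRingCat.of K))) [GrpObj G] : IsSeparated G.hom :=
  ⟨diagonal_property @IsClosedImmersion (unit_isClosedImmersion G)⟩

theorem surjective_hom (G : Over (Spec (CommRingCat.of K))) [GrpObj G] : Surjective G.hom :=
  ⟨fun _ => ⟨η[G].left (IsLocalRing.closedPoint K),
    Subsingleton.elim (α := Spec (CommRingCat.of K)) _ _⟩⟩

end GrothLib.GrpSchField
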