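import Groth.Agent.Lib.GrpSchField.Directed
import Groth.Agent.Lib.GrpSchField.Shear
import Mathlib.AlgebraicGeometry.Geometrically.Irreducible
import Mathlib.AlgebraicGeometry.Morphisms.Integral
import Mathlib.AlgebraicGeometry.Morphisms.ClosedImmersion
import Mathlib.AlgebraicGeometry.Noetherian
import Mathlib.AlgebraicGeometry.Morphisms.FiniteType
import Mathlib.Topology.Connected.Clopen

/-!
Irreducible components of group schemes over a field: the component through the unit is geometrically
irreducible; for groups locally of finite type components are open and are the connected components.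
-/

open CategoryTheory CategoryTheory.Limits MonoidalCategory CartesianMonoidalCategory MonObj GrpObj
open AlgebraicGeometry

namespace GrothLib.GrpSchField

universe u

/-- Over an algebraically closed field the product of irreducible schemes is irreducible. -/
theorem irreducibleSpace_pullback {L : Type u} [Field L] [IsAlgClosed L] {X Y : Scheme.{u}}
    [IrreducibleSpace X] [IrreducibleSpace Y] (f : X ⟶ Spec (CommRingCat.of L))
    (g : Y ⟶ Spec (CommRingCat.of L)) : IrreducibleSpace (pullback f g : Scheme.{u}) := by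
  let i := X.fromSpecResidueField (genericPoint X)
  let j := Y.fromSpecResidueField (genericPoint Y)
  let J := pullback.map (i ≫ f) (j ≫ g) f g i j (𝟙 _) (by simp) (by simp)
  have : IrreducibleSpace (pullback (i ≫ f) (j ≫ g) : Scheme.{u}) :=
    irreducibleSpace_pullback_spec (i ≫ f) (j ≫ g)
  refine { isPreirreducible_univ := ?_, toNonempty := ?_ }
  suffices h : Set.univ ⊆ closure (Set.range J) by
    have : IsIrreducible (closure (Set.range J)) := by
      rw [← Set.image_univ]
      exact ((IrreducibleSpace.isIrreducible_univ _).image J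
        J.continuous.continuousOn).closure
    rw [Set.univ_subset_iff] at h
    rw [h] at this
    exact this.2
  · intro p _
    obtain ⟨p₁, hp₁, hp₁'⟩ := Flat.generalizingMap (pullback.fst f g)
      (genericPoint_specializes (pullback.fst f g p))
    let I := pullback.map (i ≫ f) g f g i (𝟙 _) (𝟙 _) (by simp) (by simp)
    obtain ⟨p₁', rfl⟩ : p₁ ∈ Set.range I := by
      rw [Scheme.Pullback.range_map]
      refine ⟨⟨default, ?_⟩, ⟨_, rfl⟩⟩
      rw [Scheme.fromSpecResidueField_apply]
      exact hp₁'.symm
    let π := pullback.snd (i ≫ f) g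
    obtain ⟨p₂, hp₂, hp₂'⟩ := Flat.generalizingMap π (genericPoint_specializes (π p₁'))
    refine ((hp₂.map I.continuous).trans hp₁).mem_closed isClosed_closure (subset_closure ?_)
    rw [Scheme.Pullback.range_map]
    refine ⟨⟨default, ?_⟩, ⟨default, ?_⟩⟩
    · rw [Scheme.fromSpecResidueField_apply, ← Scheme.Hom.comp_apply, pullback.lift_fst,
        Scheme.Hom.comp_apply, Scheme.fromSpecResidueField_apply]
    · rw [Scheme.fromSpecResidueField_apply, ← Scheme.Hom.comp_apply, pullback.lift_snd,
        Category.comp_id]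
      exact hp₂'.symm
  · obtain ⟨p⟩ := (this.toNonempty : Nonempty ↥(pullback (i ≫ f) (j ≫ g)))
    exact ⟨J p⟩

variable {K : Type u} [Field K] (G : Over (Spec (CommRingCat.of K)))
  (o : 𝟙_ (Over (Spec (CommRingCat.of K))) ⟶ G)

/-- The component through the unit stays irreducible after base change to an algebraic closure. -/
theorem irreducibleSpace_component_algebraicClosure (Zo : Over (Spec (CommRingCat.of K)))
    (inclo : Zo ⟶ G) [IsClosedImmersion inclo.left] [IrreducibleSpace Zo.left]
    (hZ : Set.range inclo.left ∈ irreducibleComponents G.left)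
    (he : o.left (IsLocalRing.closedPoint K) ∈ Set.range inclo.left)
    (hdir : ∀ {y₁ y₂ : ↥(Over.mk (Spec.map (CommRingCat.ofHom (algebraMap K (AlgebraicClosure K)))) ⊗
        G).left},
      y₁ ⤳ (lift (𝟙 _) (toUnit _ ≫ o)).left (default : Spec (CommRingCat.of (AlgebraicClosure K))) →
      y₂ ⤳ (lift (𝟙 _) (toUnit _ ≫ o)).left (default : Spec (CommRingCat.of (AlgebraicClosure K))) →
      ∃ z, z ⤳ y₁ ∧ z ⤳ y₂) :
    IrreducibleSpace (Over.mk (Spec.map (CommRingCat.ofHom (algebraMap K (AlgebraicClosure K)))) ⊗
      Zo).left := by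
  let L := AlgebraicClosure K
  let b : Spec (CommRingCat.of L) ⟶ Spec (CommRingCat.of K) :=
    Spec.map (CommRingCat.ofHom (algebraMap K L))
  let A : Over (Spec (CommRingCat.of K)) := Over.mk b
  have : IsIntegralHom b :=
    IsIntegralHom.SpecMap_iff.mpr (algebraMap_isIntegral_iff.mpr inferInstance)
  let π : (A ⊗ Zo).left ⟶ Zo.left := (snd A Zo).left
  have : IsIntegralHom π := MorphismProperty.pullback_snd A.hom Zo.hom ‹IsIntegralHom b›
  have : Flat π := inferInstanceAs (Flat (pullback.snd b Zo.hom))
  let Φ : (A ⊗ Zo).left ⟶ (A ⊗ G).left := (A ◁ inclo).left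
  have : IsClosedImmersion Φ := by
    have e : A ◁ inclo = (β_ A Zo).hom ≫ (inclo ▷ A) ≫ (β_ G A).hom := by ext <;> simp
    have := whiskerRight_property @IsClosedImmersion inclo A inferInstance
    have := isIso_left (β_ A Zo).hom
    have := isIso_left (β_ G A).hom
    show IsClosedImmersion (A ◁ inclo).left
    rw [e, Over.comp_left, Over.comp_left]
    infer_instance
  have hΦ : Φ ≫ (snd A G).left = π ≫ inclo.left := by
    rw [← Over.comp_left, whiskerLeft_snd]
    rfl
  let g : A ⟶ G := toUnit A ≫ o
  let ε := lift (𝟙 A) g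
  have hε₀ : ε.left ≫ (snd A G).left = A.hom ≫ o.left := by
    rw [← Over.comp_left, lift_snd]
    rfl
  have hεimg : (snd A G).left (ε.left (default : Spec (CommRingCat.of L))) =
      o.left (IsLocalRing.closedPoint K) := by
    rw [← Scheme.Hom.comp_apply, hε₀, Scheme.Hom.comp_apply]
    exact congrArg o.left (Subsingleton.elim (α := Spec (CommRingCat.of K)) _ _)
  -- the point over the unit
  obtain ⟨z₀, hz₀⟩ := he
  have hfib : ∀ w : ↥(A ⊗ Zo).left, π w = z₀ →
      Φ w = ε.left (default : Spec (CommRingCat.of L)) := by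
    intro w hw
    have hmem : Φ w ∈ Set.range ε.left := by
      have e1 : (snd A G).left (Φ w) = o.left (IsLocalRing.closedPoint K) := by
        rw [← Scheme.Hom.comp_apply, hΦ, Scheme.Hom.comp_apply, hw, hz₀]
      let ψ : A ⊗ 𝟙_ _ ⟶ A ⊗ G := A ◁ o
      have hψ : Φ w ∈ Set.range ψ.left := by
        rw [Over.whiskerLeft_left, Scheme.Pullback.range_map]
        exact ⟨⟨_, rfl⟩, ⟨_, e1.symm⟩⟩
      obtain ⟨v, hv⟩ := hψ
      have hψε : (ρ_ A).inv ≫ ψ = ε := by ext <;> simp [ψ, ε, g]
      have := isIso_left (ρ_ A).inv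
      obtain ⟨v', rfl⟩ := ((ρ_ A).inv.left.homeomorph.surjective v)
      refine ⟨v', ?_⟩
      rw [← hψε, Over.comp_left, Scheme.Hom.comp_apply]
      exact hv
    obtain ⟨v, hv⟩ := hmem
    rw [← hv]
    exact congrArg ε.left (Subsingleton.elim (α := Spec (CommRingCat.of L)) _ _)
  -- maximal points lie over the generic point
  let η₀ := genericPoint Zo.left
  have hmax : ∀ y : G.left, y ⤳ inclo.left η₀ → y = inclo.left η₀ := by
    intro y hy
    have hgen : IsGenericPoint (inclo.left η₀) (Set.range inclo.left) := by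
      have := (genericPoint_spec Zo.left).image inclo.left.continuous
      rwa [Set.image_univ, inclo.left.isClosedEmbedding.isClosed_range.closure_eq] at this
    have e : Set.range inclo.left = closure {y} :=
      hZ.eq_of_le isIrreducible_singleton.closure (by
        rw [← hgen.def]; exact hy.closure_subset)
    exact (IsGenericPoint.eq (S := closure {y}) rfl (by rw [← e]; exact hgen))
  have hgenpt : ∀ C ∈ irreducibleComponents ↥(A ⊗ Zo).left, ∃ c, IsGenericPoint c C ∧
      π c = η₀ ∧ Φ c ⤳ ε.left (default : Spec (CommRingCat.of L)) := by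
    intro C hC
    obtain ⟨c, hc⟩ := QuasiSober.sober hC.1 (isClosed_of_mem_irreducibleComponents C hC)
    obtain ⟨c', hc', hπc'⟩ := Flat.generalizingMap π (genericPoint_specializes (π c))
    have hc'' : c' = c := by
      have e : C = closure {c'} := hC.eq_of_le isIrreducible_singleton.closure (by
        rw [← hc.def]; exact hc'.closure_subset)
      exact IsGenericPoint.eq (S := closure {c'}) rfl (by rw [← e]; exact hc)
    subst hc''
    refine ⟨c', hc, hπc', ?_⟩
    have hclosed : IsClosed (π '' C) := π.isClosedMap _ (isClosed_of_mem_irreducibleComponents C hC)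
    have hη : η₀ ∈ π '' C := ⟨c', hc.mem, hπc'⟩
    obtain ⟨w, hw, hwz⟩ : z₀ ∈ π '' C :=
      (genericPoint_specializes z₀).mem_closed hclosed hη
    rw [← hfib w hwz]
    exact (hc.specializes hw).map Φ.continuous
  have hne : Nonempty ↥(A ⊗ Zo).left := by
    obtain ⟨w, -⟩ := Scheme.Pullback.exists_preimage_pullback (f := b) (g := Zo.hom)
      (default : Spec (CommRingCat.of L)) z₀ (Subsingleton.elim (α := Spec (CommRingCat.of K)) _ _)
    exact ⟨w⟩
  obtain ⟨p₀⟩ := hne
  have huniq : ∀ C₁ ∈ irreducibleComponents ↥(A ⊗ Zo).left,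
      ∀ C₂ ∈ irreducibleComponents ↥(A ⊗ Zo).left, C₁ = C₂ := by
    intro C₁ h₁ C₂ h₂
    obtain ⟨c₁, hc₁, hπ₁, hs₁⟩ := hgenpt C₁ h₁
    obtain ⟨c₂, hc₂, hπ₂, hs₂⟩ := hgenpt C₂ h₂
    obtain ⟨z, hz₁, hz₂⟩ := hdir hs₁ hs₂
    have hzπ : (snd A G).left z = inclo.left η₀ := by
      apply hmax
      have := hz₁.map (snd A G).left.continuous
      rwa [← Scheme.Hom.comp_apply, hΦ, Scheme.Hom.comp_apply, hπ₁] at this
    obtain ⟨z', rfl⟩ : z ∈ Set.range Φ := by
      show z ∈ Set.range (A ◁ inclo).left
      rw [Over.whiskerLeft_left, Scheme.Pullback.range_map]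
      exact ⟨⟨_, rfl⟩, ⟨η₀, hzπ.symm⟩⟩
    have h₁' : z' ⤳ c₁ := Φ.isEmbedding.isInducing.specializes_iff.mp hz₁
    have h₂' : z' ⤳ c₂ := Φ.isEmbedding.isInducing.specializes_iff.mp hz₂
    have e₁ : C₁ = closure {z'} := h₁.eq_of_le isIrreducible_singleton.closure (by
      rw [← hc₁.def]; exact h₁'.closure_subset)
    have e₂ : C₂ = closure {z'} := h₂.eq_of_le isIrreducible_singleton.closure (by
      rw [← hc₂.def]; exact h₂'.closure_subset)
    rw [e₁, e₂]
  have huniv : irreducibleComponent p₀ = Set.univ := Set.eq_univ_of_forall fun x => by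
    rw [huniq _ (irreducibleComponent_mem_irreducibleComponents p₀) _
      (irreducibleComponent_mem_irreducibleComponents x)]
    exact mem_irreducibleComponent
  have := isIrreducible_irreducibleComponent (x := p₀)
  rw [huniv] at this
  exact { isPreirreducible_univ := this.2, toNonempty := ⟨p₀⟩ }

/-- An irreducible component through a rational point at which generalizations stay directed is
geometrically irreducible. -/
theorem geometricallyIrreducible_component_of_directed {Z : Scheme.{u}} (incl : Z ⟶ G.left)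
    [IsClosedImmersion incl] [IrreducibleSpace Z]
    (hZ : Set.range incl ∈ irreducibleComponents G.left)
    (he : o.left (IsLocalRing.closedPoint K) ∈ Set.range incl)
    (hdir : ∀ {y₁ y₂ : ↥(Over.mk (Spec.map (CommRingCat.ofHom (algebraMap K (AlgebraicClosure K)))) ⊗
        G).left},
      y₁ ⤳ (lift (𝟙 _) (toUnit _ ≫ o)).left (default : Spec (CommRingCat.of (AlgebraicClosure K))) →
      y₂ ⤳ (lift (𝟙 _) (toUnit _ ≫ o)).left (default : Spec (CommRingCat.of (AlgebraicClosure K))) →
      ∃ z, z ⤳ y₁ ∧ z ⤳ y₂) :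
    GeometricallyIrreducible (incl ≫ G.hom) := by
  let Zo : Over (Spec (CommRingCat.of K)) := Over.mk (incl ≫ G.hom)
  let inclo : Zo ⟶ G := Over.homMk incl rfl
  have : IsClosedImmersion inclo.left := ‹IsClosedImmersion incl›
  have : IrreducibleSpace Zo.left := ‹IrreducibleSpace Z›
  let Kb := AlgebraicClosure K
  let bK : Spec (CommRingCat.of Kb) ⟶ Spec (CommRingCat.of K) :=
    Spec.map (CommRingCat.ofHom (algebraMap K Kb))
  have hKb : IrreducibleSpace (pullback bK Zo.hom : Scheme.{u}) :=
    irreducibleSpace_component_algebraicClosure G o Zo inclo hZ he hdir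
  have key : ∀ (L : Type u) [Field L] [IsAlgClosed L] (b : Spec (CommRingCat.of L) ⟶
      Spec (CommRingCat.of K)), IrreducibleSpace (pullback Zo.hom b : Scheme.{u}) := by
    intro L _ _ b
    obtain ⟨φ, rfl⟩ := Spec.map_surjective b
    let _ : Algebra K L := φ.hom.toAlgebra
    let σ : Kb →ₐ[K] L := IsAlgClosed.lift
    have hσ : Spec.map (CommRingCat.ofHom σ.toRingHom) ≫ bK = Spec.map φ := by
      rw [← Spec.map_comp]
      congr 1
      ext x
      exact σ.commutes x
    have : IrreducibleSpace (pullback Zo.hom bK : Scheme.{u}) :=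
      (pullbackSymmetry bK Zo.hom).hom.homeomorph.surjective.irreducibleSpace
        (pullbackSymmetry bK Zo.hom).hom.continuous
    have : IrreducibleSpace (pullback (pullback.snd Zo.hom bK)
        (Spec.map (CommRingCat.ofHom σ.toRingHom)) : Scheme.{u}) :=
      irreducibleSpace_pullback _ _
    let e := pullbackLeftPullbackSndIso Zo.hom bK (Spec.map (CommRingCat.ofHom σ.toRingHom)) ≪≫
      pullback.congrHom rfl hσ
    exact e.hom.homeomorph.surjective.irreducibleSpace e.hom.continuous
  constructor
  intro M _ y W fst snd h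
  let L := AlgebraicClosure M
  let j : Spec (CommRingCat.of L) ⟶ Spec (CommRingCat.of M) :=
    Spec.map (CommRingCat.ofHom (algebraMap M L))
  have := key L (j ≫ y)
  let J := pullback.map Zo.hom (j ≫ y) Zo.hom y (𝟙 _) j (𝟙 _) (by simp) (by simp)
  have hJ : Function.Surjective J := by
    intro p
    show p ∈ Set.range J
    rw [Scheme.Pullback.range_map]
    refine ⟨⟨_, rfl⟩, ⟨default, ?_⟩⟩
    exact Subsingleton.elim (α := Spec (CommRingCat.of M)) _ _
  have : IrreducibleSpace (pullback Zo.hom y : Scheme.{u}) := hJ.irreducibleSpace J.continuous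
  have : IrreducibleSpace (pullback (incl ≫ G.hom) y : Scheme.{u}) := this
  exact h.isoPullback.inv.homeomorph.surjective.irreducibleSpace h.isoPullback.inv.continuous

variable [GrpObj G]

/-- The irreducible component through the unit is geometrically irreducible. -/
theorem geometricallyIrreducible_component {Z : Scheme.{u}} (incl : Z ⟶ G.left)
    [IsClosedImmersion incl] [IrreducibleSpace Z]
    (hZ : Set.range incl ∈ irreducibleComponents G.left)
    (he : η[G].left (IsLocalRing.closedPoint K) ∈ Set.range incl) :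
    GeometricallyIrreducible (incl ≫ G.hom) :=
  geometricallyIrreducible_component_of_directed G η[G] incl hZ he
    fun h₁ h₂ => exists_common_generization_baseChange G _ _ h₁ h₂

/-- In a locally noetherian space with disjoint irreducible components these are open. -/
theorem isOpen_irreducibleComponent_of_disjoint {X : Scheme.{u}} [IsLocallyNoetherian X]
    (hd : ∀ Z₁ ∈ irreducibleComponents X, ∀ Z₂ ∈ irreducibleComponents X, ∀ x : X,
      x ∈ Z₁ → x ∈ Z₂ → Z₁ = Z₂) (Z : Set X) (hZ : Z ∈ irreducibleComponents X) : IsOpen Z := by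
  rw [isOpen_iff_forall_mem_open]
  intro x hx
  obtain ⟨_, ⟨U₀, hU, rfl⟩, hxU, -⟩ := X.isBasis_affineOpens.exists_subset_of_mem_open
    (a := x) (Set.mem_univ _) isOpen_univ
  let U : X.Opens := U₀
  have : IsNoetherianRing Γ(X, U) := IsLocallyNoetherian.component_noetherian ⟨U, hU⟩
  have : IsAffine U.toScheme := hU
  have : IsNoetherian U.toScheme := by
    have : CompactSpace U.toScheme := isCompact_iff_compactSpace.mp hU.isCompact
    exact {}
  have hfin : (irreducibleComponents U.toScheme).Finite :=
    TopologicalSpace.NoetherianSpace.finite_irreducibleComponents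
  let T : Set (Set X) := {C | ∃ D ∈ irreducibleComponents U.toScheme, closure (U.ι '' D) = C}
  have hT : T.Finite := (hfin.image fun D => closure (U.ι '' D)).subset fun C ⟨D, hD, hC⟩ => ⟨D, hD, hC⟩
  refine ⟨(U : Set X) \ ⋃ C ∈ T \ {Z}, C, ?_, ?_, hxU, ?_⟩
  · intro y ⟨hyU, hy⟩
    obtain ⟨y', rfl⟩ : y ∈ Set.range U.ι := by rwa [Scheme.Opens.range_ι]
    by_contra hyZ
    refine hy (Set.mem_iUnion₂.mpr ⟨closure (U.ι '' irreducibleComponent y'),
      ⟨⟨_, irreducibleComponent_mem_irreducibleComponents y', rfl⟩, fun h => hyZ ?_⟩,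
      subset_closure ⟨y', mem_irreducibleComponent, rfl⟩⟩)
    rw [Set.mem_singleton_iff] at h
    rw [← h]
    exact subset_closure ⟨y', mem_irreducibleComponent, rfl⟩
  · refine U.2.sdiff ((hT.subset Set.sdiff_subset).isClosed_biUnion fun C hC => ?_)
    obtain ⟨⟨D, -, rfl⟩, -⟩ := hC
    exact isClosed_closure
  · simp only [Set.mem_iUnion, not_exists]
    rintro C ⟨⟨D, hD, rfl⟩, hne⟩ hxC
    apply hne
    have hirr : IsIrreducible (closure (U.ι '' D)) :=
      (hD.1.image U.ι U.ι.continuous.continuousOn).closure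
    obtain ⟨Z', hZ', hsub⟩ : ∃ Z' ∈ irreducibleComponents X, closure (U.ι '' D) ⊆ Z' := by
      obtain ⟨c, hc⟩ := QuasiSober.sober hirr isClosed_closure
      exact ⟨irreducibleComponent c, irreducibleComponent_mem_irreducibleComponents c,
        hc.def ▸ closure_minimal (Set.singleton_subset_iff.mpr mem_irreducibleComponent)
          isClosed_irreducibleComponent⟩
    have := hd Z' hZ' Z hZ x (hsub hxC) hx
    subst this
    refine Set.Subset.antisymm hsub ?_
    have hopen : (Z' ∩ (U : Set X)).Nonempty := ⟨x, hsub hxC, hxU⟩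
    have hD' : IsIrreducible (U.ι ⁻¹' Z') :=
      ⟨⟨⟨x, hxU⟩, hsub hxC⟩, hZ'.1.2.preimage U.ι.isOpenEmbedding⟩
    have e : D = U.ι ⁻¹' Z' := hD.eq_of_le hD' fun d hd' => hsub (subset_closure ⟨d, hd', rfl⟩)
    rw [e, Set.image_preimage_eq_inter_range, Scheme.Opens.range_ι]
    exact subset_closure_inter_of_isPreirreducible_of_isOpen hZ'.1.2 U.2 hopen

variable [LocallyOfFiniteType G.hom]

theorem isOpen_of_mem_irreducibleComponents {Z : Set G.left}
    (hZ : Z ∈ irreducibleComponents G.left) : IsOpen Z := by
  have : IsLocallyNoetherian G.left := LocallyOfFiniteType.isLocallyNoetherian G.hom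
  exact isOpen_irreducibleComponent_of_disjoint
    (fun Z₁ h₁ Z₂ h₂ x => irreducibleComponent_eq_of_mem G h₁ h₂) Z hZ

theorem connectedComponent_eq_irreducibleComponent (x : G.left) :
    connectedComponent x = irreducibleComponent x :=
  Set.Subset.antisymm
    ((IsClopen.connectedComponent_subset ⟨isClosed_irreducibleComponent,
      isOpen_of_mem_irreducibleComponents G (irreducibleComponent_mem_irreducibleComponents x)⟩)
      mem_irreducibleComponent)
    irreducibleComponent_subset_connectedComponent

end GrothLib.GrpSchField
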