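import Groth.Agent.Lib.GrpSchField.Shear
import Mathlib.AlgebraicGeometry.Morphisms.UniversallyOpen
import Mathlib.AlgebraicGeometry.Morphisms.QuasiSeparated
import Mathlib.AlgebraicGeometry.PullbackCarrier
import Mathlib.CategoryTheory.Monoidal.Cartesian.Over
import Mathlib.CategoryTheory.Limits.Constructions.Over.Connected
import Mathlib.Topology.LocallyClosed

/-!
Group schemes over a field: multiplication and translations are open, `U * V = G` for dense opens,
locally closed subgroups are closed, and there is an open and closed countable union of compact opens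
containing the unit.
-/

open CategoryTheory CategoryTheory.Limits MonoidalCategory CartesianMonoidalCategory MonObj GrpObj
open AlgebraicGeometry

namespace GrothLib.GrpSchField

universe u

variable {K : Type u} [Field K]

/-- A locally closed subset which is stable under a division operation is closed. -/
theorem isClosed_of_division_stable {R : Scheme.{u}} (s : R ⟶ Spec (CommRingCat.of K))
    (d : pullback s s ⟶ R) (S : Set R) (hlc : IsLocallyClosed S)
    (hdiag : ∀ x, d (pullback.diagonal s x) ∈ S)
    (hS : ∀ q, pullback.fst s s q ∈ S → pullback.snd s s q ∈ S → d q ∈ S)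
    (hS' : ∀ q, pullback.fst s s q ∈ S → d q ∈ S → pullback.snd s s q ∈ S) : IsClosed S := by
  have hmap : ∀ (a : R), ∃ F : pullback (R.fromSpecResidueField a ≫ s) s ⟶ pullback s s,
      (∀ p, pullback.fst s s (F p) = a) ∧
      (∀ p, pullback.snd s s (F p) = pullback.snd (R.fromSpecResidueField a ≫ s) s p) := fun a =>
    ⟨pullback.lift (pullback.fst _ _ ≫ R.fromSpecResidueField a) (pullback.snd _ _)
      (by rw [Category.assoc]; exact pullback.condition),
      fun p => by
        rw [← Scheme.Hom.comp_apply, pullback.lift_fst, Scheme.Hom.comp_apply,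
          Scheme.fromSpecResidueField_apply],
      fun p => by rw [← Scheme.Hom.comp_apply, pullback.lift_snd]⟩
  -- the closure is stable
  have hcl : ∀ q, pullback.fst s s q ∈ S → pullback.snd s s q ∈ closure S → d q ∈ closure S := by
    intro q hq₁ hq₂
    obtain ⟨F, hF₁, hF₂⟩ := hmap (pullback.fst s s q)
    let π := pullback.snd (R.fromSpecResidueField (pullback.fst s s q) ≫ s) s
    let J : pullback (R.fromSpecResidueField (pullback.fst s s q) ≫ s) s ⟶ pullback s s :=
      pullback.map _ _ s s (R.fromSpecResidueField (pullback.fst s s q)) (𝟙 R) (𝟙 _) (by simp) (by simp)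
    obtain ⟨p, hp⟩ : q ∈ Set.range J := by
      rw [Scheme.Pullback.range_map]
      exact ⟨⟨default, by rw [Scheme.fromSpecResidueField_apply]⟩, ⟨_, rfl⟩⟩
    have hp' : π p ∈ closure S := by
      have : pullback.snd s s (J p) = π p := by
        rw [← Scheme.Hom.comp_apply, pullback.lift_snd, Category.comp_id]
      rw [← this, hp]
      exact hq₂
    have hp'' : p ∈ closure (π ⁻¹' S) := by
      rw [← π.isOpenMap.preimage_closure_eq_closure_preimage π.continuous]
      exact hp'
    have := map_mem_closure (d.continuous.comp J.continuous) hp'' (t := S) fun r hr => by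
      refine hS _ ?_ ?_
      · rw [← Scheme.Hom.comp_apply, pullback.lift_fst, Scheme.Hom.comp_apply,
          Scheme.fromSpecResidueField_apply]
        exact hq₁
      · rw [← Scheme.Hom.comp_apply, pullback.lift_snd, Category.comp_id]
        exact hr
    rw [Function.comp_apply, hp] at this
    exact this
  refine isClosed_of_closure_subset fun x hx => ?_
  let π := pullback.snd (R.fromSpecResidueField x ≫ s) s
  let J : pullback (R.fromSpecResidueField x ≫ s) s ⟶ pullback s s :=
    pullback.lift π (pullback.fst _ _ ≫ R.fromSpecResidueField x)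
      (by rw [Category.assoc]; exact pullback.condition.symm)
  let σ : Spec (R.residueField x) ⟶ pullback (R.fromSpecResidueField x ≫ s) s :=
    pullback.lift (𝟙 _) (R.fromSpecResidueField x) (by rw [Category.id_comp])
  have hσ₁ : π (σ default) = x := by
    rw [← Scheme.Hom.comp_apply, pullback.lift_snd, Scheme.fromSpecResidueField_apply]
  have hσ₂ : σ ≫ J = R.fromSpecResidueField x ≫ pullback.diagonal s := by
    apply pullback.hom_ext
    · rw [Category.assoc, Category.assoc, pullback.diagonal_fst, Category.comp_id]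
      erw [pullback.lift_fst, pullback.lift_snd]
    · rw [Category.assoc, Category.assoc, pullback.diagonal_snd, Category.comp_id]
      erw [pullback.lift_snd, pullback.lift_fst_assoc]
      rw [Category.id_comp]
  have hσ₃ : d (J (σ default)) ∈ S := by
    rw [show J (σ default) = (σ ≫ J) default from rfl, hσ₂]
    exact hdiag _
  have hW : IsOpen ((J ≫ d) ⁻¹' coborder S) := hlc.isOpen_coborder.preimage (J ≫ d).continuous
  have hmem : σ default ∈ closure (π ⁻¹' S) := by
    rw [← π.isOpenMap.preimage_closure_eq_closure_preimage π.continuous, Set.mem_preimage, hσ₁]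
    exact hx
  obtain ⟨w, hw₁, hw₂⟩ := mem_closure_iff.mp hmem _ hW (subset_coborder hσ₃)
  have hJ₁ : pullback.fst s s (J w) = π w := by rw [← Scheme.Hom.comp_apply, pullback.lift_fst]
  have hJ₂ : pullback.snd s s (J w) = x := by
    rw [← Scheme.Hom.comp_apply, pullback.lift_snd, Scheme.Hom.comp_apply,
      Scheme.fromSpecResidueField_apply]
  have h₁ : d (J w) ∈ closure S := hcl _ (by rw [hJ₁]; exact hw₂) (by rw [hJ₂]; exact hx)
  have h₂ : d (J w) ∈ S := by
    rw [← coborder_inter_closure (s := S)]
    exact ⟨hw₁, h₁⟩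
  have h₃ := hS' _ (by rw [hJ₁]; exact hw₂) h₂
  rwa [hJ₂] at h₃

variable (G : Over (Spec (CommRingCat.of K))) [GrpObj G]

omit [GrpObj G] in
theorem universallyOpen_snd (A : Over (Spec (CommRingCat.of K))) :
    UniversallyOpen (snd A G).left :=
  inferInstanceAs (UniversallyOpen (pullback.snd A.hom G.hom))

/-- Left translation by a `T`-valued point is universally open. -/
theorem universallyOpen_translate {A : Over (Spec (CommRingCat.of K))} (g : A ⟶ G) :
    UniversallyOpen ((fst A G ≫ g) * snd A G).left := by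
  have : IsIso (lift (fst A G) ((fst A G ≫ g) * snd A G)) := by
    refine ⟨lift (fst A G) ((fst A G ≫ g)⁻¹ * snd A G), ?_, ?_⟩ <;>
      simp [comp_lift, MonObj.comp_mul, GrpObj.comp_inv]
  have : IsIso (lift (fst A G) ((fst A G ≫ g) * snd A G)).left := isIso_left _
  have := universallyOpen_snd G A
  rw [← lift_snd (fst A G) ((fst A G ≫ g) * snd A G), Over.comp_left]
  infer_instance

/-- Inversion followed by right translation by a `T`-valued point is universally open. -/
theorem universallyOpen_inv_translate {A : Over (Spec (CommRingCat.of K))} (g : A ⟶ G) :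
    UniversallyOpen ((snd A G)⁻¹ * (fst A G ≫ g)).left := by
  have : IsIso (lift (fst A G) ((snd A G)⁻¹ * (fst A G ≫ g))) := by
    refine ⟨lift (fst A G) ((fst A G ≫ g) * (snd A G)⁻¹), ?_, ?_⟩ <;>
      simp [comp_lift, MonObj.comp_mul, GrpObj.comp_inv]
  have : IsIso (lift (fst A G) ((snd A G)⁻¹ * (fst A G ≫ g))).left := isIso_left _
  have := universallyOpen_snd G A
  rw [← lift_snd (fst A G) ((snd A G)⁻¹ * (fst A G ≫ g)), Over.comp_left]
  infer_instance

/-- The product of two dense opens of a group scheme over a field is everything. -/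
theorem exists_mul_mem_of_dense {U V : Set G.left} (hU : IsOpen U) (hUd : Dense U)
    (hVd : Dense V) (x : G.left) :
    ∃ q : ↥(G ⊗ G).left, (fst G G).left q ∈ U ∧ (snd G G).left q ∈ V ∧ μ[G].left q = x := by
  let A : Over (Spec (CommRingCat.of K)) := Over.mk (G.left.fromSpecResidueField x ≫ G.hom)
  let g : A ⟶ G := Over.homMk (G.left.fromSpecResidueField x) rfl
  let φ := (snd A G)⁻¹ * (fst A G ≫ g)
  let π := (snd A G).left
  have := universallyOpen_snd G A
  have := universallyOpen_inv_translate G g
  have : Nonempty A.left := inferInstanceAs (Nonempty (Spec (G.left.residueField x)))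
  have : Nonempty ↥(A ⊗ G).left := by
    obtain ⟨p⟩ := this
    exact ⟨(lift (𝟙 A) g).left p⟩
  obtain ⟨w, hw₁, hw₂⟩ := ((hUd.preimage π.isOpenMap).inter_of_isOpen_left
    (hVd.preimage φ.left.isOpenMap) (hU.preimage π.continuous)).nonempty
  refine ⟨(lift (snd A G) φ).left w, ?_, ?_, ?_⟩
  · rw [← Scheme.Hom.comp_apply, ← Over.comp_left, lift_fst]; exact hw₁
  · rw [← Scheme.Hom.comp_apply, ← Over.comp_left, lift_snd]; exact hw₂
  · rw [← Scheme.Hom.comp_apply, ← Over.comp_left, ← Hom.mul_def, mul_inv_cancel_left,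
      Over.comp_left, Scheme.Hom.comp_apply]
    exact Scheme.fromSpecResidueField_apply _ _

/-- The division `(a, b) ↦ b a⁻¹`. -/
noncomputable abbrev divSwap : G ⊗ G ⟶ G := snd G G * (fst G G)⁻¹

theorem universallyOpen_divSwap : UniversallyOpen (divSwap G).left := by
  have := universallyOpen_inv_translate G (𝟙 G)
  have : IsIso (β_ G G).hom.left := isIso_left _
  have e : divSwap G = (ι[G] ▷ G) ≫ (β_ G G).hom ≫ μ[G] := by
    rw [divSwap, Hom.mul_def, ← Category.assoc]
    congr 1
    ext <;> simp [Hom.inv_def]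
  have : IsIso (ι[G] ▷ G).left := isIso_left _
  have := universallyOpen_translate G (𝟙 G)
  have hμ : UniversallyOpen μ[G].left := by
    simpa [Hom.mul_def] using this
  rw [e, Over.comp_left, Over.comp_left]
  infer_instance

theorem mul_universallyOpen : UniversallyOpen μ[G].left := by
  simpa [Hom.mul_def] using universallyOpen_translate G (𝟙 G)

variable {G}

omit [GrpObj G] in
/-- Operations commuting with a homomorphism preserve its image. -/
theorem mem_range_of_pair {H : Over (Spec (CommRingCat.of K))} {ψ : H ⟶ G} {f : G ⊗ G ⟶ G}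
    {f' : H ⊗ H ⟶ H} (hf : (ψ ⊗ₘ ψ) ≫ f = f' ≫ ψ) {q : ↥(G ⊗ G).left}
    (h₁ : (fst G G).left q ∈ Set.range ψ.left) (h₂ : (snd G G).left q ∈ Set.range ψ.left) :
    f.left q ∈ Set.range ψ.left := by
  obtain ⟨q₀, rfl⟩ : q ∈ Set.range (ψ ⊗ₘ ψ).left := by
    rw [Over.tensorHom_left]
    exact (Scheme.Pullback.range_map _ _ _ _ _ _ _ _ _).ge ⟨h₁, h₂⟩
  rw [← Scheme.Hom.comp_apply, ← Over.comp_left, hf, Over.comp_left, Scheme.Hom.comp_apply]
  exact ⟨_, rfl⟩

/-- A set containing the unit and stable under division and multiplication is closed as soon as it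
is locally closed. -/
theorem isClosed_of_isLocallyClosed_of_stable {S : Set G.left} (hlc : IsLocallyClosed S)
    (hone : η[G].left (IsLocalRing.closedPoint K) ∈ S)
    (hd : ∀ q, (fst G G).left q ∈ S → (snd G G).left q ∈ S → (divSwap G).left q ∈ S)
    (hm : ∀ q, (fst G G).left q ∈ S → (snd G G).left q ∈ S → (snd G G * fst G G).left q ∈ S) :
    IsClosed S := by
  refine isClosed_of_division_stable G.hom (divSwap G).left S hlc (fun x => ?_) hd fun q h₁ h₂ => ?_
  · have e : lift (𝟙 G) (𝟙 G) ≫ divSwap G = toUnit G ≫ η[G] := by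
      rw [divSwap, MonObj.comp_mul, GrpObj.comp_inv, lift_fst, lift_snd, mul_inv_cancel, Hom.one_def]
    have h := congrArg (fun f : G ⟶ G => f.left x) e
    simp only [Over.comp_left, Scheme.Hom.comp_apply, Over.lift_left] at h
    refine Eq.subst (motive := (· ∈ S)) ?_ hone
    rw [show η[G].left (IsLocalRing.closedPoint K) = η[G].left ((toUnit G).left x) from
      congrArg η[G].left (Subsingleton.elim (α := Spec (CommRingCat.of K)) _ _)]
    exact h.symm
  · let F : G ⊗ G ⟶ G ⊗ G := lift (fst G G) (divSwap G)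
    have e : F ≫ (snd G G * fst G G) = snd G G := by
      simp [F, divSwap, MonObj.comp_mul]
    have := hm (F.left q) (by rwa [← Scheme.Hom.comp_apply, ← Over.comp_left, lift_fst])
      (by rwa [← Scheme.Hom.comp_apply, ← Over.comp_left, lift_snd])
    rw [← Scheme.Hom.comp_apply, ← Over.comp_left, e] at this
    exact this

/-- The image of a homomorphism of group schemes over a field is closed if it is locally closed. -/
theorem isClosed_range_of_isLocallyClosed {H : Over (Spec (CommRingCat.of K))} [GrpObj H]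
    (ψ : H ⟶ G) [IsMonHom ψ] (hlc : IsLocallyClosed (Set.range ψ.left)) :
    IsClosed (Set.range ψ.left) := by
  refine isClosed_of_isLocallyClosed_of_stable hlc ?_
    (fun q => mem_range_of_pair (f' := divSwap H) ?_)
    (fun q => mem_range_of_pair (f' := snd H H * fst H H) ?_)
  · refine ⟨η[H].left (IsLocalRing.closedPoint K), ?_⟩
    rw [← Scheme.Hom.comp_apply, ← Over.comp_left, IsMonHom.one_hom]
  · simp [divSwap, MonObj.comp_mul, GrpObj.comp_inv, MonObj.mul_comp, GrpObj.inv_comp]
  · simp [MonObj.comp_mul, MonObj.mul_comp]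

variable (G)

omit [GrpObj G] in
theorem isCompact_pairs {W : G.left.Opens} (hW : IsCompact (W : Set G.left)) :
    IsCompact ((fst G G).left ⁻¹' (W : Set G.left) ∩ (snd G G).left ⁻¹' (W : Set G.left)) := by
  have : CompactSpace W.toScheme := isCompact_iff_compactSpace.mp hW
  have : QuasiCompact (W.ι ≫ G.hom) := (quasiCompact_iff_compactSpace _).mpr this
  have : CompactSpace ↥(pullback (W.ι ≫ G.hom) (W.ι ≫ G.hom)) :=
    (quasiCompact_iff_compactSpace (pullback.fst _ _ ≫ W.ι ≫ G.hom)).mp inferInstance
  let J := pullback.map (W.ι ≫ G.hom) (W.ι ≫ G.hom) G.hom G.hom W.ι W.ι (𝟙 _) (by simp) (by simp)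
  have h := isCompact_range J.continuous
  rw [Scheme.Pullback.range_map, Scheme.Opens.range_ι] at h
  exact h

theorem exists_compact_open_step (W : G.left.Opens) (hW : IsCompact (W : Set G.left)) :
    ∃ W' : G.left.Opens, IsCompact (W' : Set G.left) ∧ W ≤ W' ∧
      ∀ q : ↥(G ⊗ G).left, (fst G G).left q ∈ W → (snd G G).left q ∈ W →
        (divSwap G).left q ∈ W' ∧ (snd G G * fst G G).left q ∈ W' := by
  let P : Set ↥(G ⊗ G).left :=
    (fst G G).left ⁻¹' (W : Set G.left) ∩ (snd G G).left ⁻¹' (W : Set G.left)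
  have hPc : IsCompact P := isCompact_pairs G hW
  have hPo : IsOpen P := (W.2.preimage (fst G G).left.continuous).inter
    (W.2.preimage (snd G G).left.continuous)
  have := universallyOpen_divSwap G
  have hm : UniversallyOpen (snd G G * fst G G).left := by
    have : IsIso (β_ G G).hom.left := isIso_left _
    have := mul_universallyOpen G
    have e : snd G G * fst G G = (β_ G G).hom ≫ μ[G] := by
      rw [Hom.mul_def]
      congr 1
    rw [e, Over.comp_left]
    infer_instance
  refine ⟨⟨(W : Set G.left) ∪ ((divSwap G).left '' P ∪ (snd G G * fst G G).left '' P),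
    W.2.union (((divSwap G).left.isOpenMap _ hPo).union
      ((snd G G * fst G G).left.isOpenMap _ hPo))⟩, ?_, Set.subset_union_left, fun q h₁ h₂ => ?_⟩
  · exact hW.union ((hPc.image (divSwap G).left.continuous).union
      (hPc.image (snd G G * fst G G).left.continuous))
  · exact ⟨Or.inr (Or.inl ⟨q, ⟨h₁, h₂⟩, rfl⟩), Or.inr (Or.inr ⟨q, ⟨h₁, h₂⟩, rfl⟩)⟩

/-- A group scheme over a field has an open and closed subset containing the unit which is a
countable union of compact opens. -/
theorem exists_clopen_iUnion_compact :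
    ∃ (U : G.left.Opens) (W : ℕ → G.left.Opens), IsClosed (U : Set G.left) ∧ η[G].left (IsLocalRing.closedPoint K) ∈ U ∧
      (∀ n, IsCompact (W n : Set G.left)) ∧ (U : Set G.left) = ⋃ n, (W n : Set G.left) := by
  obtain ⟨W₀, hW₀, he, -⟩ := G.left.isBasis_affineOpens.exists_subset_of_mem_open
    (a := η[G].left (IsLocalRing.closedPoint K)) (Set.mem_univ _) isOpen_univ
  obtain ⟨W₀, hW₀', rfl⟩ := hW₀
  choose f hfc hfle hf using exists_compact_open_step G
  let T : ℕ → {W : G.left.Opens // IsCompact (W : Set G.left)} := fun n =>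
    Nat.rec ⟨W₀, hW₀'.isCompact⟩ (fun _ W => ⟨f W.1 W.2, hfc W.1 W.2⟩) n
  have hmono : Monotone fun n => (T n).1 := monotone_nat_of_le_succ fun n => hfle _ _
  have key : ∀ q : ↥(G ⊗ G).left, (fst G G).left q ∈ ⋃ n, ((T n).1 : Set G.left) →
      (snd G G).left q ∈ ⋃ n, ((T n).1 : Set G.left) →
      ∃ n, (divSwap G).left q ∈ (T n).1 ∧ (snd G G * fst G G).left q ∈ (T n).1 := by
    intro q h₁ h₂
    obtain ⟨i, hi⟩ := Set.mem_iUnion.mp h₁
    obtain ⟨j, hj⟩ := Set.mem_iUnion.mp h₂
    exact ⟨max i j + 1, hf _ (T (max i j)).2 q (hmono (le_max_left i j) hi)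
      (hmono (le_max_right i j) hj)⟩
  have ho : IsOpen (⋃ n, ((T n).1 : Set G.left)) := isOpen_iUnion fun n => (T n).1.2
  have hmem : η[G].left (IsLocalRing.closedPoint K) ∈ ⋃ n, ((T n).1 : Set G.left) := Set.mem_iUnion.mpr ⟨0, he⟩
  refine ⟨⟨_, ho⟩, fun n => (T n).1, ?_, hmem, fun n => (T n).2, rfl⟩
  refine isClosed_of_isLocallyClosed_of_stable ho.isLocallyClosed hmem (fun q h₁ h₂ => ?_)
    (fun q h₁ h₂ => ?_)
  · obtain ⟨n, hn, -⟩ := key q h₁ h₂; exact Set.mem_iUnion.mpr ⟨n, hn⟩
  · obtain ⟨n, -, hn⟩ := key q h₁ h₂; exact Set.mem_iUnion.mpr ⟨n, hn⟩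

end GrothLib.GrpSchField
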