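import Groth.Agent.Lib.GrpSchField.DimStalk
import Groth.Agent.Lib.GrpSchField.Components
import Groth.Agent.Lib.GrpSchField.Open
import Mathlib.AlgebraicGeometry.AlgClosed.Basic
import Mathlib.Topology.JacobsonSpace

/-!
Group schemes locally of finite type over a field are equidimensional.
-/

open CategoryTheory CategoryTheory.Limits MonoidalCategory CartesianMonoidalCategory MonObj GrpObj
open AlgebraicGeometry TopologicalSpace

namespace GrothLib.GrpSchField

universe u

variable {K : Type u} [Field K] (G : Over (Spec (CommRingCat.of K))) [GrpObj G]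
  [LocallyOfFiniteType G.hom]

omit [LocallyOfFiniteType G.hom] in
/-- After base change to an algebraically closed field, translations identify the components through
rational points. -/
theorem topologicalKrullDim_component_translate {L : Type u} [Field L] [IsAlgClosed L]
    (b : Spec (CommRingCat.of L) ⟶ Spec (CommRingCat.of K)) (g₁ g₂ : Over.mk b ⟶ G)
    {W₁ W₂ : Set ↥(Over.mk b ⊗ G).left}
    (hW₁ : W₁ ∈ irreducibleComponents _) (hW₂ : W₂ ∈ irreducibleComponents _)
    (h₁ : (lift (𝟙 (Over.mk b)) g₁).left (default : Spec (CommRingCat.of L)) ∈ W₁)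
    (h₂ : (lift (𝟙 (Over.mk b)) g₂).left (default : Spec (CommRingCat.of L)) ∈ W₂) :
    topologicalKrullDim W₁ = topologicalKrullDim W₂ := by
  let A : Over (Spec (CommRingCat.of K)) := Over.mk b
  obtain ⟨γ, hγ⟩ : ∃ γ : A ⟶ G, γ = g₂ * g₁⁻¹ := ⟨_, rfl⟩
  let τ : A ⊗ G ⟶ A ⊗ G := lift (fst A G) ((fst A G ≫ γ) * snd A G)
  have hτ : IsIso τ := by
    refine ⟨lift (fst A G) ((fst A G ≫ γ)⁻¹ * snd A G), ?_, ?_⟩ <;>
      simp [τ, comp_lift, MonObj.comp_mul, GrpObj.comp_inv]
  have : IsIso τ.left := isIso_left τ
  have hτε : lift (𝟙 A) g₁ ≫ τ = lift (𝟙 A) g₂ := by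
    simp [τ, hγ, comp_lift, MonObj.comp_mul, GrpObj.comp_inv]
  have hpt : τ.left ((lift (𝟙 A) g₁).left (default : Spec (CommRingCat.of L))) =
      (lift (𝟙 A) g₂).left (default : Spec (CommRingCat.of L)) := by
    rw [← Scheme.Hom.comp_apply, ← Over.comp_left, hτε]
  -- the component through a rational point is unique
  have huniq : ∀ Z ∈ irreducibleComponents ↥(A ⊗ G).left,
      (lift (𝟙 A) g₂).left (default : Spec (CommRingCat.of L)) ∈ Z → Z = W₂ := by
    intro Z hZ hmem
    obtain ⟨c₁, hc₁⟩ := QuasiSober.sober hZ.1 (isClosed_of_mem_irreducibleComponents Z hZ)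
    obtain ⟨c₂, hc₂⟩ := QuasiSober.sober hW₂.1 (isClosed_of_mem_irreducibleComponents _ hW₂)
    obtain ⟨z, hz₁, hz₂⟩ := exists_common_generization_baseChange G b g₂ (hc₁.specializes hmem)
      (hc₂.specializes h₂)
    have e₁ : Z = closure {z} := hZ.eq_of_le isIrreducible_singleton.closure (by
      rw [← hc₁.def]; exact hz₁.closure_subset)
    have e₂ : W₂ = closure {z} := hW₂.eq_of_le isIrreducible_singleton.closure (by
      rw [← hc₂.def]; exact hz₂.closure_subset)
    rw [e₁, e₂]
  have hpre : τ.left ⁻¹' W₂ ∈ irreducibleComponents ↥(A ⊗ G).left :=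
    preimage_mem_irreducibleComponents hW₂ τ.left.isOpenEmbedding
      ⟨_, h₂, ⟨_, hpt⟩⟩
  have himg : τ.left '' W₁ ∈ irreducibleComponents ↥(A ⊗ G).left := by
    have := preimage_mem_irreducibleComponents hW₁ (inv τ.left).isOpenEmbedding
      ⟨_, h₁, (inv τ.left).homeomorph.surjective _⟩
    convert this using 1
    ext p
    constructor
    · rintro ⟨q, hq, rfl⟩
      show inv τ.left (τ.left q) ∈ W₁
      rw [← Scheme.Hom.comp_apply, IsIso.hom_inv_id]
      exact hq
    · intro hp
      exact ⟨inv τ.left p, hp, by rw [← Scheme.Hom.comp_apply, IsIso.inv_hom_id]; rfl⟩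
  have e := huniq _ himg ⟨_, h₁, hpt⟩
  rw [← e]
  exact IsHomeomorph.topologicalKrullDim_eq _ (τ.left.homeomorph.image W₁).isHomeomorph

/-- All irreducible components of a group scheme locally of finite type over a field have the
dimension of the group. -/
theorem topologicalKrullDim_component {Z : Set G.left} (hZ : Z ∈ irreducibleComponents G.left) :
    topologicalKrullDim Z = topologicalKrullDim G.left := by
  let L := AlgebraicClosure K
  let b : Spec (CommRingCat.of L) ⟶ Spec (CommRingCat.of K) :=
    Spec.map (CommRingCat.ofHom (algebraMap K L))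
  let A : Over (Spec (CommRingCat.of K)) := Over.mk b
  let a : (A ⊗ G).left ⟶ Spec (CommRingCat.of L) := (fst A G).left
  let π : (A ⊗ G).left ⟶ G.left := (snd A G).left
  have : LocallyOfFiniteType a := inferInstanceAs (LocallyOfFiniteType (pullback.fst b G.hom))
  have : JacobsonSpace ↥(A ⊗ G).left := LocallyOfFiniteType.jacobsonSpace a
  have hsurj : Function.Surjective π := fun y => by
    obtain ⟨p, -, hp⟩ := Scheme.Pullback.exists_preimage_pullback (f := b) (g := G.hom)
      (default : Spec (CommRingCat.of L)) y (Subsingleton.elim (α := Spec (CommRingCat.of K)) _ _)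
    exact ⟨p, hp⟩
  -- every component of `G` is dominated by a component through a rational point
  have key : ∀ Z ∈ irreducibleComponents G.left, ∃ (g : A ⟶ G) (W : Set ↥(A ⊗ G).left),
      W ∈ irreducibleComponents _ ∧ (lift (𝟙 A) g).left (default : Spec (CommRingCat.of L)) ∈ W ∧
        topologicalKrullDim W = topologicalKrullDim Z := by
    intro Z hZ
    have hZo := isOpen_of_mem_irreducibleComponents G hZ
    have hZc := isClosed_of_mem_irreducibleComponents Z hZ
    obtain ⟨y, hy⟩ := hZ.1.nonempty
    obtain ⟨p, hp⟩ := hsurj y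
    obtain ⟨x, hx, hxc⟩ := nonempty_inter_closedPoints (Z := π ⁻¹' Z)
      ⟨p, by rw [Set.mem_preimage, hp]; exact hy⟩ (hZo.preimage π.continuous).isLocallyClosed
    let σ := pointOfClosedPoint a x hxc
    have hσ : σ ≫ a = 𝟙 _ := pointOfClosedPoint_comp a x hxc
    let g : A ⟶ G := Over.homMk (σ ≫ π) (by
      rw [Category.assoc, show π ≫ G.hom = (A ⊗ G).hom from Over.w (snd A G),
        ← show a ≫ A.hom = (A ⊗ G).hom from Over.w (fst A G), ← Category.assoc, hσ]
      exact Category.id_comp _)
    have hgσ : (lift (𝟙 A) g).left = σ := by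
      apply pullback.hom_ext
      · rw [Over.lift_left]
        exact (pullback.lift_fst _ _ _).trans hσ.symm
      · rw [Over.lift_left]
        exact pullback.lift_snd _ _ _
    have hpt : (lift (𝟙 A) g).left (default : Spec (CommRingCat.of L)) = x := by
      rw [hgσ]; exact pointOfClosedPoint_apply a x hxc _
    refine ⟨g, irreducibleComponent x, irreducibleComponent_mem_irreducibleComponents x,
      by rw [hpt]; exact mem_irreducibleComponent, ?_⟩
    have hsub : irreducibleComponent x ⊆ π ⁻¹' Z :=
      (irreducibleComponent_subset_connectedComponent).trans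
        (IsClopen.connectedComponent_subset ⟨hZc.preimage π.continuous, hZo.preimage π.continuous⟩ hx)
    let S : Set ↥(A ⊗ G).left := π ⁻¹' Z
    have hS : Topology.IsOpenEmbedding (Subtype.val : S → ↥(A ⊗ G).left) :=
      (hZo.preimage π.continuous).isOpenEmbedding_subtypeVal
    have hW := preimage_mem_irreducibleComponents (irreducibleComponent_mem_irreducibleComponents x)
      hS ⟨x, mem_irreducibleComponent, ⟨⟨x, hx⟩, rfl⟩⟩
    have h := GrothLib.Dim.topologicalKrullDim_component_preimage (L := L) G.hom hZc hZ.1 _ hW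
    rw [← h]
    refine (GrothLib.Dim.IsEmbedding.topologicalKrullDim_eq
      (f := fun w : (Subtype.val ⁻¹' irreducibleComponent x : Set S) => w.1.1)
      (Topology.IsEmbedding.subtypeVal.comp Topology.IsEmbedding.subtypeVal) ?_).symm
    ext q
    constructor
    · rintro ⟨w, rfl⟩; exact w.2
    · intro hq; exact ⟨⟨⟨q, hsub hq⟩, hq⟩, rfl⟩
  refine le_antisymm (topologicalKrullDim_subspace_le _ _) ?_
  refine GrothLib.Dim.topologicalKrullDim_le_of_cover
    (fun y : G.left => (⟨irreducibleComponent y, isOpen_of_mem_irreducibleComponents G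
      (irreducibleComponent_mem_irreducibleComponents y)⟩ : Opens G.left))
    (fun y => ⟨y, mem_irreducibleComponent⟩) fun y => ?_
  obtain ⟨g₁, W₁, hW₁, h₁, hd₁⟩ := key Z hZ
  obtain ⟨g₂, W₂, hW₂, h₂, hd₂⟩ := key _ (irreducibleComponent_mem_irreducibleComponents y)
  rw [← hd₁, topologicalKrullDim_component_translate G b g₁ g₂ hW₁ hW₂ h₁ h₂, hd₂]
  exact le_rfl

theorem ringKrullDim_stalk_eq {g : G.left} (hg : IsClosed ({g} : Set G.left)) :
    ringKrullDim (G.left.presheaf.stalk g) = topologicalKrullDim G.left := by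
  rw [← topologicalKrullDim_component G (irreducibleComponent_mem_irreducibleComponents g)]
  exact ringKrullDim_stalk_eq_of_isClosed G.hom isClosed_irreducibleComponent
    (isOpen_of_mem_irreducibleComponents G (irreducibleComponent_mem_irreducibleComponents g))
    isIrreducible_irreducibleComponent mem_irreducibleComponent hg

end GrothLib.GrpSchField
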