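import Groth.Agent.Lib.GrpSchField.HomFlat
import Groth.Agent.Lib.SchPoints.AlgClosed
import Mathlib.AlgebraicGeometry.Morphisms.FinitePresentation
import Mathlib.AlgebraicGeometry.Noetherian
import Mathlib.Topology.Constructible

/-!
Points with values in an algebraically closed extension, and flatness and surjectivity of
equivariant maps to homogeneous schemes.
-/

open CategoryTheory CategoryTheory.Limits MonoidalCategory CartesianMonoidalCategory MonObj GrpObj
open AlgebraicGeometry Topology

namespace GrothLib.GrpSchField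

universe u

theorem exists_isLocallyClosed_subset {α : Type*} [TopologicalSpace α] {s : Set α}
    (hs : IsConstructible s) {x : α} (hx : x ∈ s) :
    ∃ W, IsLocallyClosed W ∧ x ∈ W ∧ W ⊆ s := by
  suffices H : (∀ x ∈ s, ∃ W, IsLocallyClosed W ∧ x ∈ W ∧ W ⊆ s) ∧
      ∀ x ∈ sᶜ, ∃ W, IsLocallyClosed W ∧ x ∈ W ∧ W ⊆ sᶜ from H.1 x hx
  clear hx x
  induction hs using IsConstructible.empty_union_induction with
  | open_retrocompact U hU _ =>
    exact ⟨fun x hx => ⟨U, hU.isLocallyClosed, hx, subset_rfl⟩,
      fun x hx => ⟨Uᶜ, hU.isClosed_compl.isLocallyClosed, hx, subset_rfl⟩⟩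
  | union s _ t _ hs' ht' =>
    refine ⟨fun x hx => ?_, fun x hx => ?_⟩
    · rcases hx with hx | hx
      · obtain ⟨W, h1, h2, h3⟩ := hs'.1 x hx
        exact ⟨W, h1, h2, h3.trans Set.subset_union_left⟩
      · obtain ⟨W, h1, h2, h3⟩ := ht'.1 x hx
        exact ⟨W, h1, h2, h3.trans Set.subset_union_right⟩
    · rw [Set.compl_union] at hx ⊢
      obtain ⟨W, h1, h2, h3⟩ := hs'.2 x hx.1
      obtain ⟨W', h1', h2', h3'⟩ := ht'.2 x hx.2
      exact ⟨W ∩ W', h1.inter h1', ⟨h2, h2'⟩, Set.inter_subset_inter h3 h3'⟩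
  | compl s _ hs' => exact ⟨hs'.2, by simpa using hs'.1⟩

/-- A locally constructible set containing all closed points of a Jacobson space is everything. -/
theorem eq_univ_of_closedPoints_subset {α : Type*} [TopologicalSpace α] [JacobsonSpace α]
    {s : Set α} (hs : IsLocallyConstructible s) (h : closedPoints α ⊆ s) : s = Set.univ := by
  refine Set.eq_univ_of_forall fun x => by_contra fun hx => ?_
  obtain ⟨U, hxU, hU, hUs⟩ := hs x
  obtain ⟨W, hW, hxW, hWs⟩ := exists_isLocallyClosed_subset hUs.compl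
    (x := ⟨x, mem_of_mem_nhds hxU⟩) hx
  obtain ⟨_, ⟨y, hy, rfl⟩, hyc⟩ := nonempty_inter_closedPoints
    (Set.Nonempty.image Subtype.val ⟨_, hxW⟩)
    (hW.image hU.isOpenEmbedding_subtypeVal.isInducing (by
      simpa using hU.isLocallyClosed))
  exact hWs hy (h hyc)

theorem surjective_of_closedPoints {X Y : Scheme.{u}} (f : X ⟶ Y) [LocallyOfFinitePresentation f]
    [QuasiCompact f] [JacobsonSpace Y] (h : closedPoints Y ⊆ Set.range f) : Surjective f := by
  refine ⟨Set.range_eq_univ.mp (eq_univ_of_closedPoints_subset ?_ h)⟩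
  rw [← Set.image_univ]
  exact f.isLocallyConstructible_image .univ

theorem lfp_of_isLocallyNoetherian {X Y : Scheme.{u}} (f : X ⟶ Y) [LocallyOfFiniteType f]
    [IsLocallyNoetherian Y] : LocallyOfFinitePresentation f := inferInstance

variable {k : Type u} [Field k] (K : Type u) [Field K] [IsAlgClosed K]

/-- Points with values in an algebraically closed field lift along surjections of finite type. -/
theorem exists_point_lift {S : Scheme.{u}} {b : Spec (CommRingCat.of K) ⟶ S} {X Y : Over S}
    (f : X ⟶ Y) [LocallyOfFiniteType f.left] [Surjective f.left] (y : Over.mk b ⟶ Y) :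
    ∃ x : Over.mk b ⟶ X, x ≫ f = y := by
  obtain ⟨x, hx⟩ := GrothLib.SchPoints.exists_lift f.left y.left (f.left.surjective _)
  refine ⟨Over.homMk x ?_, Over.OverMorphism.ext hx⟩
  show x ≫ X.hom = b
  rw [← Over.w f, reassoc_of% hx]
  exact Over.w y

variable {K} [Algebra k K]

local notation "𝔸" => Over.mk (Spec.map (CommRingCat.ofHom (algebraMap k K)))

variable (K) in
/-- A closed point of a scheme locally of finite type over a field underlies a point with values in
any algebraically closed extension. -/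
theorem exists_point_of_isClosed {X : Over (Spec (CommRingCat.of k))} [LocallyOfFiniteType X.hom]
    {x : X.left} (hx : IsClosed {x}) :
    ∃ a : 𝔸 ⟶ X, a.left (IsLocalRing.closedPoint K) = x := by
  have : IsClosedImmersion (X.left.fromSpecResidueField x) :=
    isClosed_singleton_iff_isClosedImmersion.mp hx
  let p := X.left.fromSpecResidueField x ≫ X.hom
  have : Surjective p := ⟨fun z => ⟨default, Subsingleton.elim (α := Spec (CommRingCat.of k)) _ _⟩⟩
  let b := Spec.map (CommRingCat.ofHom (algebraMap k K))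
  obtain ⟨z, -, -⟩ := Scheme.Pullback.exists_preimage_pullback (f := p) (g := b) default default
    (Subsingleton.elim (α := Spec (CommRingCat.of k)) _ _)
  have : Nonempty ↥(pullback p b) := ⟨z⟩
  obtain ⟨s, hs⟩ := GrothLib.SchPoints.exists_section (pullback.snd p b)
  refine ⟨Over.homMk ((s ≫ pullback.fst p b) ≫ X.left.fromSpecResidueField x) ?_, ?_⟩
  · show ((s ≫ pullback.fst p b) ≫ X.left.fromSpecResidueField x) ≫ X.hom = b
    rw [Category.assoc, Category.assoc]
    show s ≫ pullback.fst p b ≫ p = b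
    rw [pullback.condition, reassoc_of% hs]
  · show ((s ≫ pullback.fst p b) ≫ X.left.fromSpecResidueField x) _ = x
    rw [Scheme.Hom.comp_apply, Scheme.fromSpecResidueField_apply]

/-- Surjectivity on points with values in an algebraically closed extension gives surjectivity. -/
theorem surjective_of_points {X Y : Over (Spec (CommRingCat.of k))} [LocallyOfFiniteType X.hom]
    [LocallyOfFiniteType Y.hom] (f : X ⟶ Y) [QuasiCompact f.left]
    (h : ∀ y : 𝔸 ⟶ Y, ∃ x, x ≫ f = y) : Surjective f.left := by
  have : LocallyOfFiniteType f.left := by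
    have h : LocallyOfFiniteType (f.left ≫ Y.hom) := by rw [Over.w f]; infer_instance
    exact locallyOfFiniteType_of_comp f.left Y.hom
  have := LocallyOfFiniteType.isLocallyNoetherian Y.hom
  have := LocallyOfFiniteType.jacobsonSpace Y.hom
  refine surjective_of_closedPoints f.left fun y hy => ?_
  obtain ⟨a, rfl⟩ := exists_point_of_isClosed K hy
  obtain ⟨x, rfl⟩ := h a
  exact ⟨_, (Scheme.Hom.comp_apply _ _ _).symm⟩

omit [IsAlgClosed K] in
theorem surjective_of_whiskerLeft {X Y : Over (Spec (CommRingCat.of k))} (f : X ⟶ Y)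
    [Surjective (𝔸 ◁ f).left] : Surjective f.left := by
  have : Surjective (snd 𝔸 Y).left :=
    inferInstanceAs (Surjective (pullback.snd (Spec.map (CommRingCat.ofHom (algebraMap k K))) Y.hom))
  have : Surjective ((snd 𝔸 X).left ≫ f.left) := by
    rw [← (whiskerLeft_snd_isPullback _ f).w]; infer_instance
  exact Surjective.of_comp (snd 𝔸 X).left f.left

/-- The translation of `A ⊗ X` by an `A`-valued point of `G`. -/
noncomputable def actTranslate {S : Scheme.{u}} {A G X : Over S} [GrpObj G]
    (a : AlgGrp.Action G X) (g : A ⟶ G) : A ⊗ X ≅ A ⊗ X where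
  hom := lift (fst A X) (lift (fst A X ≫ g) (snd A X) ≫ a.act)
  inv := lift (fst A X) (lift (fst A X ≫ g⁻¹) (snd A X) ≫ a.act)
  hom_inv_id := by
    apply hom_ext_points₂
    intro T t x
    simp [comp_lift_assoc, ← act_mul, GrpObj.comp_inv, act_one]
  inv_hom_id := by
    apply hom_ext_points₂
    intro T t x
    simp [comp_lift_assoc, ← act_mul, GrpObj.comp_inv, act_one]

/-- An equivariant map from a nonempty scheme to a reduced homogeneous scheme is flat and
surjective. -/
theorem flat_surjective_of_equivariant {G X Y : Over (Spec (CommRingCat.of k))} [GrpObj G]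
    [LocallyOfFiniteType X.hom] [LocallyOfFiniteType Y.hom] [Nonempty X.left] [IsReduced Y.left]
    (a : AlgGrp.Action G X) (b : AlgGrp.Action G Y)
    (f : X ⟶ Y) [QuasiCompact f.left] (hf : (G ◁ f) ≫ b.act = a.act ≫ f)
    (htr : ∀ y y' : 𝔸 ⟶ Y, ∃ g : 𝔸 ⟶ G, lift g y ≫ b.act = y') :
    Flat f.left ∧ Surjective f.left := by
  have : LocallyOfFiniteType f.left := by
    have h : LocallyOfFiniteType (f.left ≫ Y.hom) := by rw [Over.w f]; infer_instance
    exact locallyOfFiniteType_of_comp f.left Y.hom
  have hne : Nonempty Y.left := ⟨f.left (Classical.arbitrary _)⟩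
  have := LocallyOfFiniteType.isLocallyNoetherian Y.hom
  have := LocallyOfFiniteType.jacobsonSpace Y.hom
  have hsurj : Surjective f.left := by
    refine surjective_of_points (K := K) f fun y => ?_
    have := LocallyOfFiniteType.jacobsonSpace X.hom
    obtain ⟨x₀, -, hx₀⟩ := nonempty_inter_closedPoints (X := ↥X.left) Set.univ_nonempty
      isOpen_univ.isLocallyClosed
    obtain ⟨p, -⟩ := exists_point_of_isClosed K hx₀
    obtain ⟨g, hg⟩ := htr (p ≫ f) y
    refine ⟨lift g p ≫ a.act, ?_⟩
    rw [Category.assoc, ← hf, lift_whiskerLeft_assoc, hg]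
  refine ⟨?_, hsurj⟩
  obtain ⟨U, hUd, hUflat, -⟩ := Groth.Agent.S0414.result f.left
  let b₀ : Spec (CommRingCat.of K) ⟶ Spec (CommRingCat.of k) :=
    Spec.map (CommRingCat.ofHom (algebraMap k K))
  let pY : (𝔸 ⊗ Y).left ⟶ Spec (CommRingCat.of K) := pullback.fst b₀ Y.hom
  have : LocallyOfFiniteType pY := inferInstanceAs (LocallyOfFiniteType (pullback.fst b₀ Y.hom))
  have := LocallyOfFiniteType.jacobsonSpace pY
  have hπ : Flat (snd 𝔸 X).left := inferInstanceAs (Flat (pullback.snd b₀ X.hom))
  have hπs : Surjective (snd 𝔸 X).left := inferInstanceAs (Surjective (pullback.snd b₀ X.hom))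
  have hπ' : Flat (snd 𝔸 Y).left := inferInstanceAs (Flat (pullback.snd b₀ Y.hom))
  have hπs' : Surjective (snd 𝔸 Y).left := inferInstanceAs (Surjective (pullback.snd b₀ Y.hom))
  have sq := whiskerLeft_snd_isPullback 𝔸 f
  have hF : Flat (𝔸 ◁ f).left := by
    have := flat_restrict_of_isPullback sq U
    refine flat_of_homogeneous (𝔸 ◁ f).left ((snd 𝔸 Y).left ⁻¹ᵁ U) ?_ ?_
    · obtain ⟨u, hu⟩ := hUd.nonempty
      obtain ⟨z, rfl⟩ := (snd 𝔸 Y).left.surjective u
      exact ⟨z, hu⟩
    have key : ∀ y ∈ closedPoints ↥(𝔸 ⊗ Y).left, ∃ t : 𝔸 ⟶ Y,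
        (lift (𝟙 𝔸) t).left (IsLocalRing.closedPoint K) = y := by
      intro y hy
      let s := pointOfClosedPoint pY y hy
      let t : 𝔸 ⟶ Y := Over.homMk (s ≫ (snd 𝔸 Y).left) (by
        show (s ≫ pullback.snd b₀ Y.hom) ≫ Y.hom = b₀
        rw [Category.assoc, ← pullback.condition, pointOfClosedPoint_comp_assoc])
      refine ⟨t, ?_⟩
      have hs : (lift (𝟙 𝔸) t).left = s := by
        apply pullback.hom_ext (f := b₀) (g := Y.hom)
        · exact (congrArg CommaMorphism.left (lift_fst (𝟙 𝔸) t)).trans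
            (pointOfClosedPoint_comp pY y hy).symm
        · exact congrArg CommaMorphism.left (lift_snd (𝟙 𝔸) t)
      rw [hs, pointOfClosedPoint_apply]
    intro y hy y' hy'
    obtain ⟨t, rfl⟩ := key y hy
    obtain ⟨t', rfl⟩ := key y' hy'
    obtain ⟨g, hg⟩ := htr t t'
    refine ⟨(Over.forget _).mapIso (actTranslate a g), (Over.forget _).mapIso (actTranslate b g),
      ?_, ?_⟩
    · show (actTranslate a g).hom.left ≫ (𝔸 ◁ f).left = (𝔸 ◁ f).left ≫ (actTranslate b g).hom.left
      rw [← Over.comp_left, ← Over.comp_left]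
      congr 1
      apply hom_ext_points₂
      intro T p x
      simp [actTranslate, comp_lift_assoc, ← hf, lift_whiskerLeft_assoc]
    · show (actTranslate b g).hom.left ((lift (𝟙 𝔸) t).left _) = _
      rw [← Scheme.Hom.comp_apply, ← Over.comp_left]
      refine congrArg (fun g : 𝔸 ⟶ 𝔸 ⊗ Y => g.left (IsLocalRing.closedPoint K)) ?_
      apply CartesianMonoidalCategory.hom_ext <;> simp [actTranslate, comp_lift_assoc, hg]
  have : Flat ((snd 𝔸 X).left ≫ f.left) := by rw [← sq.w]; infer_instance
  exact flat_of_flat_surjective_comp (snd 𝔸 X).left f.left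

end GrothLib.GrpSchField
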