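import Groth.Agent.Lib.GrpSchField.Field
import Mathlib.AlgebraicGeometry.Group.Smooth

/-!
A group scheme locally of finite type over a field with one smooth point is smooth.
-/

open CategoryTheory CategoryTheory.Limits MonoidalCategory CartesianMonoidalCategory MonObj GrpObj
open AlgebraicGeometry

namespace GrothLib.GrpSchField

universe u

variable {K : Type u} [Field K]

theorem le_smoothLocus_of_smooth {X Y U : Scheme.{u}} (f : X ⟶ Y) [LocallyOfFinitePresentation f]
    (j : U ⟶ X) [IsOpenImmersion j] [Smooth (j ≫ f)] (u : U) : j u ∈ f.smoothLocus := by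
  have h : u ∈ (j ≫ f).smoothLocus := by rw [Scheme.Hom.smoothLocus_eq_top]; trivial
  rw [← Scheme.Hom.preimage_smoothLocus_eq] at h
  exact h

/-- Over an algebraically closed field. -/
theorem smooth_of_smoothLocus_nonempty [IsAlgClosed K] {X : Scheme.{u}}
    (f : X ⟶ Spec (CommRingCat.of K)) [LocallyOfFiniteType f] [GrpObj (Over.mk f)]
    (H0 : (f.smoothLocus : Set X).Nonempty) : Smooth f := by
  have := LocallyOfFiniteType.jacobsonSpace f
  rw [← Scheme.Hom.smoothLocus_eq_top_iff, ← TopologicalSpace.Opens.coe_eq_univ,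
    ← not_ne_iff, ← Set.nonempty_compl]
  intro H
  obtain ⟨x, hx, hxc⟩ :=
    nonempty_inter_closedPoints H f.smoothLocus.2.isClosed_compl.isLocallyClosed
  obtain ⟨y, hy : y ∈ f.smoothLocus, hyc⟩ := nonempty_inter_closedPoints
    H0 f.smoothLocus.2.isLocallyClosed
  let x' : 𝟙_ _ ⟶ Over.mk f := Over.homMk _ ((pointEquivClosedPoint f).symm ⟨x, hxc⟩).2
  let y' : 𝟙_ _ ⟶ Over.mk f := Over.homMk _ ((pointEquivClosedPoint f).symm ⟨y, hyc⟩).2
  let α := (GrpObj.mulRight (A := Over.mk f) x').symm ≪≫
    (GrpObj.mulRight (A := Over.mk f) y')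
  have hα : x' ≫ α.hom = y' := by
    dsimp only [Iso.trans_hom, Iso.symm_hom, α]
    rw [← Category.assoc, ← Iso.eq_comp_inv]
    simp [comp_lift_assoc]
  have hα' : α.hom.left x = y := by
    simpa [x', y', pointEquivClosedPoint] using congr(($hα).left (IsLocalRing.closedPoint K))
  have := isIso_left α.hom
  refine hx ?_
  have hx' : x ∈ α.hom.left ⁻¹ᵁ f.smoothLocus := by
    show α.hom.left x ∈ f.smoothLocus
    rw [hα']; exact hy
  rw [Scheme.Hom.preimage_smoothLocus_eq] at hx'
  have hc : α.hom.left ≫ f = f := Over.w α.hom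
  simpa [hc] using hx'

/-- A group scheme locally of finite type over a field is smooth as soon as a nonempty open
subscheme is smooth over the field. -/
theorem smooth_of_open_smooth (G : Over (Spec (CommRingCat.of K))) [GrpObj G]
    [LocallyOfFiniteType G.hom] {U : Scheme.{u}} (j : U ⟶ G.left) [IsOpenImmersion j] [Nonempty U]
    [Smooth (j ≫ G.hom)] : Smooth G.hom := by
  let g : Spec (CommRingCat.of (AlgebraicClosure K)) ⟶ Spec (CommRingCat.of K) :=
    Spec.map (CommRingCat.ofHom <| algebraMap K (AlgebraicClosure K))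
  apply MorphismProperty.of_pullback_snd_of_descendsAlong
    (Q := @Surjective ⊓ @Flat ⊓ @QuasiCompact) (g := g)
  · exact ⟨⟨inferInstance, inferInstance⟩, inferInstance⟩
  · let : GrpObj (Over.mk G.hom) := (inferInstance : GrpObj G)
    let : GrpObj (Over.mk (pullback.snd G.hom g)) := Over.grpObjMkPullbackSnd
    let q : pullback (j ≫ G.hom) g ⟶ pullback G.hom g :=
      pullback.map (j ≫ G.hom) g G.hom g j (𝟙 _) (𝟙 _) (by simp) (by simp)
    have : IsOpenImmersion q :=
      MorphismProperty.pullbackMap (P := @IsOpenImmersion) ‹_› inferInstance rfl (Category.id_comp g).symm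
    have : Smooth (q ≫ pullback.snd G.hom g) := by
      rw [show q ≫ pullback.snd G.hom g = pullback.snd (j ≫ G.hom) g from
        (pullback.lift_snd _ _ _).trans (Category.comp_id _)]
      infer_instance
    obtain ⟨u⟩ : Nonempty ↥(pullback (j ≫ G.hom) g) :=
      Nonempty.intro ((pullback.fst (j ≫ G.hom) g).surjective (Classical.arbitrary U)).choose
    exact smooth_of_smoothLocus_nonempty _ ⟨q u, le_smoothLocus_of_smooth _ q u⟩

end GrothLib.GrpSchField
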