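import Groth.Agent.Lib.GrpSchField.Orbit
import Groth.Agent.Lib.GrpSchField.Pts
import Groth.Agent.Lib.GrpSchField.Smooth
import Groth.Agent.Lib.Rigidity.SmoothGroup
import Mathlib.AlgebraicGeometry.Morphisms.SchemeTheoreticallyDominant
import Mathlib.AlgebraicGeometry.Morphisms.Immersion
import Mathlib.AlgebraicGeometry.Morphisms.LocalFlatDescent

/-!
Orbits of rational points under smooth group schemes are smooth with their reduced structure.
-/

open CategoryTheory CategoryTheory.Limits MonoidalCategory CartesianMonoidalCategory MonObj GrpObj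
open AlgebraicGeometry

namespace GrothLib.GrpSchField

universe u

/-- A morphism from a reduced scheme with image inside an immersed subscheme factors through it. -/
theorem exists_lift_of_range_subset {T Z X : Scheme.{u}} (i : Z ⟶ X) [IsImmersion i] (h : T ⟶ X)
    [IsReduced T] (hr : Set.range h ⊆ Set.range i) : ∃ l : T ⟶ Z, l ≫ i = h := by
  have : IsImmersion (pullback.fst h i) :=
    MorphismProperty.pullback_fst (P := @IsImmersion) h i ‹_›
  have : Surjective (pullback.fst h i) := ⟨fun t => by
    obtain ⟨z, hz⟩ := hr ⟨t, rfl⟩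
    obtain ⟨w, hw, -⟩ := Scheme.Pullback.exists_preimage_pullback (f := h) (g := i) t z hz.symm
    exact ⟨w, hw⟩⟩
  have : IsClosedImmersion (pullback.fst h i) :=
    IsClosedImmersion.of_isPreimmersion _ (by
      rw [Set.range_eq_univ.mpr (Surjective.surj (f := pullback.fst h i))]; exact isClosed_univ)
  have := isIso_of_isClosedImmersion_of_surjective (pullback.fst h i)
  exact ⟨inv (pullback.fst h i) ≫ pullback.snd h i,
    by rw [Category.assoc, ← pullback.condition, IsIso.inv_hom_id_assoc]⟩

variable {k : Type u} [Field k]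

/-- The orbit of a rational point under a smooth group scheme is smooth with its reduced structure. -/
theorem smooth_orbit {G X : Over (Spec (CommRingCat.of k))} [GrpObj G] [Smooth G.hom]
    [LocallyOfFiniteType X.hom] (a : AlgGrp.Action G X)
    (x : 𝟙_ (Over (Spec (CommRingCat.of k))) ⟶ X) [QuasiCompact (a.orbitMap x).left]
    {O : Scheme.{u}} (i : O ⟶ X.left) [IsImmersion i] [IsReduced O]
    (hO : Set.range i = Set.range (a.orbitMap x).left) : Smooth (i ≫ X.hom) := by
  let K := AlgebraicClosure k
  let b : Spec (CommRingCat.of K) ⟶ Spec (CommRingCat.of k) :=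
    Spec.map (CommRingCat.ofHom (algebraMap k K))
  let A : Over (Spec (CommRingCat.of k)) := Over.mk b
  let O' : Over (Spec (CommRingCat.of k)) := Over.mk (i ≫ X.hom)
  let io : O' ⟶ X := Over.homMk i rfl
  let f := a.orbitMap x
  have : IsReduced G.left := GrothLib.Rigidity.isReduced_of_smooth G.hom
  obtain ⟨l₀, hl₀⟩ := exists_lift_of_range_subset i f.left hO.ge
  let g₀ : G ⟶ O' := Over.homMk l₀ (by
    show l₀ ≫ i ≫ X.hom = G.hom
    rw [← Category.assoc, hl₀]; exact Over.w f)
  have hg₀ : g₀ ≫ io = f := Over.OverMorphism.ext hl₀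
  have : QuasiCompact g₀.left := by
    have : QuasiCompact (l₀ ≫ i) := by rw [hl₀]; infer_instance
    exact QuasiCompact.of_comp l₀ i
  have : Surjective g₀.left := ⟨fun z => by
    obtain ⟨g, hg⟩ := hO.le (Set.mem_range_self z)
    exact ⟨g, i.isEmbedding.injective (by rw [← Scheme.Hom.comp_apply]; exact hl₀ ▸ hg)⟩⟩
  have : IsReduced O'.left := ‹IsReduced O›
  have : IsSchemeTheoreticallyDominant g₀.left := .of_isDominant _
  have : LocallyOfFiniteType O'.hom := inferInstanceAs (LocallyOfFiniteType (i ≫ X.hom))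
  have hflat : Flat (snd A O').left := inferInstanceAs (Flat (pullback.snd b O'.hom))
  let pG : (A ⊗ G).left ⟶ Spec (CommRingCat.of K) := pullback.fst b G.hom
  let pO : (A ⊗ O').left ⟶ Spec (CommRingCat.of K) := pullback.fst b O'.hom
  have : LocallyOfFiniteType pO := inferInstanceAs (LocallyOfFiniteType (pullback.fst b O'.hom))
  have : Smooth pG := inferInstanceAs (Smooth (pullback.fst b G.hom))
  have : IsReduced (A ⊗ G).left := GrothLib.Rigidity.isReduced_of_smooth pG
  have sqg := whiskerLeft_snd_isPullback A g₀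
  have : QuasiCompact (A ◁ g₀).left := MorphismProperty.of_isPullback sqg.flip ‹QuasiCompact g₀.left›
  have : Surjective (A ◁ g₀).left := MorphismProperty.of_isPullback sqg.flip ‹Surjective g₀.left›
  have : IsSchemeTheoreticallyDominant (A ◁ g₀).left :=
    IsSchemeTheoreticallyDominant.of_isPullback sqg.flip
  have : IsReduced (A ⊗ O').left := IsSchemeTheoreticallyDominant.isReduced (A ◁ g₀).left
  have hsm : Smooth pO := by
    have := LocallyOfFiniteType.jacobsonSpace pO
    have := LocallyOfFiniteType.jacobsonSpace pG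
    have : LocallyOfFinitePresentation pO := inferInstance
    let j := (A ◁ io).left
    have sqι := whiskerLeft_snd_isPullback A io
    have : IsImmersion j := MorphismProperty.of_isPullback sqι.flip ‹IsImmersion i›
    have hj : ∀ z, z ∈ Set.range j ↔ (snd A X).left z ∈ Set.range f.left := by
      intro z
      rw [← hO]
      constructor
      · rintro ⟨w, rfl⟩
        exact ⟨(snd A O').left w, congrArg (fun φ : (A ⊗ O').left ⟶ X.left => φ w) sqι.w.symm⟩
      · rintro ⟨o, ho⟩
        obtain ⟨w, hw, -⟩ := Scheme.exists_preimage_of_isPullback sqι z o ho.symm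
        exact ⟨w, hw⟩
    have hkey : ∀ z : ↥(A ⊗ O').left, IsClosed {z} → ∃ g : A ⟶ G,
        (lift (𝟙 A) (g ≫ g₀)).left (IsLocalRing.closedPoint K) = z := by
      intro z hz
      obtain ⟨w, hw, hwc⟩ := nonempty_inter_closedPoints (X := ↥(A ⊗ G).left)
        (Z := (A ◁ g₀).left ⁻¹' {z}) ((A ◁ g₀).left.surjective z)
        ((hz.preimage (A ◁ g₀).left.continuous).isLocallyClosed)
      let s := pointOfClosedPoint pG w hwc
      let g : A ⟶ G := Over.homMk (s ≫ (snd A G).left) (by
        show (s ≫ pullback.snd b G.hom) ≫ G.hom = b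
        rw [Category.assoc, ← pullback.condition, pointOfClosedPoint_comp_assoc])
      refine ⟨g, ?_⟩
      have hs : (lift (𝟙 A) g).left = s := by
        apply pullback.hom_ext (f := b) (g := G.hom)
        · exact (congrArg CommaMorphism.left (lift_fst (𝟙 A) g)).trans
            (pointOfClosedPoint_comp pG w hwc).symm
        · exact congrArg CommaMorphism.left (lift_snd (𝟙 A) g)
      rw [show lift (𝟙 A) (g ≫ g₀) = lift (𝟙 A) g ≫ (A ◁ g₀) from (lift_whiskerLeft _ _ _).symm,
        Over.comp_left, Scheme.Hom.comp_apply, hs, pointOfClosedPoint_apply]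
      exact hw
    rw [← Scheme.Hom.smoothLocus_eq_top_iff, ← TopologicalSpace.Opens.coe_eq_univ,
      ← not_ne_iff, ← Set.nonempty_compl]
    intro H
    obtain ⟨z, hz, hzc⟩ :=
      nonempty_inter_closedPoints H pO.smoothLocus.2.isClosed_compl.isLocallyClosed
    have : Nonempty ↥(A ⊗ O').left := ⟨z⟩
    obtain ⟨z', hz' : z' ∈ pO.smoothLocus, hzc'⟩ := nonempty_inter_closedPoints
      (Scheme.Hom.dense_smoothLocus_of_perfectField pO).nonempty pO.smoothLocus.2.isLocallyClosed
    obtain ⟨g, rfl⟩ := hkey z hzc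
    obtain ⟨g', rfl⟩ := hkey z' hzc'
    let t : A ⟶ G := g' * g⁻¹
    let α := actTranslate a t
    have hsnd : α.hom ≫ snd A X = lift (fst A X ≫ t) (snd A X) ≫ a.act := lift_snd _ _
    have hsnd' : α.inv ≫ snd A X = lift (fst A X ≫ t⁻¹) (snd A X) ≫ a.act := lift_snd _ _
    have hpres : ∀ (s : A ⟶ G) (q : ↥(A ⊗ X).left), (snd A X).left q ∈ Set.range f.left →
        (lift (fst A X ≫ s) (snd A X) ≫ a.act).left q ∈ Set.range f.left := by
      intro s q hq
      rw [Over.comp_left, Scheme.Hom.comp_apply]
      refine act_mem_range_orbitMap a x ?_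
      rwa [← Scheme.Hom.comp_apply, ← Over.comp_left, lift_snd]
    have mk : ∀ β : A ⊗ X ⟶ A ⊗ X, (∀ q, (snd A X).left q ∈ Set.range f.left →
        (β ≫ snd A X).left q ∈ Set.range f.left) → ∃ l, l ≫ j = j ≫ β.left := by
      intro β hβ
      refine exists_lift_of_range_subset j _ ?_
      rintro _ ⟨w, rfl⟩
      rw [hj, Scheme.Hom.comp_apply, ← Scheme.Hom.comp_apply (β.left), ← Over.comp_left]
      exact hβ _ ((hj _).mp ⟨w, rfl⟩)
    obtain ⟨l, hl⟩ := mk α.hom (by rw [hsnd]; exact hpres t)
    obtain ⟨l', hl'⟩ := mk α.inv (by rw [hsnd']; exact hpres t⁻¹)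
    have : Mono j := inferInstance
    have : IsIso l := by
      refine ⟨l', ?_, ?_⟩
      · rw [← cancel_mono j, Category.assoc, hl', ← Category.assoc, hl, Category.assoc,
          ← Over.comp_left, α.hom_inv_id]
        simp
      · rw [← cancel_mono j, Category.assoc, hl, ← Category.assoc, hl', Category.assoc,
          ← Over.comp_left, α.inv_hom_id]
        simp
    have hjfst : j ≫ (fst A X).left = pO := by
      show (A ◁ io).left ≫ (fst A X).left = (fst A O').left
      rw [← Over.comp_left, whiskerLeft_fst]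
    have hlp : l ≫ pO = pO := by
      rw [← hjfst, ← Category.assoc, hl, Category.assoc, ← Over.comp_left,
        show α.hom ≫ fst A X = fst A X from lift_fst _ _]
    have hlz : l ((lift (𝟙 A) (g ≫ g₀)).left (IsLocalRing.closedPoint K)) =
        (lift (𝟙 A) (g' ≫ g₀)).left (IsLocalRing.closedPoint K) := by
      apply j.isEmbedding.injective
      rw [← Scheme.Hom.comp_apply, ← Scheme.Hom.comp_apply, ← Scheme.Hom.comp_apply, hl]
      show ((lift (𝟙 A) (g ≫ g₀)).left ≫ (A ◁ io).left ≫ α.hom.left) _ =
        ((lift (𝟙 A) (g' ≫ g₀)).left ≫ (A ◁ io).left) _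
      rw [← Over.comp_left, ← Over.comp_left, ← Over.comp_left]
      refine congrArg (fun φ : A ⟶ A ⊗ X => φ.left (IsLocalRing.closedPoint K)) ?_
      apply CartesianMonoidalCategory.hom_ext <;>
        simp [α, actTranslate, comp_lift_assoc, hg₀, f, AlgGrp.Action.orbitMap, t, ← act_mul]
    refine hz ?_
    have hz'' : (lift (𝟙 A) (g ≫ g₀)).left (IsLocalRing.closedPoint K) ∈ l ⁻¹ᵁ pO.smoothLocus := by
      show l _ ∈ pO.smoothLocus
      rw [hlz]; exact hz'
    rw [Scheme.Hom.preimage_smoothLocus_eq] at hz''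
    simpa [hlp] using hz''
  exact MorphismProperty.of_pullback_fst_of_descendsAlong (P := @Smooth)
    (Q := @Surjective ⊓ @Flat ⊓ @QuasiCompact) (f := b) (g := i ≫ X.hom)
    ⟨⟨inferInstance, inferInstance⟩, inferInstance⟩ hsm

end GrothLib.GrpSchField
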