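import Groth.Agent.S0414
import Groth.Agent.Lib.GrpSchField.Shear
import Groth.Agent.Lib.Flatness.Fibre
import Mathlib.AlgebraicGeometry.AlgClosed.Basic
import Mathlib.AlgebraicGeometry.Morphisms.Flat
import Mathlib.CategoryTheory.Monoidal.Cartesian.Over
import Mathlib.RingTheory.Flat.FaithfullyFlat.Algebra

/-!
A quasi-compact surjective homomorphism of group schemes locally of finite type over a field with
reduced target is flat.
-/

open CategoryTheory CategoryTheory.Limits MonoidalCategory CartesianMonoidalCategory MonObj GrpObj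
open AlgebraicGeometry

namespace GrothLib.GrpSchField

universe u

/-- Flatness descends along a flat surjective map to the source. -/
theorem flat_of_flat_surjective_comp {X' X Y : Scheme.{u}} (p : X' ⟶ X) (g : X ⟶ Y) [Flat p]
    [Surjective p] [Flat (p ≫ g)] : Flat g := by
  refine Flat.of_stalkMap g fun x => ?_
  obtain ⟨z, rfl⟩ := p.surjective x
  have hp := Flat.stalkMap p z
  have hpg : ((p.stalkMap z).hom.comp (g.stalkMap (p z)).hom).Flat := by
    have h := Flat.stalkMap (p ≫ g) z
    rw [Scheme.Hom.stalkMap_comp] at h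
    exact h
  algebraize [(p.stalkMap z).hom, (g.stalkMap (p z)).hom,
    (p.stalkMap z).hom.comp (g.stalkMap (p z)).hom]
  have : Module.FaithfullyFlat (X.presheaf.stalk (p z)) (X'.presheaf.stalk z) :=
    @Module.FaithfullyFlat.of_flat_of_isLocalHom _ _ _ _ _ _ _ hp (p.toLRSHom.prop z)
  exact GrothLib.Flatness.flat_of_faithfullyFlat (M := X'.presheaf.stalk z)

/-- Flatness over an open is preserved by base change. -/
theorem flat_restrict_of_isPullback {X' Y' X Y : Scheme.{u}} {F : X' ⟶ Y'} {p : X' ⟶ X}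
    {q : Y' ⟶ Y} {f : X ⟶ Y} (sq : IsPullback F p q f) (U : Y.Opens) [Flat (f ∣_ U)] :
    Flat (F ∣_ (q ⁻¹ᵁ U)) := by
  have h1 := (isPullback_morphismRestrict F (q ⁻¹ᵁ U)).paste_vert sq
  rw [← morphismRestrict_ι q U] at h1
  have hr : Set.range ((F ⁻¹ᵁ (q ⁻¹ᵁ U)).ι ≫ p) ⊆ Set.range (f ⁻¹ᵁ U).ι := by
    rw [Scheme.Opens.range_ι]
    rintro _ ⟨z, rfl⟩
    show f (p _) ∈ U
    rw [← Scheme.Hom.comp_apply, ← sq.w]
    exact z.2
  let l := IsOpenImmersion.lift (f ⁻¹ᵁ U).ι _ hr
  have hl : l ≫ (f ⁻¹ᵁ U).ι = _ := IsOpenImmersion.lift_fac _ _ hr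
  rw [← hl] at h1
  refine MorphismProperty.of_isPullback
    (IsPullback.of_bot h1 ?_ (isPullback_morphismRestrict f U)).flip ‹Flat (f ∣_ U)›
  rw [← cancel_mono U.ι, Category.assoc, Category.assoc, morphismRestrict_ι f U]
  exact h1.w.trans (Category.assoc _ _ _)

/-- A morphism which is flat over one nonempty open and homogeneous on closed points is flat. -/
theorem flat_of_homogeneous {X Y : Scheme.{u}} (f : X ⟶ Y) [JacobsonSpace Y] (U : Y.Opens)
    (hU : (U : Set Y).Nonempty) [Flat (f ∣_ U)]
    (h : ∀ y ∈ closedPoints Y, ∀ y' ∈ closedPoints Y, ∃ (α : X ≅ X) (β : Y ≅ Y),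
      α.hom ≫ f = f ≫ β.hom ∧ β.hom y = y') : Flat f := by
  obtain ⟨y₀, hy₀, hy₀c⟩ := nonempty_inter_closedPoints hU U.2.isLocallyClosed
  let J := {p : (X ≅ X) × (Y ≅ Y) // p.1.hom ≫ f = f ≫ p.2.hom}
  let V : J → Y.Opens := fun p => p.1.2.hom ⁻¹ᵁ U
  have hV : iSup V = ⊤ := by
    rw [← TopologicalSpace.Opens.coe_eq_univ, ← not_ne_iff, ← Set.nonempty_compl]
    intro H
    obtain ⟨y, hy, hyc⟩ :=
      nonempty_inter_closedPoints H (iSup V).2.isClosed_compl.isLocallyClosed
    obtain ⟨α, β, hc, hb⟩ := h y hyc y₀ hy₀c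
    refine hy ?_
    simp only [TopologicalSpace.Opens.coe_iSup, Set.mem_iUnion]
    exact ⟨⟨(α, β), hc⟩, show β.hom y ∈ U from hb.symm ▸ hy₀⟩
  refine IsZariskiLocalAtTarget.of_iSup_eq_top V hV ?_
  rintro ⟨⟨α, β⟩, hc⟩
  exact flat_restrict_of_isPullback (q := β.hom) (IsPullback.of_vert_isIso ⟨hc.symm⟩) U

variable {K : Type u} [Field K]

theorem whiskerLeft_snd_isPullback {C D : Over (Spec (CommRingCat.of K))}
    (A : Over (Spec (CommRingCat.of K))) (f : C ⟶ D) :
    IsPullback (A ◁ f).left (snd A C).left (snd A D).left f.left := by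
  have hw : (A ◁ f).left ≫ (snd A D).left = (snd A C).left ≫ f.left := by
    rw [← Over.comp_left, ← Over.comp_left, whiskerLeft_snd]
  have h1 : (A ◁ f).left ≫ pullback.fst A.hom D.hom = pullback.fst A.hom C.hom := by
    show (A ◁ f).left ≫ (fst A D).left = (fst A C).left
    rw [← Over.comp_left, whiskerLeft_fst]
  refine IsPullback.of_right (h₁₂ := pullback.fst A.hom D.hom) (v₁₃ := A.hom) (h₂₂ := D.hom)
    ?_ hw (IsPullback.of_hasPullback A.hom D.hom)
  rw [h1, Over.w f]
  exact IsPullback.of_hasPullback A.hom C.hom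

/-- A quasi-compact surjective homomorphism of group schemes locally of finite type over a field
with reduced target is flat. -/
theorem flat_hom {G G' : Over (Spec (CommRingCat.of K))} [GrpObj G] [GrpObj G']
    [LocallyOfFiniteType G.hom] [LocallyOfFiniteType G'.hom] [IsReduced G'.left]
    (f : G ⟶ G') [IsMonHom f] [QuasiCompact f.left] [Surjective f.left] : Flat f.left := by
  have : LocallyOfFiniteType f.left := by
    have h : LocallyOfFiniteType (f.left ≫ G'.hom) := by rw [Over.w f]; infer_instance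
    exact locallyOfFiniteType_of_comp f.left G'.hom
  obtain ⟨U, hUd, hUflat, -⟩ := Groth.Agent.S0414.result f.left
  have hUne : (U : Set G'.left).Nonempty :=
    have : Nonempty G'.left := ⟨η[G'].left (IsLocalRing.closedPoint K)⟩
    hUd.nonempty
  let b : Spec (CommRingCat.of (AlgebraicClosure K)) ⟶ Spec (CommRingCat.of K) :=
    Spec.map (CommRingCat.ofHom (algebraMap K (AlgebraicClosure K)))
  let A : Over (Spec (CommRingCat.of K)) := Over.mk b
  let pG : (A ⊗ G).left ⟶ Spec (CommRingCat.of (AlgebraicClosure K)) := pullback.fst b G.hom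
  let pG' : (A ⊗ G').left ⟶ Spec (CommRingCat.of (AlgebraicClosure K)) := pullback.fst b G'.hom
  have : LocallyOfFiniteType pG :=
    inferInstanceAs (LocallyOfFiniteType (pullback.fst b G.hom))
  have : LocallyOfFiniteType pG' :=
    inferInstanceAs (LocallyOfFiniteType (pullback.fst b G'.hom))
  have := LocallyOfFiniteType.jacobsonSpace pG
  have := LocallyOfFiniteType.jacobsonSpace pG'
  have hπ : Flat (snd A G).left := inferInstanceAs (Flat (pullback.snd b G.hom))
  have hπs : Surjective (snd A G).left := inferInstanceAs (Surjective (pullback.snd b G.hom))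
  have hπ' : Flat (snd A G').left := inferInstanceAs (Flat (pullback.snd b G'.hom))
  have hπs' : Surjective (snd A G').left := inferInstanceAs (Surjective (pullback.snd b G'.hom))
  have sq := whiskerLeft_snd_isPullback A f
  have : Surjective (A ◁ f).left := MorphismProperty.of_isPullback sq.flip ‹Surjective f.left›
  let F := (A ◁ f).left
  have hF : Flat F := by
    have : Flat (F ∣_ ((snd A G').left ⁻¹ᵁ U)) := flat_restrict_of_isPullback sq U
    refine flat_of_homogeneous F ((snd A G').left ⁻¹ᵁ U) ?_ ?_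
    · obtain ⟨u, hu⟩ := hUne
      obtain ⟨z, rfl⟩ := (snd A G').left.surjective u
      exact ⟨z, hu⟩
    intro y hy y' hy'
    have key : ∀ y ∈ closedPoints ↥(A ⊗ G').left, ∃ x : A ⟶ G,
        (lift (𝟙 A) (x ≫ f)).left (IsLocalRing.closedPoint (AlgebraicClosure K)) = y := by
      intro y hy
      obtain ⟨z, hz, hzc⟩ := nonempty_inter_closedPoints (X := ↥(A ⊗ G).left)
        (Z := F ⁻¹' {y}) (F.surjective y) ((hy.preimage F.continuous).isLocallyClosed)
      let s := pointOfClosedPoint pG z hzc
      let x : A ⟶ G := Over.homMk (s ≫ (snd A G).left) (by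
        show (s ≫ pullback.snd b G.hom) ≫ G.hom = b
        rw [Category.assoc, ← pullback.condition, pointOfClosedPoint_comp_assoc])
      refine ⟨x, ?_⟩
      have hs : (lift (𝟙 A) x).left = s := by
        apply pullback.hom_ext (f := b) (g := G.hom)
        · exact (congrArg CommaMorphism.left (lift_fst (𝟙 A) x)).trans
            (pointOfClosedPoint_comp pG z hzc).symm
        · exact congrArg CommaMorphism.left (lift_snd (𝟙 A) x)
      rw [show lift (𝟙 A) (x ≫ f) = lift (𝟙 A) x ≫ (A ◁ f) from (lift_whiskerLeft _ _ _).symm,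
        Over.comp_left, Scheme.Hom.comp_apply, hs, pointOfClosedPoint_apply]
      exact hz
    obtain ⟨x, rfl⟩ := key y hy
    obtain ⟨x', rfl⟩ := key y' hy'
    let t : A ⟶ G := x' * x⁻¹
    let mk : ∀ (H : Over (Spec (CommRingCat.of K))) [GrpObj H] (_ : A ⟶ H), A ⊗ H ≅ A ⊗ H :=
      fun H _ t => { hom := lift (fst A H) ((fst A H ≫ t) * snd A H)
                     inv := lift (fst A H) ((fst A H ≫ t)⁻¹ * snd A H)
                     hom_inv_id := by apply CartesianMonoidalCategory.hom_ext <;> simp [comp_mul, GrpObj.comp_inv, ← _root_.mul_assoc]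
                     inv_hom_id := by apply CartesianMonoidalCategory.hom_ext <;> simp [comp_mul, GrpObj.comp_inv, ← _root_.mul_assoc] }
    refine ⟨(Over.forget _).mapIso (mk G t), (Over.forget _).mapIso (mk G' (t ≫ f)), ?_, ?_⟩
    · show (mk G t).hom.left ≫ (A ◁ f).left = (A ◁ f).left ≫ (mk G' (t ≫ f)).hom.left
      rw [← Over.comp_left, ← Over.comp_left]
      congr 1
      apply CartesianMonoidalCategory.hom_ext <;> simp [mk, MonObj.mul_comp, comp_mul]
    · show (mk G' (t ≫ f)).hom.left ((lift (𝟙 A) (x ≫ f)).left _) = _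
      rw [← Scheme.Hom.comp_apply, ← Over.comp_left]
      refine congrArg (fun g : A ⟶ A ⊗ G' => g.left (IsLocalRing.closedPoint (AlgebraicClosure K))) ?_
      apply CartesianMonoidalCategory.hom_ext <;> simp [mk, t, MonObj.mul_comp, comp_mul, GrpObj.inv_comp, _root_.mul_assoc]
  have : Flat ((snd A G).left ≫ f.left) := by rw [← sq.w]; infer_instance
  exact flat_of_flat_surjective_comp (snd A G).left f.left

end GrothLib.GrpSchField
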