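import Groth.Agent.Lib.GrpSchField.ConstrInterior
import Groth.Agent.Lib.GrpSchField.HomFlat
import Mathlib.AlgebraicGeometry.Morphisms.UniversallyOpen
import Mathlib.AlgebraicGeometry.Morphisms.FinitePresentation
import Mathlib.AlgebraicGeometry.Noetherian

/-!
Orbits of rational points under an action over a field are locally closed.
-/

open CategoryTheory CategoryTheory.Limits MonoidalCategory CartesianMonoidalCategory MonObj GrpObj
open AlgebraicGeometry Topology

namespace GrothLib.GrpSchField

universe u

variable {K : Type u} [Field K] {G X : Over (Spec (CommRingCat.of K))} [GrpObj G]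
  (a : AlgGrp.Action G X) (x : 𝟙_ (Over (Spec (CommRingCat.of K))) ⟶ X)

theorem whiskerLeft_orbitMap_act :
    (G ◁ a.orbitMap x) ≫ a.act = μ[G] ≫ a.orbitMap x := by
  apply hom_ext_points₂
  intro T g h
  simp only [AlgGrp.Action.orbitMap, lift_whiskerLeft_assoc, comp_lift_assoc, comp_toUnit_assoc,
    Category.comp_id, ← Hom.mul_def, act_mul, Category.assoc]

theorem act_mem_range_orbitMap {q : ↥(G ⊗ X).left}
    (hq : (snd G X).left q ∈ Set.range (a.orbitMap x).left) :
    a.act.left q ∈ Set.range (a.orbitMap x).left := by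
  obtain ⟨g, hg⟩ := hq
  obtain ⟨w, hw, -⟩ := Scheme.exists_preimage_of_isPullback
    (whiskerLeft_snd_isPullback G (a.orbitMap x)) q g hg.symm
  rw [← hw, ← Scheme.Hom.comp_apply, ← Over.comp_left, whiskerLeft_orbitMap_act, Over.comp_left,
    Scheme.Hom.comp_apply]
  exact Set.mem_range_self _

theorem preimage_act_range_orbitMap :
    a.act.left ⁻¹' Set.range (a.orbitMap x).left = (snd G X).left ⁻¹' Set.range (a.orbitMap x).left := by
  let i : G ⊗ X ⟶ G ⊗ X := lift (fst G X)⁻¹ a.act
  have h1 : i ≫ snd G X = a.act := lift_snd _ _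
  have h2 : i ≫ a.act = snd G X := by
    apply hom_ext_points₂
    intro T g y
    simp [i, comp_lift_assoc, GrpObj.comp_inv, ← act_mul, act_one]
  refine Set.Subset.antisymm (fun q hq => ?_) fun q hq => act_mem_range_orbitMap a x hq
  have hh := act_mem_range_orbitMap a x (q := i.left q) (by
    rw [← Scheme.Hom.comp_apply, ← Over.comp_left, h1]; exact hq)
  rwa [← Scheme.Hom.comp_apply, ← Over.comp_left, h2] at hh

/-- The orbit of a rational point is locally closed. -/
theorem isLocallyClosed_range_orbitMap [QuasiCompact (a.orbitMap x).left]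
    [LocallyOfFiniteType X.hom] [LocallyOfFiniteType G.hom] :
    IsLocallyClosed (Set.range (a.orbitMap x).left) := by
  let f := (a.orbitMap x).left
  have := LocallyOfFiniteType.isLocallyNoetherian X.hom
  have : LocallyOfFiniteType f := by
    have h : LocallyOfFiniteType (f ≫ X.hom) := by rw [Over.w (a.orbitMap x)]; infer_instance
    exact locallyOfFiniteType_of_comp f X.hom
  have hR : IsLocallyConstructible (Set.range f) := by
    rw [← Set.image_univ]
    exact f.isLocallyConstructible_image .univ
  obtain ⟨U, hU, ⟨_, hgU, g₀, rfl⟩, hsub⟩ := exists_isOpen_inter_closure_subset' hR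
    ⟨_, Set.mem_range_self (η[G].left (IsLocalRing.closedPoint K))⟩
  have hs : UniversallyOpen (snd G X).left :=
    inferInstanceAs (UniversallyOpen (pullback.snd G.hom X.hom))
  have ha : UniversallyOpen a.act.left := by
    have := isIso_left (shear a).hom
    rw [act_left_eq]; infer_instance
  let W := a.act.left '' ((snd G X).left ⁻¹' U)
  have hW : IsOpen W := a.act.left.isOpenMap _ (hU.preimage (snd G X).left.continuous)
  refine ⟨W, closure (Set.range f), hW, isClosed_closure,
    Set.Subset.antisymm ?_ ?_⟩
  · refine fun y hy => ⟨?_, subset_closure hy⟩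
    obtain ⟨g, rfl⟩ := hy
    let ψ : G ⊗ G ⟶ G ⊗ X := lift (fst G G * (snd G G)⁻¹) (snd G G ≫ a.orbitMap x)
    have h1 : ψ ≫ snd G X = snd G G ≫ a.orbitMap x := lift_snd _ _
    have h2 : ψ ≫ a.act = fst G G ≫ a.orbitMap x := by
      apply hom_ext_points₂
      intro T g h
      simp [ψ, AlgGrp.Action.orbitMap, comp_lift_assoc, ← act_mul]
    obtain ⟨q, hq1, hq2⟩ := Scheme.Pullback.exists_preimage_pullback (f := G.hom) (g := G.hom) g g₀
      (Subsingleton.elim (α := Spec (CommRingCat.of K)) _ _)
    refine ⟨ψ.left q, ?_, ?_⟩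
    · show (snd G X).left (ψ.left q) ∈ U
      rw [← Scheme.Hom.comp_apply, ← Over.comp_left, h1, Over.comp_left, Scheme.Hom.comp_apply]
      rw [show (snd G G).left q = g₀ from hq2]
      exact hgU
    · rw [← Scheme.Hom.comp_apply, ← Over.comp_left, h2, Over.comp_left, Scheme.Hom.comp_apply]
      exact congrArg f hq1
  · rintro _ ⟨⟨q, hqU, rfl⟩, hy⟩
    have h1 : (snd G X).left q ∈ closure (Set.range f) := by
      rw [← Set.mem_preimage, (snd G X).left.isOpenMap.preimage_closure_eq_closure_preimage
        (snd G X).left.continuous]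
      erw [← preimage_act_range_orbitMap a x,
        ← a.act.left.isOpenMap.preimage_closure_eq_closure_preimage a.act.left.continuous]
      exact hy
    have h2 : (snd G X).left q ∈ Set.range f := hsub ⟨hqU, h1⟩
    exact act_mem_range_orbitMap a x h2

end GrothLib.GrpSchField
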