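import Groth.Agent.Lib.GrpSchField.Points
import Mathlib.AlgebraicGeometry.Morphisms.Smooth
import Mathlib.AlgebraicGeometry.Morphisms.FlatDescent
import Mathlib.CategoryTheory.Monoidal.Cartesian.Over
import Mathlib.CategoryTheory.Limits.Constructions.Over.Connected

/-!
The kernel pair of a homomorphism of group objects, and properties of faithfully flat homomorphisms
read off their kernels.
-/

open CategoryTheory CategoryTheory.Limits MonoidalCategory CartesianMonoidalCategory MonObj GrpObj

namespace GrothLib.GrpSchField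

universe v u

/-- The kernel pair of `q : G ⟶ Q` with kernel `N` is `G ⊗ N`. -/
theorem isPullback_kernelPair {C : Type u} [Category.{v} C] [CartesianMonoidalCategory C]
    {N G Q : C} [GrpObj G] [GrpObj Q] {i : N ⟶ G} {q : G ⟶ Q} [IsMonHom q]
    (hK : IsPullback i (toUnit N) q η[Q]) :
    IsPullback (fst G N) (fst G N * (snd G N ≫ i)) q q := by
  have hw : fst G N ≫ q = (fst G N * (snd G N ≫ i)) ≫ q := by
    rw [MonObj.mul_comp, Category.assoc (snd G N), comp_eq_one hK]
    simp
  have := mono_of_kernel hK
  have key : ∀ c : PullbackCone q q, ∃ n : c.pt ⟶ N, n ≫ i = c.fst⁻¹ * c.snd := fun c =>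
    exists_lift_of_comp_eq_one hK _ (by
      rw [MonObj.mul_comp, GrpObj.inv_comp, c.condition, inv_mul_cancel])
  choose n hn using key
  refine IsPullback.of_isLimit' ⟨hw⟩ (PullbackCone.isLimitAux _ (fun c => lift c.fst (n c))
    (fun c => lift_fst _ _) (fun c => ?_) fun c m hm => ?_)
  · show lift c.fst (n c) ≫ (fst G N * (snd G N ≫ i)) = c.snd
    rw [MonObj.comp_mul, lift_fst, lift_snd_assoc, hn, mul_inv_cancel_left]
  · have h1 : m ≫ fst G N = c.fst := hm WalkingCospan.left
    have h2 : m ≫ (fst G N * (snd G N ≫ i)) = c.snd := hm WalkingCospan.right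
    apply CartesianMonoidalCategory.hom_ext
    · rw [lift_fst]; exact h1
    · rw [lift_snd, ← cancel_mono i, hn, eq_inv_mul_iff_mul_eq, ← h1, ← h2, Category.assoc]
      exact (MonObj.comp_mul m (fst G N) (snd G N ≫ i)).symm

open AlgebraicGeometry

/-- A property stable under base change and descending along fpqc maps passes from the structure
morphism of the kernel to a faithfully flat homomorphism. -/
theorem property_of_kernel (P : MorphismProperty Scheme.{u}) [P.IsStableUnderBaseChange]
    [P.DescendsAlong (@Surjective ⊓ @Flat ⊓ @QuasiCompact)] {S : Scheme.{u}} {N G Q : Over S}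
    [GrpObj G] [GrpObj Q] {i : N ⟶ G} {q : G ⟶ Q} [IsMonHom q] [Flat q.left] [Surjective q.left]
    [QuasiCompact q.left] (hK : IsPullback i (toUnit N) q η[Q]) (hN : P N.hom) : P q.left :=
  MorphismProperty.of_isPullback_of_descendsAlong (Q := @Surjective ⊓ @Flat ⊓ @QuasiCompact)
    ((isPullback_kernelPair hK).map (Over.forget _))
    ⟨⟨inferInstanceAs (Surjective q.left), inferInstanceAs (Flat q.left)⟩,
      inferInstanceAs (QuasiCompact q.left)⟩
    (P.pullback_fst G.hom N.hom hN)

end GrothLib.GrpSchField
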