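import Groth.Prelude.Def_Grpd
import Groth.Agent.Lib.GrpSchField.Open

/-!
Groupoid schemes whose scheme of objects is the spectrum of a field.
-/

open CategoryTheory CategoryTheory.Limits AlgebraicGeometry

namespace GrothLib.GrpSchField

universe u

variable {S : Scheme.{u}}

/-- Composition of two points of the arrows of a groupoid scheme. -/
noncomputable abbrev cmp (G : Grpd.GroupoidScheme S) {T : Scheme.{u}} (α β : T ⟶ G.R)
    (h : α ≫ G.s = β ≫ G.t) : T ⟶ G.R :=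
  pullback.lift α β h ≫ G.c

theorem cmp_congr (G : Grpd.GroupoidScheme S) {T : Scheme.{u}} {α α' β β' : T ⟶ G.R}
    (h : α ≫ G.s = β ≫ G.t) (eα : α = α') (eβ : β = β') :
    cmp G α β h = cmp G α' β' (by rw [← eα, ← eβ, h]) := by
  subst eα eβ; rfl

theorem comp_cmp (G : Grpd.GroupoidScheme S) {T T' : Scheme.{u}} (f : T' ⟶ T) (α β : T ⟶ G.R)
    (h : α ≫ G.s = β ≫ G.t) :
    f ≫ cmp G α β h = cmp G (f ≫ α) (f ≫ β) (by rw [Category.assoc, Category.assoc, h]) := by
  rw [cmp, cmp, ← Category.assoc]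
  congr 1
  apply pullback.hom_ext
  · rw [Category.assoc, pullback.lift_fst, pullback.lift_fst]
  · rw [Category.assoc, pullback.lift_snd, pullback.lift_snd]

/-- `(γ α⁻¹) α = γ`. -/
theorem cmp_inv_right (G : Grpd.GroupoidScheme S) {T : Scheme.{u}} (α β : T ⟶ G.R)
    (h : α ≫ G.s = β ≫ G.s) (h' : β ≫ G.s = (α ≫ G.i) ≫ G.t) :
    cmp G (cmp G β (α ≫ G.i) h') α ((G.comp_s _ _ h').trans (by rw [Category.assoc, G.i_s])) = β := by
  have h₂ : (α ≫ G.i) ≫ G.s = α ≫ G.t := by rw [Category.assoc, G.i_s]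
  show pullback.lift (pullback.lift β (α ≫ G.i) h' ≫ G.c) α _ ≫ G.c = β
  rw [G.assoc β (α ≫ G.i) α h' h₂]
  exact (cmp_congr G (h'.trans (G.comp_t _ _ h₂).symm) rfl
    ((G.i_comp α).trans (by rw [← Category.assoc, h, Category.assoc]))).trans (G.comp_e β)

/-- `(γ α) α⁻¹ = γ`. -/
theorem cmp_inv_right' (G : Grpd.GroupoidScheme S) {T : Scheme.{u}} (α β : T ⟶ G.R)
    (h : β ≫ G.s = α ≫ G.t) (h' : cmp G β α h ≫ G.s = (α ≫ G.i) ≫ G.t) :
    cmp G (cmp G β α h) (α ≫ G.i) h' = β := by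
  have h₂ : α ≫ G.s = (α ≫ G.i) ≫ G.t := by rw [Category.assoc, G.i_t]
  show pullback.lift (pullback.lift β α h ≫ G.c) (α ≫ G.i) _ ≫ G.c = β
  rw [G.assoc β α (α ≫ G.i) h h₂]
  exact (cmp_congr G (h.trans (G.comp_t _ _ h₂).symm) rfl
    ((G.comp_i α).trans (by rw [← Category.assoc, ← h, Category.assoc]))).trans (G.comp_e β)

variable {G₁ G₂ : Grpd.GroupoidScheme S} (a : Grpd.GroupoidScheme.Hom G₁ G₂)

theorem fR_cmp {T : Scheme.{u}} (α β : T ⟶ G₁.R) (h : α ≫ G₁.s = β ≫ G₁.t) :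
    cmp G₁ α β h ≫ a.fR = cmp G₂ (α ≫ a.fR) (β ≫ a.fR)
      (by rw [Category.assoc, Category.assoc, a.comm_s, a.comm_t, ← Category.assoc, h,
        Category.assoc]) :=
  a.comm_c α β h

theorem e_fR : G₁.e ≫ a.fR = a.fU ≫ G₂.e := by
  let ε := G₁.e ≫ a.fR
  have hs : ε ≫ G₂.s = a.fU := by
    rw [Category.assoc, a.comm_s, ← Category.assoc, G₁.e_s, Category.id_comp]
  have ht : ε ≫ G₂.t = a.fU := by
    rw [Category.assoc, a.comm_t, ← Category.assoc, G₁.e_t, Category.id_comp]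
  have hst : ε ≫ G₂.s = ε ≫ G₂.t := hs.trans ht.symm
  have hidem : cmp G₂ ε ε hst = ε := by
    have h1 : G₁.e ≫ G₁.s = G₁.e ≫ G₁.t := G₁.e_s.trans G₁.e_t.symm
    have h2 : cmp G₁ G₁.e G₁.e h1 = G₁.e :=
      (cmp_congr G₁ h1 rfl (by rw [← Category.assoc, G₁.e_s, Category.id_comp])).trans
        (G₁.comp_e G₁.e)
    have h3 := fR_cmp a G₁.e G₁.e h1
    rw [h2] at h3
    exact h3.symm
  have h4 := cmp_inv_right' G₂ ε ε hst (by
    rw [hidem]; simp only [Category.assoc, G₂.i_t])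
  have h5 : cmp G₂ ε (ε ≫ G₂.i) (by simp only [Category.assoc, G₂.i_t]) = ε :=
    (cmp_congr G₂ _ hidem.symm rfl).trans h4
  show ε = _
  rw [← ht]
  exact h5.symm.trans ((G₂.comp_i ε).trans (Category.assoc _ _ _).symm)

theorem i_fR {T : Scheme.{u}} (α : T ⟶ G₁.R) : (α ≫ G₁.i) ≫ a.fR = (α ≫ a.fR) ≫ G₂.i := by
  have h0 : (α ≫ G₁.i) ≫ G₁.s = α ≫ G₁.t := by rw [Category.assoc, G₁.i_s]
  let α' := α ≫ a.fR
  let β' := (α ≫ G₁.i) ≫ a.fR
  have h : β' ≫ G₂.s = α' ≫ G₂.t := by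
    simp only [α', β', Category.assoc, a.comm_s, a.comm_t, reassoc_of% G₁.i_s]
  have h1 : cmp G₂ β' α' h = α' ≫ G₂.s ≫ G₂.e := by
    rw [← fR_cmp a (α ≫ G₁.i) α h0, show cmp G₁ (α ≫ G₁.i) α h0 = α ≫ G₁.s ≫ G₁.e from G₁.i_comp α]
    simp only [α', Category.assoc, e_fR a, reassoc_of% a.comm_s]
  have h2 := cmp_inv_right' G₂ α' β' h (by
    rw [h1]; simp only [Category.assoc, G₂.e_s, G₂.i_t, Category.comp_id])
  have h3 : cmp G₂ (α' ≫ G₂.s ≫ G₂.e) (α' ≫ G₂.i)
      (by simp only [Category.assoc, G₂.e_s, G₂.i_t, Category.comp_id]) = α' ≫ G₂.i := by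
    refine (cmp_congr G₂ _ ?_ rfl).trans (G₂.e_comp (α' ≫ G₂.i))
    simp only [Category.assoc, reassoc_of% G₂.i_t]
  exact h2.symm.trans ((cmp_congr G₂ _ h1 rfl).trans h3)

variable {k : Type u} [Field k] (G : Grpd.GroupoidScheme S) (eU : G.U ≅ Spec (CommRingCat.of k))

/-- The division `(a, b) ↦ b a⁻¹` on pairs with the same source. -/
noncomputable def grpdDiv : pullback (G.s ≫ eU.hom) (G.s ≫ eU.hom) ⟶ G.R :=
  cmp G (pullback.snd _ _) (pullback.fst _ _ ≫ G.i) (by
    rw [Category.assoc, G.i_t, ← cancel_mono eU.hom, Category.assoc, Category.assoc]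
    exact pullback.condition.symm)

theorem comp_grpdDiv {T : Scheme.{u}} (f : T ⟶ pullback (G.s ≫ eU.hom) (G.s ≫ eU.hom))
    (α β : T ⟶ G.R) (hα : f ≫ pullback.fst _ _ = α) (hβ : f ≫ pullback.snd _ _ = β)
    (h : β ≫ G.s = (α ≫ G.i) ≫ G.t) : f ≫ grpdDiv G eU = cmp G β (α ≫ G.i) h := by
  subst hα hβ
  rw [grpdDiv, comp_cmp]
  simp only [Category.assoc]

theorem diagonal_grpdDiv :
    pullback.diagonal (G.s ≫ eU.hom) ≫ grpdDiv G eU = G.t ≫ G.e := by
  rw [comp_grpdDiv G eU _ (𝟙 G.R) (𝟙 G.R) (pullback.diagonal_fst _) (pullback.diagonal_snd _)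
    (by rw [Category.id_comp, Category.id_comp, G.i_t])]
  exact (G.comp_i (𝟙 G.R)).trans (Category.id_comp _)

theorem isClosed_range_of_isLocallyClosed_grpd (eU : G₂.U ≅ Spec (CommRingCat.of k)) [IsIso a.fU]
    (hlc : IsLocallyClosed (Set.range a.fR)) : IsClosed (Set.range a.fR) := by
  have : Subsingleton G₂.U := eU.hom.homeomorph.subsingleton
  let eU₁ : G₁.U ≅ Spec (CommRingCat.of k) := asIso a.fU ≪≫ eU
  let J : pullback (G₁.s ≫ eU₁.hom) (G₁.s ≫ eU₁.hom) ⟶
      pullback (G₂.s ≫ eU.hom) (G₂.s ≫ eU.hom) :=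
    pullback.map _ _ _ _ a.fR a.fR (𝟙 _)
      (by simp [eU₁, reassoc_of% a.comm_s]) (by simp [eU₁, reassoc_of% a.comm_s])
  have hlift : ∀ q, pullback.fst (G₂.s ≫ eU.hom) (G₂.s ≫ eU.hom) q ∈ Set.range a.fR →
      pullback.snd (G₂.s ≫ eU.hom) (G₂.s ≫ eU.hom) q ∈ Set.range a.fR → q ∈ Set.range J :=
    fun q h₁ h₂ => (Scheme.Pullback.range_map _ _ _ _ _ _ _ _ _).ge ⟨h₁, h₂⟩
  have hJ : J ≫ grpdDiv G₂ eU = grpdDiv G₁ eU₁ ≫ a.fR := by
    have hst : ∀ (H : Grpd.GroupoidScheme S) (e : H.U ≅ Spec (CommRingCat.of k)),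
        pullback.snd (H.s ≫ e.hom) (H.s ≫ e.hom) ≫ H.s = (pullback.fst _ _ ≫ H.i) ≫ H.t := fun H e => by
      rw [Category.assoc, H.i_t, ← cancel_mono e.hom, Category.assoc, Category.assoc]
      exact pullback.condition.symm
    rw [grpdDiv, grpdDiv, fR_cmp a _ _ (hst _ _), comp_cmp]
    refine cmp_congr G₂ _ (pullback.lift_snd _ _ _) ?_
    rw [i_fR a, ← Category.assoc, pullback.lift_fst]
  have he : ∀ x : G₂.R, (G₂.t ≫ G₂.e) x ∈ Set.range a.fR := fun x => by
    obtain ⟨u⟩ : Nonempty G₁.U := ⟨eU₁.inv (IsLocalRing.closedPoint k)⟩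
    refine ⟨G₁.e u, ?_⟩
    rw [← Scheme.Hom.comp_apply, e_fR a, Scheme.Hom.comp_apply, Scheme.Hom.comp_apply]
    exact congrArg G₂.e (Subsingleton.elim _ _)
  refine isClosed_of_division_stable _ (grpdDiv G₂ eU) _ hlc (fun x => ?_) (fun q h₁ h₂ => ?_)
    (fun q h₁ h₂ => ?_)
  · rw [← Scheme.Hom.comp_apply, diagonal_grpdDiv]
    exact he x
  · obtain ⟨q₀, rfl⟩ := hlift q h₁ h₂
    exact ⟨grpdDiv G₁ eU₁ q₀, by rw [← Scheme.Hom.comp_apply, ← hJ]; rfl⟩
  · -- `b = (b a⁻¹) a`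
    let fst₂ := pullback.fst (G₂.s ≫ eU.hom) (G₂.s ≫ eU.hom)
    let snd₂ := pullback.snd (G₂.s ≫ eU.hom) (G₂.s ≫ eU.hom)
    have h : fst₂ ≫ G₂.s = snd₂ ≫ G₂.s := by
      rw [← cancel_mono eU.hom, Category.assoc, Category.assoc]; exact pullback.condition
    have h' : snd₂ ≫ G₂.s = (fst₂ ≫ G₂.i) ≫ G₂.t := by rw [Category.assoc, G₂.i_t, h]
    let F := pullback.lift (f := G₂.s) (g := G₂.t) (grpdDiv G₂ eU) fst₂
      ((G₂.comp_s _ _ h').trans (by rw [Category.assoc, G₂.i_s]))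
    have hF : F ≫ G₂.c = snd₂ := cmp_inv_right G₂ fst₂ snd₂ h h'
    let J' : pullback G₁.s G₁.t ⟶ pullback G₂.s G₂.t :=
      pullback.map _ _ _ _ a.fR a.fR a.fU a.comm_s.symm a.comm_t.symm
    obtain ⟨q₀, hq₀⟩ : F q ∈ Set.range J' := by
      rw [Scheme.Pullback.range_map]
      constructor
      · rw [Set.mem_preimage]
        rw [← Scheme.Hom.comp_apply, pullback.lift_fst]; exact h₂
      · rw [Set.mem_preimage]
        rw [← Scheme.Hom.comp_apply, pullback.lift_snd]; exact h₁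
    have hJ' : J' ≫ G₂.c = G₁.c ≫ a.fR := by
      have h3 := fR_cmp a (pullback.fst G₁.s G₁.t) (pullback.snd _ _) pullback.condition
      rw [cmp, pullback.lift_fst_snd, Category.id_comp] at h3
      exact h3.symm
    refine ⟨G₁.c q₀, ?_⟩
    rw [← Scheme.Hom.comp_apply, ← hJ', Scheme.Hom.comp_apply, hq₀, ← Scheme.Hom.comp_apply, hF]

include eU in
theorem isOpenMap_comp_grpd : IsOpenMap G.c := by
  have : UniversallyOpen G.s := by
    have h : G.s = (G.s ≫ eU.hom) ≫ eU.inv := by simp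
    rw [h]; infer_instance
  let F : pullback G.s G.t ⟶ pullback G.s G.s :=
    pullback.lift G.c (pullback.snd _ _) (by
      have := G.comp_s (pullback.fst G.s G.t) (pullback.snd _ _) pullback.condition
      rwa [pullback.lift_fst_snd, Category.id_comp] at this)
  have hF : IsIso F := by
    have h' : pullback.fst G.s G.s ≫ G.s = (pullback.snd G.s G.s ≫ G.i) ≫ G.t := by
      rw [Category.assoc, G.i_t]; exact pullback.condition
    refine ⟨pullback.lift (cmp G (pullback.fst G.s G.s) (pullback.snd _ _ ≫ G.i) h') (pullback.snd _ _)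
      ((G.comp_s _ _ h').trans (by rw [Category.assoc, G.i_s])), ?_, ?_⟩
    · apply pullback.hom_ext
      · rw [Category.assoc, pullback.lift_fst, Category.id_comp, comp_cmp]
        refine (cmp_congr G _ (pullback.lift_fst _ _ _)
          (by rw [← Category.assoc, pullback.lift_snd])).trans ?_
        have h1 := cmp_inv_right' G (pullback.snd G.s G.t) (pullback.fst G.s G.t) pullback.condition
          ((G.comp_s _ _ _).trans (by simp only [Category.assoc, G.i_t]))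
        refine Eq.trans ?_ h1
        exact cmp_congr G _ (by rw [cmp, pullback.lift_fst_snd, Category.id_comp]) rfl
      · rw [Category.assoc, pullback.lift_snd, pullback.lift_snd, Category.id_comp]
    · apply pullback.hom_ext
      · rw [Category.assoc, pullback.lift_fst, Category.id_comp]
        exact cmp_inv_right G _ _ pullback.condition.symm h'
      · rw [Category.assoc, pullback.lift_snd, pullback.lift_snd, Category.id_comp]
  have h : G.c = F ≫ pullback.fst G.s G.s := (pullback.lift_fst _ _ _).symm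
  rw [h]
  exact Scheme.Hom.isOpenMap _

theorem isPullback_diagonal_grpdDiv :
    IsPullback (pullback.diagonal (G.s ≫ eU.hom)) G.t (grpdDiv G eU) G.e := by
  refine IsPullback.of_isLimit' ⟨diagonal_grpdDiv G eU⟩ (PullbackCone.IsLimit.mk _
    (fun s => s.fst ≫ pullback.fst _ _) (fun s => ?_) (fun s => ?_) (fun s m h₁ h₂ => ?_))
  · have hst : pullback.fst (G.s ≫ eU.hom) (G.s ≫ eU.hom) ≫ G.s = pullback.snd _ _ ≫ G.s := by
      rw [← cancel_mono eU.hom, Category.assoc, Category.assoc]; exact pullback.condition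
    let α := s.fst ≫ pullback.fst (G.s ≫ eU.hom) (G.s ≫ eU.hom)
    let β := s.fst ≫ pullback.snd (G.s ≫ eU.hom) (G.s ≫ eU.hom)
    have h : α ≫ G.s = β ≫ G.s := by simp only [α, β, Category.assoc, hst]
    have h' : β ≫ G.s = (α ≫ G.i) ≫ G.t := h.symm.trans (by simp only [Category.assoc, G.i_t])
    have hd : cmp G β (α ≫ G.i) h' = s.snd ≫ G.e :=
      (comp_grpdDiv G eU s.fst α β rfl rfl h').symm.trans s.condition
    have hsnd : s.snd = α ≫ G.t := by
      have h6 : cmp G β (α ≫ G.i) h' ≫ G.s = (α ≫ G.i) ≫ G.s := G.comp_s _ _ h'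
      rw [hd, Category.assoc, Category.assoc, G.e_s, G.i_s, Category.comp_id] at h6
      exact h6
    have e : β = α := by
      refine (cmp_inv_right G α β h h').symm.trans ?_
      refine (cmp_congr G _ (hd.trans ?_) rfl).trans (G.e_comp α)
      rw [hsnd, Category.assoc]
    apply pullback.hom_ext
    · rw [Category.assoc, pullback.diagonal_fst, Category.comp_id]
    · rw [Category.assoc, pullback.diagonal_snd, Category.comp_id]
      exact e.symm
  · have hd := s.condition =≫ G.s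
    rw [Category.assoc, Category.assoc, G.e_s, Category.comp_id] at hd
    rw [← hd, Category.assoc]
    congr 1
    rw [grpdDiv]
    refine ((G.comp_s _ _ _).trans ?_).symm
    rw [Category.assoc, G.i_s]
  · rw [← h₁, Category.assoc, pullback.diagonal_fst, Category.comp_id]

include eU in
theorem isSeparated_R_grpd : G.R.IsSeparated := by
  have : IsClosedImmersion G.e := by
    have := isClosedImmersion_of_comp_eq_id (Y := Spec (CommRingCat.of k)) (G.s ≫ eU.hom) (eU.inv ≫ G.e)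
      (by rw [Category.assoc, ← Category.assoc G.e, G.e_s, Category.id_comp, Iso.inv_hom_id])
    rwa [MorphismProperty.cancel_left_of_respectsIso @IsClosedImmersion] at this
  have hs : IsSeparated (G.s ≫ eU.hom) :=
    ⟨MorphismProperty.of_isPullback (P := @IsClosedImmersion)
      (isPullback_diagonal_grpdDiv G eU).flip this⟩
  constructor
  rw [← terminal.comp_from (G.s ≫ eU.hom)]
  infer_instance

end GrothLib.GrpSchField
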