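import Groth.Agent.Lib.GrpSchField.Cartier

/-!
Smoothness criteria for group schemes over a field.
-/

open CategoryTheory CategoryTheory.Limits MonoidalCategory CartesianMonoidalCategory MonObj GrpObj
open AlgebraicGeometry

namespace GrothLib.GrpSchField

universe u

variable {K : Type u} [Field K]

/-- Cartier's theorem. -/
theorem smooth_of_charZero [CharZero K] (G : Over (Spec (CommRingCat.of K))) [GrpObj G]
    [LocallyOfFiniteType G.hom] : Smooth G.hom := by
  let g : Spec (CommRingCat.of (AlgebraicClosure K)) ⟶ Spec (CommRingCat.of K) :=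
    Spec.map (CommRingCat.ofHom <| algebraMap K (AlgebraicClosure K))
  apply MorphismProperty.of_pullback_snd_of_descendsAlong
    (Q := @Surjective ⊓ @Flat ⊓ @QuasiCompact) (g := g)
  · exact ⟨⟨inferInstance, inferInstance⟩, inferInstance⟩
  · let : GrpObj (Over.mk G.hom) := (inferInstance : GrpObj G)
    let : GrpObj (Over.mk (pullback.snd G.hom g)) := Over.grpObjMkPullbackSnd
    have : CharZero (AlgebraicClosure K) :=
      charZero_of_injective_algebraMap (algebraMap K (AlgebraicClosure K)).injective
    have : LocallyOfFiniteType (Over.mk (pullback.snd G.hom g)).hom :=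
      (inferInstance : LocallyOfFiniteType (pullback.snd G.hom g))
    obtain ⟨U, j, h₁, h₂, h₃⟩ := exists_smooth_open_of_charZero (Over.mk (pullback.snd G.hom g))
    exact smooth_of_open_smooth (Over.mk (pullback.snd G.hom g)) j

/-- A group scheme with a nonempty reduced open subscheme over a perfect field is smooth. -/
theorem smooth_of_perfectField_of_isReduced [PerfectField K] (G : Over (Spec (CommRingCat.of K)))
    [GrpObj G] [LocallyOfFiniteType G.hom] [AlgebraicGeometry.IsReduced G.left] : Smooth G.hom := by
  have : LocallyOfFinitePresentation G.hom := inferInstance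
  have : Nonempty G.left := ⟨η[G].left (IsLocalRing.closedPoint K)⟩
  have hne := (Scheme.Hom.dense_smoothLocus_of_perfectField G.hom).nonempty
  have : Nonempty G.hom.smoothLocus := hne.to_subtype
  have : Smooth (G.hom.smoothLocus.ι ≫ G.hom) := by
    rw [← Scheme.Hom.smoothLocus_eq_top_iff, ← Scheme.Hom.preimage_smoothLocus_eq,
      Scheme.Opens.ι_preimage_self]
  exact smooth_of_open_smooth G G.hom.smoothLocus.ι

end GrothLib.GrpSchField
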