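import Mathlib.AlgebraicGeometry.Morphisms.Smooth
import Mathlib.RingTheory.RingHom.StandardSmooth
import Mathlib.Algebra.MvPolynomial.Funext
import Mathlib.RingTheory.Unramified.Field
import Mathlib.FieldTheory.IsSepClosed
import Mathlib.RingTheory.Jacobson.Ring
import Mathlib.RingTheory.Flat.Stability
import Mathlib.RingTheory.Spectrum.Prime.Chevalley

/-!
A nonempty smooth scheme over a separably closed field has a rational point.
-/

open CategoryTheory CategoryTheory.Limits AlgebraicGeometry

namespace GrothLib.GrpSchField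

universe u

theorem infinite_of_isSepClosed (k : Type*) [Field k] [IsSepClosed k] : Infinite k := by
  by_contra h
  have : Finite k := not_infinite_iff_finite.mp h
  have : IsAlgClosed k := inferInstance
  exact h inferInstance

theorem exists_algHom_of_isStandardSmooth {k S : Type u} [Field k] [IsSepClosed k] [CommRing S]
    [Nontrivial S] (f : k →+* S) (hf : f.IsStandardSmooth) :
    ∃ s : S →+* k, s.comp f = RingHom.id k := by
  obtain ⟨n, g, hgf, hg⟩ := hf.exists_etale_mvPolynomial
  algebraize [g, f]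
  have : IsScalarTower k (MvPolynomial (Fin n) k) S := IsScalarTower.of_algebraMap_eq' hgf.symm
  have : Algebra.Etale (MvPolynomial (Fin n) k) S := hg
  obtain ⟨q₀⟩ : Nonempty (PrimeSpectrum S) := inferInstance
  have hopen := PrimeSpectrum.isOpenMap_comap_of_hasGoingDown_of_finitePresentation
    (R := MvPolynomial (Fin n) k) (S := S) _ isOpen_univ
  obtain ⟨_, ⟨h, rfl⟩, hq, hh⟩ :=
    PrimeSpectrum.isTopologicalBasis_basic_opens.exists_subset_of_mem_open
      (Set.mem_image_of_mem _ (Set.mem_univ q₀)) hopen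
  have hh0 : h ≠ 0 := fun e => hq (by simp [e])
  have := infinite_of_isSepClosed k
  obtain ⟨a, ha⟩ : ∃ a : Fin n → k, MvPolynomial.eval a h ≠ 0 := by
    by_contra H
    push Not at H
    exact hh0 (MvPolynomial.funext fun x => by simpa using H x)
  let ε : MvPolynomial (Fin n) k →+* k := MvPolynomial.eval a
  have hεs : Function.Surjective ε := fun c => ⟨MvPolynomial.C c, MvPolynomial.eval_C c⟩
  have : (RingHom.ker ε).IsMaximal := RingHom.ker_isMaximal_of_surjective _ hεs
  obtain ⟨q, -, hq'⟩ := hh (show (⟨RingHom.ker ε, inferInstance⟩ : PrimeSpectrum _) ∈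
    PrimeSpectrum.basicOpen h from ha)
  obtain ⟨m, hm, hqm⟩ := q.asIdeal.exists_le_maximal q.isPrime.ne_top
  have hker : RingHom.ker ε ≤ m.comap g := by
    refine le_trans (le_of_eq ?_) (Ideal.comap_mono hqm)
    exact congrArg PrimeSpectrum.asIdeal hq'.symm
  let L := S ⧸ m
  let := Ideal.Quotient.field m
  let ψ : k →+* L := (Ideal.Quotient.mk m).comp f
  have hψ : ∀ p, ψ (ε p) = Ideal.Quotient.mk m (g p) := by
    intro p
    have h1 : p - MvPolynomial.C (ε p) ∈ RingHom.ker ε := by simp [RingHom.mem_ker, ε]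
    have h2 := hker h1
    rw [Ideal.mem_comap, map_sub, ← Ideal.Quotient.mk_eq_mk_iff_sub_mem] at h2
    rw [h2]
    exact congrArg (Ideal.Quotient.mk m) (RingHom.congr_fun hgf _).symm
  let _ : Algebra (MvPolynomial (Fin n) k) k := ε.toAlgebra
  have : IsScalarTower (MvPolynomial (Fin n) k) k L :=
    IsScalarTower.of_algebraMap_eq fun p => (hψ p).symm
  have : Algebra.FormallyUnramified (MvPolynomial (Fin n) k) L :=
    Algebra.FormallyUnramified.of_surjective (Ideal.Quotient.mkₐ (MvPolynomial (Fin n) k) m)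
      Ideal.Quotient.mk_surjective
  have : Algebra.FormallyUnramified k L :=
    Algebra.FormallyUnramified.of_restrictScalars (MvPolynomial (Fin n) k) k L
  have : Algebra.FiniteType k S := Algebra.FiniteType.trans (S := MvPolynomial (Fin n) k) inferInstance inferInstance
  have : Algebra.FiniteType k L :=
    Algebra.FiniteType.of_surjective (Ideal.Quotient.mkₐ k m) Ideal.Quotient.mk_surjective
  have : Module.Finite k L := finite_of_finite_type_of_isJacobsonRing k L
  have : Algebra.IsSeparable k L := Algebra.FormallyUnramified.isSeparable k L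
  let e := RingEquiv.ofBijective (algebraMap k L) (IsSepClosed.algebraMap_bijective k L)
  refine ⟨e.symm.toRingHom.comp (Ideal.Quotient.mk m), RingHom.ext fun c => ?_⟩
  exact e.symm_apply_apply c

/-- A nonempty scheme smooth over a separably closed field has a rational point. -/
theorem exists_section_of_smooth {k : Type u} [Field k] [IsSepClosed k] {X : Scheme.{u}}
    (f : X ⟶ Spec (CommRingCat.of k)) [Smooth f] [Nonempty X] :
    ∃ s : Spec (CommRingCat.of k) ⟶ X, s ≫ f = 𝟙 _ := by
  obtain ⟨x⟩ := ‹Nonempty X›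
  obtain ⟨U, hU, V, hV, hxV, e, he⟩ := Smooth.exists_isStandardSmooth f x
  have htop : U = ⊤ := by
    ext s
    simp only [TopologicalSpace.Opens.coe_top, Set.mem_univ, iff_true]
    rw [Subsingleton.elim (α := ↥(Spec (CommRingCat.of k))) s (f x)]
    exact e hxV
  subst htop
  let ι := Scheme.ΓSpecIso (CommRingCat.of k)
  let φ : CommRingCat.of k ⟶ Γ(X, V) := ι.inv ≫ f.appLE ⊤ V e
  have hφ : φ.hom.IsStandardSmooth :=
    RingHom.isStandardSmooth_respectsIso.2 (f.appLE ⊤ V e).hom
      ι.symm.commRingCatIsoToRingEquiv he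
  have : Nonempty V := ⟨⟨x, hxV⟩⟩
  have : Nontrivial Γ(X, V) := inferInstance
  obtain ⟨s, hs⟩ := exists_algHom_of_isStandardSmooth φ.hom hφ
  refine ⟨Spec.map (CommRingCat.ofHom s) ≫ hV.fromSpec, ?_⟩
  have h1 : hV.fromSpec ≫ f = Spec.map φ := by
    rw [← IsAffineOpen.SpecMap_appLE_fromSpec f (isAffineOpen_top _) hV e,
      IsAffineOpen.fromSpec_top, Scheme.isoSpec_Spec_inv, ← Spec.map_comp]
  rw [Category.assoc, h1, ← Spec.map_comp, show φ ≫ CommRingCat.ofHom s = 𝟙 _ from
    CommRingCat.hom_ext hs, Spec.map_id]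

end GrothLib.GrpSchField
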