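import Groth.Agent.Lib.GrpSchField.DensePts
import Groth.Agent.Lib.GrpSchField.SepPoint
import Groth.Agent.Lib.GrpSchField.Pts
import Groth.Agent.Lib.EtSite.FpqcDescent
import Groth.Agent.Lib.RedSmooth.Basic
import Groth.Agent.Lib.DiagGrp.TrivOver
import Mathlib.AlgebraicGeometry.AlgClosed.Basic
import Mathlib.AlgebraicGeometry.Morphisms.FiniteType

/-!
Points over a separably closed field are schematically dense in smooth schemes.
-/

universe u

open CategoryTheory Limits AlgebraicGeometry MonoidalCategory CartesianMonoidalCategory MonObj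

namespace GrothLib.GrpSchField

variable {k : Type u} [Field k] (K : Type u) [Field K] [Algebra k K]

/-- The point `Spec K` over `k`. -/
noncomputable abbrev kPt : Over (Spec (CommRingCat.of k)) :=
  Over.mk (Spec.map (CommRingCat.ofHom (algebraMap k K)))

variable {K} {A : Over (Spec (CommRingCat.of k))}

theorem mem_range_of_points {Z : Over (Spec (CommRingCat.of k))} (c : Z ⟶ A)
    (h : ∀ x : kPt K ⟶ A, ∃ z : kPt K ⟶ Z, z ≫ c = x)
    (s : Spec (CommRingCat.of K) ⟶ pullback A.hom (Spec.map (CommRingCat.ofHom (algebraMap k K))))
    (hs : s ≫ pullback.snd _ _ = 𝟙 _) (t : Spec (CommRingCat.of K)) :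
    s t ∈ Set.range (pullback.snd c.left (pullback.fst A.hom (Spec.map (CommRingCat.ofHom (algebraMap k K))))) := by
  let x : kPt K ⟶ A := Over.homMk (s ≫ pullback.fst A.hom _) (by
    show (s ≫ pullback.fst A.hom _) ≫ A.hom = Spec.map _
    rw [Category.assoc, pullback.condition, reassoc_of% hs])
  obtain ⟨z, hz⟩ := h x
  refine ⟨pullback.lift z.left s congr($(hz).left) t, ?_⟩
  rw [← Scheme.Hom.comp_apply, pullback.lift_snd]

/-- Over a separably closed field the points are schematically dense in a smooth scheme. -/
theorem densePts_of_smooth [IsSepClosed K] [Smooth A.hom] : DensePts (kPt (k := k) K) A := by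
  intro Z c hc h
  let b := Spec.map (CommRingCat.ofHom (algebraMap k K))
  let q := pullback.fst A.hom b
  let e := pullback.snd c.left q
  have hb : Surjective b := ⟨fun y => ⟨IsLocalRing.closedPoint K, Subsingleton.elim (α := PrimeSpectrum k) _ _⟩⟩
  have : IsClosedImmersion e := MorphismProperty.pullback_snd _ _ hc
  have hd : Dense (Set.range e) := by
    rw [dense_iff_inter_open]
    intro U hU hne
    let U' : (pullback A.hom b).Opens := ⟨U, hU⟩
    have : Nonempty U' := hne.to_subtype
    obtain ⟨s, hs⟩ := exists_section_of_smooth (U'.ι ≫ pullback.snd A.hom b)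
    refine ⟨(s ≫ U'.ι) (IsLocalRing.closedPoint K), ?_, mem_range_of_points c h (s ≫ U'.ι) (by rw [Category.assoc, hs]) _⟩
    rw [Scheme.Hom.comp_apply]
    exact (s (IsLocalRing.closedPoint K)).2
  have : Surjective e := ⟨by
    rw [← Set.range_eq_univ, ← e.isClosedEmbedding.isClosed_range.closure_eq, hd.closure_eq]⟩
  have : IsReduced (pullback A.hom b) := GrothLib.RedSmooth.isReduced_of_smooth (pullback.snd A.hom b)
  have he : IsIso e := isIso_of_isClosedImmersion_of_surjective e
  have : Flat b := GrothLib.DiagGrp.flat_of_field _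
  have hq : (@Surjective ⊓ @Flat ⊓ @QuasiCompact : MorphismProperty Scheme.{u}) q :=
    ⟨⟨MorphismProperty.pullback_fst _ _ hb, inferInstance⟩, inferInstance⟩
  have : IsIso c.left := MorphismProperty.of_pullback_fst_of_descendsAlong (P := .isomorphisms Scheme.{u})
    (Q := @Surjective ⊓ @Flat ⊓ @QuasiCompact) (f := q) (g := c.left) hq
    (by
      rw [MorphismProperty.isomorphisms.iff, ← pullbackSymmetry_hom_comp_snd]
      infer_instance)
  have : IsIso ((Over.forget _).map c) := this
  exact isIso_of_reflects_iso c (Over.forget _)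

/-- Over an algebraically closed field the points are schematically dense in a reduced scheme. -/
theorem densePts_of_reduced [IsAlgClosed K] [IsReduced A.left] [LocallyOfFiniteType A.hom] :
    DensePts (kPt (k := k) K) A := by
  intro Z c hc h
  let b := Spec.map (CommRingCat.ofHom (algebraMap k K))
  let q := pullback.fst A.hom b
  let e := pullback.snd c.left q
  have hb : Surjective b := ⟨fun y => ⟨IsLocalRing.closedPoint K, Subsingleton.elim (α := PrimeSpectrum k) _ _⟩⟩
  have : IsClosedImmersion e := MorphismProperty.pullback_snd _ _ hc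
  let p := pullback.snd A.hom b
  have : JacobsonSpace ↥(pullback A.hom b) := LocallyOfFiniteType.jacobsonSpace p
  have hsub : closedPoints ↥(pullback A.hom b) ⊆ Set.range e := fun x hx => by
    rw [← pointOfClosedPoint_apply p x hx (IsLocalRing.closedPoint K)]
    exact mem_range_of_points c h _ (pointOfClosedPoint_comp p x hx) _
  have huniv : Set.range e = Set.univ := Set.eq_univ_of_univ_subset (by
    rw [← closure_closedPoints]
    exact closure_minimal hsub e.isClosedEmbedding.isClosed_range)
  have : Surjective c.left := ⟨fun a => by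
    have : Surjective q := MorphismProperty.pullback_fst _ _ hb
    obtain ⟨w, rfl⟩ := q.surjective a
    obtain ⟨v, rfl⟩ := huniv.ge (Set.mem_univ w)
    refine ⟨pullback.fst c.left q v, ?_⟩
    rw [← Scheme.Hom.comp_apply, pullback.condition, Scheme.Hom.comp_apply]⟩
  have := isIso_of_isClosedImmersion_of_surjective c.left
  have : IsIso ((Over.forget _).map c) := this
  exact isIso_of_reflects_iso c (Over.forget _)

end GrothLib.GrpSchField
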