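import Mathlib.AlgebraicGeometry.Noetherian
import Mathlib.AlgebraicGeometry.Properties
import Mathlib.RingTheory.Localization.AtPrime.Basic
import Mathlib.RingTheory.Nilpotent.Lemmas

/-!
On a locally noetherian scheme a point with reduced local ring has a reduced open neighbourhood.
-/

open CategoryTheory AlgebraicGeometry

namespace GrothLib.GrpSchField

universe u

theorem exists_isReduced_nhd {X : Scheme.{u}} [IsLocallyNoetherian X] (x : X)
    [_root_.IsReduced (X.presheaf.stalk x)] :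
    ∃ U : X.Opens, x ∈ U ∧ AlgebraicGeometry.IsReduced U.toScheme := by
  obtain ⟨_, ⟨U₀, hU, rfl⟩, hxU, -⟩ := X.isBasis_affineOpens.exists_subset_of_mem_open
    (a := x) (Set.mem_univ _) isOpen_univ
  let U : X.Opens := U₀
  have : IsNoetherianRing Γ(X, U) := IsLocallyNoetherian.component_noetherian ⟨U, hU⟩
  let p : PrimeSpectrum Γ(X, U) := hU.primeIdealOf ⟨x, hxU⟩
  let _ : Algebra Γ(X, U) (X.presheaf.stalk x) := X.presheaf.algebra_section_stalk ⟨x, hxU⟩
  have : IsLocalization.AtPrime (X.presheaf.stalk x) p.asIdeal :=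
    hU.isLocalization_stalk ⟨x, hxU⟩
  obtain ⟨S, hS⟩ := (IsNoetherian.noetherian (nilradical Γ(X, U)) : (nilradical Γ(X, U)).FG)
  have hkill : ∀ a ∈ S, ∃ f, f ∉ p.asIdeal ∧ f * a = 0 := fun a ha => by
    have hnil : IsNilpotent a := mem_nilradical.mp (hS ▸ Ideal.subset_span ha)
    have h0 : algebraMap Γ(X, U) (X.presheaf.stalk x) a = 0 := (hnil.map _).eq_zero
    obtain ⟨⟨f, hf⟩, hfa⟩ := (IsLocalization.map_eq_zero_iff p.asIdeal.primeCompl _ a).mp h0
    exact ⟨f, hf, hfa⟩
  choose g hg hga using hkill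
  classical
  let f : Γ(X, U) := ∏ a ∈ S.attach, g a.1 a.2
  have hf : f ∉ p.asIdeal := fun h => by
    obtain ⟨a, -, ha⟩ := (p.2.prod_mem_iff).mp h
    exact hg _ _ ha
  have hfN : ∀ a : Γ(X, U), IsNilpotent a → f * a = 0 := fun a ha => by
    have : a ∈ Ideal.span (S : Set Γ(X, U)) := by
      rw [show Ideal.span (S : Set Γ(X, U)) = nilradical Γ(X, U) from hS]; exact mem_nilradical.mpr ha
    clear ha
    induction this using Submodule.span_induction with
    | mem b hb =>
      obtain ⟨c, hc⟩ : g b hb ∣ f :=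
        Finset.dvd_prod_of_mem (fun a : {a // a ∈ S} => g a.1 a.2) (Finset.mem_attach S ⟨b, hb⟩)
      rw [hc, mul_right_comm, hga, zero_mul]
    | zero => rw [mul_zero]
    | add b c _ _ hb hc => rw [mul_add, hb, hc, add_zero]
    | smul r b _ hb => rw [smul_eq_mul, mul_left_comm, hb, mul_zero]
  have hx : x ∈ X.basicOpen f := by
    rw [Scheme.mem_basicOpen _ _ _ hxU]
    have := (IsLocalization.AtPrime.isUnit_to_map_iff (X.presheaf.stalk x) p.asIdeal f).mpr hf
    exact this
  have : IsLocalization.Away f Γ(X, X.basicOpen f) := hU.isLocalization_basicOpen f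
  have hred : _root_.IsReduced Γ(X, X.basicOpen f) := by
    refine ⟨fun y hy => ?_⟩
    obtain ⟨⟨a, m⟩, ha⟩ := IsLocalization.surj (Submonoid.powers f) y
    have hunit := IsLocalization.map_units Γ(X, X.basicOpen f) m
    obtain ⟨n, hn⟩ := hy
    have h0 : algebraMap Γ(X, U) Γ(X, X.basicOpen f) (a ^ n) = 0 := by
      rw [map_pow, ← ha, mul_pow, hn, zero_mul]
    obtain ⟨⟨c, l, rfl⟩, hl⟩ := (IsLocalization.map_eq_zero_iff (Submonoid.powers f) _ _).mp h0
    have hnil : IsNilpotent (f ^ l * a) := ⟨n + 1, by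
      calc (f ^ l * a) ^ (n + 1) = f ^ (l * n) * a * (f ^ l * a ^ n) := by ring
        _ = 0 := by rw [hl, mul_zero]⟩
    have h1 := congrArg (algebraMap Γ(X, U) Γ(X, X.basicOpen f)) (hfN _ hnil)
    rw [← mul_assoc, ← pow_succ', map_mul, map_zero] at h1
    have hfu : IsUnit (algebraMap Γ(X, U) Γ(X, X.basicOpen f) (f ^ (l + 1))) :=
      IsLocalization.map_units Γ(X, X.basicOpen f) (⟨_, l + 1, rfl⟩ : Submonoid.powers f)
    have h2 := hfu.mul_right_eq_zero.mp h1
    exact hunit.mul_left_eq_zero.mp (ha.trans h2)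
  refine ⟨X.basicOpen f, hx, ?_⟩
  have : IsAffine (X.basicOpen f).toScheme := hU.basicOpen f
  have : _root_.IsReduced Γ((X.basicOpen f).toScheme, ⊤) :=
    isReduced_of_injective (X.basicOpen f).topIso.commRingCatIsoToRingEquiv
      (X.basicOpen f).topIso.commRingCatIsoToRingEquiv.injective
  exact isReduced_of_isAffine_isReduced _

end GrothLib.GrpSchField
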