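import Groth.Agent.Lib.GenFree.Generic
import Mathlib.Algebra.Polynomial.FieldDivision
import Mathlib.Algebra.Field.Subfield.Basic
import Mathlib.RingTheory.Algebraic.Basic
import Mathlib.RingTheory.Algebraic.Integral
import Mathlib.RingTheory.PrincipalIdealDomain
import Mathlib.RingTheory.UniqueFactorizationDomain.NormalizedFactors

/-!
Subfields of finitely generated domains over a field are algebraic over it.
-/

universe u

open Polynomial

namespace GrothLib.GrpSchField

/-- Two ring homomorphisms from a field agree on its prime field. -/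
theorem eq_on_bot_subfield {K A : Type*} [Field K] [CommRing A] [Nontrivial A] (σ τ : K →+* A) (c : K)
    (hc : c ∈ (⊥ : Subfield K)) : σ c = τ c := by
  let L : Subfield K :=
    { (RingHom.eqLocus σ τ) with
      inv_mem' := fun x hx => by
        rcases eq_or_ne x 0 with rfl | hx0
        · exact (RingHom.eqLocus σ τ).zero_mem |> fun h => by simpa using h
        · show σ x⁻¹ = τ x⁻¹
          have h1 : σ x * σ x⁻¹ = σ x * τ x⁻¹ := by
            rw [← map_mul, mul_inv_cancel₀ hx0, map_one, show σ x = τ x from hx, ← map_mul,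
              mul_inv_cancel₀ hx0, map_one]
          exact (IsUnit.map σ (IsUnit.mk0 x hx0)).mul_right_inj.mp h1 }
  exact (bot_le : (⊥ : Subfield K) ≤ L) hc

/-- A polynomial over a subfield of degree at least one coprime to a given one. -/
theorem exists_coprime_map {k : Type u} [Field k] (F : Subfield k) (f : k[X]) (hf : f ≠ 0) :
    ∃ P : F[X], 0 < P.natDegree ∧ IsCoprime (P.map F.subtype) f := by
  classical
  let φ : F[X] →+* k[X] := Polynomial.mapRingHom F.subtype
  have hφ : Function.Injective φ := Polynomial.map_injective _ F.subtype.injective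
  let g : k[X] → F[X] := fun π => if h : ∃ p, p ≠ 0 ∧ π ∣ φ p then h.choose else 1
  have hg : ∀ π, g π ≠ 0 := fun π => by
    simp only [g]
    split
    · next h => exact h.choose_spec.1
    · exact one_ne_zero
  let G : F[X] := ∏ π ∈ (UniqueFactorizationMonoid.normalizedFactors f).toFinset, g π
  have hG : G ≠ 0 := Finset.prod_ne_zero_iff.mpr fun π _ => hg π
  have hdeg : 0 < (X * G + 1).natDegree := by
    rw [show (1 : F[X]) = C 1 from C_1.symm, natDegree_add_C, natDegree_X_mul hG]
    omega
  refine ⟨X * G + 1, hdeg, (isCoprime_of_prime_dvd (fun h => hf h.2) fun π hπ h1 h2 => ?_).symm.symm⟩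
  obtain ⟨π', hπ', hassoc⟩ := UniqueFactorizationMonoid.exists_mem_normalizedFactors_of_dvd hf hπ.irreducible h2
  have h1' : π' ∣ φ (X * G + 1) := hassoc.symm.dvd.trans h1
  have hne : X * G + 1 ≠ 0 := fun h => by rw [h] at hdeg; simp at hdeg
  have hex : ∃ p, p ≠ 0 ∧ π' ∣ φ p := ⟨_, hne, h1'⟩
  have hgd : π' ∣ φ (g π') := by
    simp only [g, dif_pos hex]
    exact hex.choose_spec.2
  have hGd : π' ∣ φ (X * G) := by
    refine hgd.trans (map_dvd φ ?_)
    exact (Finset.dvd_prod_of_mem g (Multiset.mem_toFinset.mpr hπ')).mul_left _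
  rw [map_add, map_one] at h1'
  exact (UniqueFactorizationMonoid.prime_of_normalized_factor _ hπ').not_dvd_one ((dvd_add_right hGd).mp h1')

/-- A field embedded in a finitely generated domain over a field is algebraic over it. -/
theorem isIntegral_range_of_finiteType {k K A : Type u} [Field k] [Field K] [CommRing A] [IsDomain A]
    [Algebra k A] [Algebra.FiniteType k A] (τ : K →+* A) (b : K) : IsIntegral k (τ b) := by
  by_contra hint
  let y := τ b
  have htr : ∀ p : k[X], aeval y p = 0 → p = 0 := fun p hp => by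
    by_contra hp0
    exact hint (IsAlgebraic.isIntegral ⟨p, hp0, hp⟩)
  let _ : Algebra k[X] A := (aeval y).toRingHom.toAlgebra
  have : IsScalarTower k k[X] A := IsScalarTower.of_algebraMap_eq fun c => by
    show algebraMap k A c = aeval y (algebraMap k k[X] c)
    rw [AlgHom.commutes]
  have : Algebra.FiniteType k[X] A := Algebra.FiniteType.of_restrictScalars_finiteType k k[X] A
  obtain ⟨f, -, hf, hfree⟩ := GenFree.gf_of_finiteType (R := k[X]) A A 1 one_ne_zero
  obtain ⟨ι, φ, h1, h2⟩ := hfree
  obtain ⟨P, hPd, hcop⟩ := exists_coprime_map (⊥ : Subfield k) f hf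
  let Q := P.map (⊥ : Subfield k).subtype
  have hQd : Q.natDegree = P.natDegree := natDegree_map_eq_of_injective (⊥ : Subfield k).subtype.injective P
  have hQ0 : Q ≠ 0 := fun h => by rw [h, natDegree_zero] at hQd; omega
  have hu : IsUnit (algebraMap k[X] A Q) := by
    show IsUnit (aeval y Q)
    have hK : ∃ c : K, aeval y Q = τ c := by
      have hτ : ∀ c : (⊥ : Subfield k), ∃ d : K, algebraMap k A c = τ d := fun c => by
        let R : Subfield k :=
          { (τ.range.comap (algebraMap k A)) with
            inv_mem' := fun x hx => by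
              obtain ⟨d, hd⟩ := hx
              rcases eq_or_ne x 0 with rfl | hx0
              · simp
              · refine ⟨d⁻¹, ?_⟩
                have hd0 : d ≠ 0 := fun h => by
                  rw [h, map_zero] at hd
                  exact (IsUnit.map (algebraMap k A) (IsUnit.mk0 x hx0)).ne_zero hd.symm
                refine (IsUnit.map τ (IsUnit.mk0 d hd0)).mul_right_inj.mp ?_
                rw [← map_mul, mul_inv_cancel₀ hd0, map_one, hd, ← map_mul, mul_inv_cancel₀ hx0, map_one] }
        obtain ⟨d, hd⟩ := (bot_le : (⊥ : Subfield k) ≤ R) c.2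
        exact ⟨d, hd.symm⟩
      choose d hd using hτ
      refine ⟨∑ i ∈ Finset.range (P.natDegree + 1), d (P.coeff i) * b ^ i, ?_⟩
      rw [map_sum, aeval_eq_sum_range, hQd]
      refine Finset.sum_congr rfl fun i _ => ?_
      rw [map_mul, map_pow, ← hd, Algebra.smul_def, coeff_map]
      rfl
    obtain ⟨c, hc⟩ := hK
    have hc0 : c ≠ 0 := fun h => hQ0 (htr Q (by rw [hc, h, map_zero]))
    rw [hc]
    exact (IsUnit.mk0 c hc0).map τ
  obtain ⟨e, l, hl⟩ := h1 (1 : A)
  have hdiv : ∀ (n : ℕ) (i : ι), Q ^ n ∣ l i := by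
    intro n i
    obtain ⟨m, hm⟩ := hu.pow n |>.exists_right_inv
    obtain ⟨d, l', hl'⟩ := h1 m
    have hzero : φ ((Q ^ n * f ^ e) • l' - f ^ d • l) = 0 := by
      rw [map_sub, map_smul, map_smul, hl', hl, smul_smul, smul_smul, sub_eq_zero, Algebra.smul_def,
        Algebra.smul_def, map_mul, map_mul, map_mul, map_pow, map_pow, map_pow]
      linear_combination (algebraMap k[X] A f ^ e * algebraMap k[X] A f ^ d) * hm
    obtain ⟨N, hN⟩ := h2 _ hzero
    have := DFunLike.congr_fun ((smul_eq_zero.mp hN).resolve_left (pow_ne_zero _ hf)) i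
    simp only [Finsupp.sub_apply, Finsupp.smul_apply, smul_eq_mul, Finsupp.coe_zero, Pi.zero_apply, sub_eq_zero] at this
    exact (hcop.pow (m := n) (n := d)).dvd_of_dvd_mul_left ⟨f ^ e * l' i, by rw [← this]; ring⟩
  have hl0 : l = 0 := Finsupp.ext fun i => by
    by_contra hi
    obtain ⟨c, hc⟩ := hdiv ((l i).natDegree + 1) i
    have hc0 : c ≠ 0 := fun h => hi (by rw [hc, h, mul_zero]; rfl)
    have := congrArg natDegree hc
    rw [natDegree_mul (pow_ne_zero _ hQ0) hc0, natDegree_pow, hQd] at this
    nlinarith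
  rw [hl0, map_zero, Algebra.smul_def, mul_one, map_pow] at hl
  exact pow_ne_zero e (fun h => hf (htr f h)) hl.symm

end GrothLib.GrpSchField
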