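import Groth.Agent.Lib.GrpSchField.GrpdDim
import Groth.Agent.Lib.GrpSchField.AlgSubfield
import Mathlib.AlgebraicGeometry.Morphisms.Immersion
import Mathlib.AlgebraicGeometry.Pullbacks

/-!
The stabilizer of a groupoid on a field has the dimension of the groupoid.
-/

open CategoryTheory CategoryTheory.Limits AlgebraicGeometry TopologicalSpace
open scoped TensorProduct

namespace GrothLib.GrpSchField

universe u

/-- In `k ⊗ k` a point defined over a domain whose two field images are integral is closed. -/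
theorem isMaximal_ker_of_isIntegral {B k A : Type u} [CommRing B] [Field k] [Algebra B k] [CommRing A]
    [IsDomain A] (ρ : k ⊗[B] k →+* A)
    (h : ∀ a : k, (ρ.comp (Algebra.TensorProduct.includeRight : k →ₐ[B] k ⊗[B] k).toRingHom).IsIntegralElem
      (ρ (a ⊗ₜ 1))) :
    (RingHom.ker ρ).IsMaximal := by
  let σ := ρ.comp (Algebra.TensorProduct.includeRight : k →ₐ[B] k ⊗[B] k).toRingHom
  let _ : Algebra k A := σ.toAlgebra
  have hint : ∀ x, IsIntegral k (ρ x) := by
    intro x
    induction x with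
    | zero => rw [map_zero]; exact isIntegral_zero
    | tmul a b =>
      rw [show a ⊗ₜ[B] b = a ⊗ₜ[B] (1 : k) * (1 : k) ⊗ₜ[B] b by simp, map_mul]
      exact IsIntegral.mul (h a) (isIntegral_algebraMap (x := b))
    | add x y hx hy => rw [map_add]; exact hx.add hy
  let C : Subalgebra k A := integralClosure k A
  have hfield : IsField C := by
    have : Algebra.IsIntegral k C := ⟨fun c => integralClosure.isIntegral c⟩
    exact isField_of_isIntegral_of_isField' (Field.toIsField k)
  let ρ' : k ⊗[B] k →+* C := ρ.codRestrict C.toSubring hint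
  have : RingHom.ker ρ = RingHom.ker ρ' := by
    ext x; simp [RingHom.mem_ker, ρ', Subtype.ext_iff]
  rw [this]
  have hprime : (RingHom.ker ρ').IsPrime := RingHom.ker_isPrime _
  refine (Ideal.Quotient.maximal_ideal_iff_isField_quotient _).mpr ?_
  let _ : Algebra k (k ⊗[B] k) :=
    (Algebra.TensorProduct.includeRight : k →ₐ[B] k ⊗[B] k).toRingHom.toAlgebra
  have : Algebra.IsIntegral k ((k ⊗[B] k) ⧸ RingHom.ker ρ') := ⟨fun q => by
    obtain ⟨x, rfl⟩ := Ideal.Quotient.mk_surjective q
    obtain ⟨p, hpm, hp⟩ := hint x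
    refine ⟨p, hpm, ?_⟩
    rw [show algebraMap k ((k ⊗[B] k) ⧸ RingHom.ker ρ') =
      (Ideal.Quotient.mk (RingHom.ker ρ')).comp (algebraMap k (k ⊗[B] k)) from rfl, ← Polynomial.hom_eval₂,
      Ideal.Quotient.eq_zero_iff_mem, RingHom.mem_ker]
    apply Subtype.ext
    show ρ (Polynomial.eval₂ _ x p) = 0
    rw [Polynomial.hom_eval₂]
    exact hp⟩
  exact isField_of_isIntegral_of_isField' (Field.toIsField k)

variable {k : Type u} [Field k] {S : Scheme.{u}} (G : Grpd.GroupoidScheme S)
  (eU : G.U ≅ Spec (CommRingCat.of k)) [LocallyOfFiniteType G.s] [LocallyOfFiniteType G.t]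

omit [LocallyOfFiniteType G.t] in
include eU in
/-- `j = (t, s)` is constant on irreducible closed subsets. -/
theorem j_eq_of_specializes {η z : G.R} (hη : η ⤳ z) : G.j z = G.j η := by
  let g : Spec (CommRingCat.of k) ⟶ S := eU.inv ≫ G.pU
  let x₀ : Spec (CommRingCat.of k) := eU.hom (G.t η)
  obtain ⟨V, hV, hsV⟩ : ∃ V : S.Opens, IsAffineOpen V ∧ g x₀ ∈ V := by
    obtain ⟨_, ⟨V, hV, rfl⟩, hsV, -⟩ := S.isBasis_affineOpens.exists_subset_of_mem_open
      (Set.mem_univ (g x₀)) isOpen_univ
    exact ⟨V, hV, hsV⟩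
  have hVf : Set.range g ⊆ Set.range hV.fromSpec := by
    rintro _ ⟨x, rfl⟩
    rw [hV.range_fromSpec, Subsingleton.elim (α := PrimeSpectrum k) x x₀]
    exact hsV
  let g' : Spec (CommRingCat.of k) ⟶ Spec Γ(S, V) := IsOpenImmersion.lift hV.fromSpec g hVf
  let B := Γ(S, V)
  let β := Spec.preimage g'
  let _ : Algebra B k := β.hom.toAlgebra
  have hg' : g' = Spec.map (CommRingCat.ofHom (algebraMap B k)) := (Spec.map_preimage g').symm
  have hcomp : ∀ {T : Scheme.{u}} (a : T ⟶ G.U), (a ≫ eU.hom) ≫ g' ≫ hV.fromSpec = a ≫ G.pU := by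
    intro T a
    rw [IsOpenImmersion.lift_fac]
    simp [g]
  have hcond : (pullback.fst G.pU G.pU ≫ eU.hom) ≫ g' = (pullback.snd G.pU G.pU ≫ eU.hom) ≫ g' := by
    rw [← cancel_mono hV.fromSpec, Category.assoc, hcomp, Category.assoc, hcomp]
    exact pullback.condition
  let c : pullback G.pU G.pU ⟶ Spec (CommRingCat.of (k ⊗[B] k)) :=
    pullback.lift (f := Spec.map (CommRingCat.ofHom (algebraMap B k)))
      (g := Spec.map (CommRingCat.ofHom (algebraMap B k)))
      (pullback.fst G.pU G.pU ≫ eU.hom) (pullback.snd G.pU G.pU ≫ eU.hom) (hg' ▸ hcond) ≫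
      (pullbackSpecIso B k k).hom
  have hc1 : c ≫ Spec.map (CommRingCat.ofHom Algebra.TensorProduct.includeLeftRingHom) =
      pullback.fst G.pU G.pU ≫ eU.hom := by
    simp only [c, Category.assoc]
    rw [← pullbackSpecIso_inv_fst, Iso.hom_inv_id_assoc, pullback.lift_fst]
  have hc2 : c ≫ Spec.map (CommRingCat.ofHom
      (Algebra.TensorProduct.includeRight : k →ₐ[B] k ⊗[B] k).toRingHom) =
      pullback.snd G.pU G.pU ≫ eU.hom := by
    rw [show Spec.map (CommRingCat.ofHom (Algebra.TensorProduct.includeRight : k →ₐ[B] k ⊗[B] k).toRingHom) =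
      (pullbackSpecIso B k k).inv ≫ pullback.snd _ _ from (pullbackSpecIso_inv_snd B k k).symm]
    simp only [c, Category.assoc]
    rw [Iso.hom_inv_id_assoc, pullback.lift_snd]
  let c' : Spec (CommRingCat.of (k ⊗[B] k)) ⟶ pullback G.pU G.pU :=
    (pullbackSpecIso B k k).inv ≫
      pullback.lift (pullback.fst _ _ ≫ eU.inv) (pullback.snd _ _ ≫ eU.inv) (by
        rw [Category.assoc, Category.assoc, show eU.inv ≫ G.pU = g' ≫ hV.fromSpec from
          (IsOpenImmersion.lift_fac _ _ _).symm, hg', reassoc_of% pullback.condition])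
  have hcc : c ≫ c' = 𝟙 _ := by
    apply pullback.hom_ext
    · simp only [c, c', Category.assoc, Iso.hom_inv_id_assoc, pullback.lift_fst, pullback.lift_fst_assoc,
        Category.id_comp, Iso.hom_inv_id, Category.comp_id]
    · simp only [c, c', Category.assoc, Iso.hom_inv_id_assoc, pullback.lift_snd, pullback.lift_snd_assoc,
        Category.id_comp, Iso.hom_inv_id, Category.comp_id]
  have hinj : Function.Injective c := fun x y h => by
    have hx : ∀ z, c' (c z) = z := fun z => by
      rw [← Scheme.Hom.comp_apply, hcc]; rfl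
    rw [← hx x, h, hx]
  obtain ⟨W, hW, hηW⟩ : ∃ W : G.R.Opens, IsAffineOpen W ∧ η ∈ W := by
    obtain ⟨_, ⟨W, hW, rfl⟩, hηW, -⟩ :=
      G.R.isBasis_affineOpens.exists_subset_of_mem_open (Set.mem_univ η) isOpen_univ
    exact ⟨W, hW, hηW⟩
  let P := (hW.primeIdealOf ⟨η, hηW⟩).asIdeal
  let A := CommRingCat.of (Γ(G.R, W) ⧸ P)
  let a : Spec A ⟶ G.R := Spec.map (CommRingCat.ofHom (Ideal.Quotient.mk P)) ≫ hW.fromSpec
  have : IsClosedImmersion (Spec.map (CommRingCat.ofHom (Ideal.Quotient.mk P))) :=
    IsClosedImmersion.spec_of_surjective _ Ideal.Quotient.mk_surjective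
  have : IsDomain A := Ideal.Quotient.isDomain P
  have haη : η ∈ Set.range a := ⟨⟨(⊥ : Ideal A), Ideal.isPrime_bot⟩, by
    have h0 : Spec.map (CommRingCat.ofHom (Ideal.Quotient.mk P)) ⟨(⊥ : Ideal A), Ideal.isPrime_bot⟩ =
        hW.primeIdealOf ⟨η, hηW⟩ := PrimeSpectrum.ext (Ideal.mk_ker (I := P))
    show hW.fromSpec (Spec.map (CommRingCat.ofHom (Ideal.Quotient.mk P)) _) = η
    rw [h0]
    exact hW.fromSpec_primeIdealOf ⟨η, hηW⟩⟩
  let ρ := Spec.preimage (a ≫ G.j ≫ c)
  let σ := Spec.preimage (a ≫ G.s ≫ eU.hom)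
  let τ := Spec.preimage (a ≫ G.t ≫ eU.hom)
  have hσ : CommRingCat.ofHom (Algebra.TensorProduct.includeRight : k →ₐ[B] k ⊗[B] k).toRingHom ≫ ρ = σ := by
    apply Spec.map_injective
    rw [Spec.map_comp, Spec.map_preimage, Spec.map_preimage]
    simp only [Category.assoc]
    rw [hc2, Grpd.GroupoidScheme.j, pullback.lift_snd_assoc]
  have hτ : CommRingCat.ofHom Algebra.TensorProduct.includeLeftRingHom ≫ ρ = τ := by
    apply Spec.map_injective
    rw [Spec.map_comp, Spec.map_preimage, Spec.map_preimage]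
    simp only [Category.assoc]
    rw [hc1, Grpd.GroupoidScheme.j, pullback.lift_fst_assoc]
  have hft : σ.hom.FiniteType := by
    have : LocallyOfFiniteType (Spec.map σ) := by
      rw [Spec.map_preimage]; infer_instance
    exact (HasRingHomProperty.Spec_iff (P := @LocallyOfFiniteType)).mp this
  have hmax : (RingHom.ker ρ.hom).IsMaximal := by
    let _ : Algebra k A := σ.hom.toAlgebra
    have : Algebra.FiniteType k A := hft
    refine isMaximal_ker_of_isIntegral ρ.hom fun b => ?_
    have h1 : ρ.hom (b ⊗ₜ 1) = τ.hom b := by rw [← hτ]; rfl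
    rw [h1, show ρ.hom.comp (Algebra.TensorProduct.includeRight : k →ₐ[B] k ⊗[B] k).toRingHom = σ.hom from
      congrArg CommRingCat.Hom.hom hσ]
    exact isIntegral_range_of_finiteType τ.hom b
  have hclosed : IsClosed ({c (G.j η)} : Set (Spec (CommRingCat.of (k ⊗[B] k)))) := by
    obtain ⟨z, hz⟩ := haη
    have h2 : c (G.j η) = Spec.map ρ z := by
      rw [Spec.map_preimage, ← hz]; rfl
    rw [h2]
    refine (PrimeSpectrum.isClosed_singleton_iff_isMaximal _).mpr ?_
    have hle : RingHom.ker ρ.hom ≤ (Spec.map ρ z).asIdeal := fun x hx => by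
      show ρ.hom x ∈ z.asIdeal
      rw [RingHom.mem_ker.mp hx]; exact z.asIdeal.zero_mem
    rw [← hmax.eq_of_le (Spec.map ρ z).isPrime.ne_top hle]
    exact hmax
  have hsp : c (G.j η) ⤳ c (G.j z) := (hη.map G.j.continuous).map c.continuous
  exact hinj (hsp.mem_closed hclosed rfl)

omit [LocallyOfFiniteType G.s] [LocallyOfFiniteType G.t] in
theorem isInducing_stabilizer_fst :
    Topology.IsInducing (pullback.fst G.j G.diag : G.stabilizer ⟶ G.R) := by
  have : IsImmersion G.diag := by
    have : G.diag = pullback.diagonal G.pU := rfl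
    rw [this]; infer_instance
  exact (pullback.fst G.j G.diag).isEmbedding.isInducing

include eU in
theorem topologicalKrullDim_stabilizer :
    topologicalKrullDim G.R = topologicalKrullDim G.stabilizer := by
  refine le_antisymm ?_ (isInducing_stabilizer_fst G).topologicalKrullDim_le
  let u : G.U := eU.inv (IsLocalRing.closedPoint k)
  let Z := irreducibleComponent (G.e u)
  rw [← topologicalKrullDim_component_grpd G eU (irreducibleComponent_mem_irreducibleComponents (G.e u))]
  obtain ⟨η, hη⟩ := QuasiSober.sober (isIrreducible_irreducibleComponent (x := G.e u))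
    isClosed_irreducibleComponent
  have he : G.e ≫ G.j = G.diag := by
    apply pullback.hom_ext
    · rw [Category.assoc, Grpd.GroupoidScheme.j, Grpd.GroupoidScheme.diag, pullback.lift_fst,
        pullback.lift_fst]
      exact G.e_t
    · rw [Category.assoc, Grpd.GroupoidScheme.j, Grpd.GroupoidScheme.diag, pullback.lift_snd,
        pullback.lift_snd]
      exact G.e_s
  have hej : G.j (G.e u) = G.diag u := congrArg (fun m : G.U ⟶ pullback G.pU G.pU => m u) he
  have hsub : ∀ z ∈ Z, z ∈ Set.range (pullback.fst G.j G.diag) := by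
    intro z hz
    rw [Scheme.Pullback.range_fst]
    exact ⟨u, hej.symm.trans ((j_eq_of_specializes G eU (hη.specializes mem_irreducibleComponent)).trans
      (j_eq_of_specializes G eU (hη.specializes hz)).symm)⟩
  choose p hp using hsub
  let q : Z → G.stabilizer := fun z => p z.1 z.2
  have hq : (pullback.fst G.j G.diag : G.stabilizer ⟶ G.R) ∘ q = Subtype.val := funext fun z => hp z.1 z.2
  have hi : Topology.IsInducing ((pullback.fst G.j G.diag : G.stabilizer ⟶ G.R) ∘ q) :=
    hq ▸ Topology.IsInducing.subtypeVal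
  have hc : Continuous q := (isInducing_stabilizer_fst G).continuous_iff.mpr hi.continuous
  exact (Topology.IsInducing.of_comp hc (pullback.fst G.j G.diag).continuous hi).topologicalKrullDim_le

end GrothLib.GrpSchField
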