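import Groth.Agent.Lib.GrpSchField.GrpdField
import Groth.Agent.Lib.GrpSchField.Components

/-!
Groupoid schemes on the spectrum of a field: generalizations are directed, the component through
the identity is geometrically irreducible.
-/

open CategoryTheory CategoryTheory.Limits MonoidalCategory CartesianMonoidalCategory AlgebraicGeometry

namespace GrothLib.GrpSchField

universe u

variable {S : Scheme.{u}} {k : Type u} [Field k] (G : Grpd.GroupoidScheme S)
  (eU : G.U ≅ Spec (CommRingCat.of k))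

include eU in
/-- In a groupoid on a field any two generalizations of an arrow have a common generalization. -/
theorem exists_common_generization_grpd {x y₁ y₂ : G.R} (h₁ : y₁ ⤳ x) (h₂ : y₂ ⤳ x) :
    ∃ z : G.R, z ⤳ y₁ ∧ z ⤳ y₂ := by
  let L := AlgebraicClosure (G.R.residueField x)
  let g : Spec (CommRingCat.of L) ⟶ G.R :=
    Spec.map (CommRingCat.ofHom (algebraMap (G.R.residueField x) L)) ≫ G.R.fromSpecResidueField x
  let s' := G.s ≫ eU.hom
  let t' := G.t ≫ eU.hom
  let a₁ := pullback.fst (g ≫ s') s'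
  let π₁ := pullback.snd (g ≫ s') s'
  let a₂ := pullback.fst (g ≫ t') t'
  let π₂ := pullback.snd (g ≫ t') t'
  let e₁ : Spec (CommRingCat.of L) ⟶ pullback (g ≫ s') s' :=
    pullback.lift (𝟙 _) g (Category.id_comp _)
  let e₂ : Spec (CommRingCat.of L) ⟶ pullback (g ≫ t') t' :=
    pullback.lift (𝟙 _) g (Category.id_comp _)
  have he₁ : e₁ ≫ a₁ = 𝟙 _ := pullback.lift_fst _ _ _
  have he₁' : e₁ ≫ π₁ = g := pullback.lift_snd _ _ _
  have he₂ : e₂ ≫ a₂ = 𝟙 _ := pullback.lift_fst _ _ _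
  have he₂' : e₂ ≫ π₂ = g := pullback.lift_snd _ _ _
  let u := pullback.fst a₁ a₂ ≫ π₁
  let v := pullback.snd a₁ a₂ ≫ π₂
  let γ := (pullback.fst a₁ a₂ ≫ a₁) ≫ g
  have hc₁ : a₁ ≫ g ≫ G.s = π₁ ≫ G.s :=
    (cancel_mono eU.hom).mp (by simp only [Category.assoc]; exact pullback.condition)
  have hc₂ : a₂ ≫ g ≫ G.t = π₂ ≫ G.t :=
    (cancel_mono eU.hom).mp (by simp only [Category.assoc]; exact pullback.condition)
  have hu : u ≫ G.s = (γ ≫ G.i) ≫ G.t := by
    simp only [Category.assoc, G.i_t, u, γ]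
    exact congrArg (pullback.fst a₁ a₂ ≫ ·) hc₁.symm
  have hv : γ ≫ G.t = v ≫ G.t := by
    simp only [Category.assoc, v, γ]
    exact (pullback.condition_assoc _).trans (congrArg (pullback.snd a₁ a₂ ≫ ·) hc₂)
  have hm : cmp G u (γ ≫ G.i) hu ≫ G.s = v ≫ G.t :=
    (G.comp_s _ _ hu).trans (by simp only [Category.assoc, G.i_s] at hv ⊢; exact hv)
  let m : pullback a₁ a₂ ⟶ G.R := cmp G (cmp G u (γ ≫ G.i) hu) v hm
  let l₁ := pullback.lift (f := a₁) (g := a₂) (𝟙 _) (a₁ ≫ e₂) (by simp [he₂])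
  have hl₁u : l₁ ≫ u = π₁ := by simp only [l₁, u, pullback.lift_fst_assoc, Category.id_comp]
  have hl₁v : l₁ ≫ v = a₁ ≫ g := by
    simp only [l₁, v, pullback.lift_snd_assoc, Category.assoc, he₂']
  have hl₁γ : l₁ ≫ γ = a₁ ≫ g := by
    simp only [l₁, γ, Category.assoc, pullback.lift_fst_assoc, Category.id_comp]
  have h1 : l₁ ≫ m = π₁ := by
    have hs : (a₁ ≫ g) ≫ G.s = π₁ ≫ G.s := (Category.assoc _ _ _).trans hc₁
    have hs' : π₁ ≫ G.s = ((a₁ ≫ g) ≫ G.i) ≫ G.t := by
      simp only [Category.assoc, G.i_t] at hs ⊢; rw [hs]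
    simp only [m, comp_cmp]
    refine (cmp_congr G _ (cmp_congr G _ hl₁u ?_) hl₁v).trans (cmp_inv_right G _ _ hs hs')
    exact (Category.assoc _ _ _).symm.trans (congrArg (· ≫ G.i) hl₁γ)
  let l₂ := pullback.lift (f := a₁) (g := a₂) (a₂ ≫ e₁) (𝟙 _) (by simp [he₁])
  have hl₂u : l₂ ≫ u = a₂ ≫ g := by
    simp only [l₂, u, pullback.lift_fst_assoc, Category.assoc, he₁']
  have hl₂v : l₂ ≫ v = π₂ := by simp only [l₂, v, pullback.lift_snd_assoc, Category.id_comp]
  have hl₂γ : l₂ ≫ γ = a₂ ≫ g := by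
    simp only [l₂, γ, Category.assoc, pullback.lift_fst_assoc, reassoc_of% he₁]
  have h2 : l₂ ≫ m = π₂ := by
    have ht : (a₂ ≫ g) ≫ G.t = π₂ ≫ G.t := (Category.assoc _ _ _).trans hc₂
    simp only [m, comp_cmp]
    refine (cmp_congr G _ ((cmp_congr G _ hl₂u ?_).trans (G.comp_i (a₂ ≫ g))) hl₂v).trans ?_
    · exact (Category.assoc _ _ _).symm.trans (congrArg (· ≫ G.i) hl₂γ)
    · exact (cmp_congr G _ ((Category.assoc _ _ _).symm.trans ((congrArg (· ≫ G.e) ht).trans
        (Category.assoc _ _ _))) rfl).trans (G.e_comp π₂)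
  have hg : g default = x := by
    rw [Scheme.Hom.comp_apply, Scheme.fromSpecResidueField_apply]
  have hx₁ : π₁ (e₁ default) = x := by rw [← Scheme.Hom.comp_apply, he₁', hg]
  have hx₂ : π₂ (e₂ default) = x := by rw [← Scheme.Hom.comp_apply, he₂', hg]
  obtain ⟨y₁', hy₁', rfl⟩ := Flat.generalizingMap π₁ (show y₁ ⤳ π₁ (e₁ default) by rwa [hx₁])
  obtain ⟨y₂', hy₂', rfl⟩ := Flat.generalizingMap π₂ (show y₂ ⤳ π₂ (e₂ default) by rwa [hx₂])
  exact exists_common_generization_of_pairing a₁ a₂ e₁ he₁ e₂ he₂ π₁ π₂ m h1 h2 hy₁' hy₂'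

include eU in
theorem existsUnique_irreducibleComponent_grpd (x : G.R) :
    ∃! Z : Set G.R, Z ∈ irreducibleComponents (G.R : Type u) ∧ x ∈ Z := by
  refine ⟨irreducibleComponent x,
    ⟨irreducibleComponent_mem_irreducibleComponents x, mem_irreducibleComponent⟩, fun Z ⟨hZ, hxZ⟩ => ?_⟩
  have hC := irreducibleComponent_mem_irreducibleComponents x
  obtain ⟨c₁, hc₁⟩ := QuasiSober.sober hZ.1 (isClosed_of_mem_irreducibleComponents Z hZ)
  obtain ⟨c₂, hc₂⟩ := QuasiSober.sober hC.1 isClosed_irreducibleComponent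
  obtain ⟨z, hz₁, hz₂⟩ := exists_common_generization_grpd G eU (hc₁.specializes hxZ)
    (hc₂.specializes mem_irreducibleComponent)
  have e₁ : Z = closure {z} := hZ.eq_of_le isIrreducible_singleton.closure (by
    rw [← hc₁.def]; exact hz₁.closure_subset)
  have e₂ : irreducibleComponent x = closure {z} := hC.eq_of_le isIrreducible_singleton.closure (by
    rw [← hc₂.def]; exact hz₂.closure_subset)
  rw [e₁, e₂]

include eU in
theorem minimalPrimes_stalk_subsingleton_grpd (x : G.R) :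
    (minimalPrimes (G.R.presheaf.stalk x)).Subsingleton := by
  intro p hp q hq
  rw [minimalPrimes_eq_minimals] at hp hq
  let P : PrimeSpectrum (G.R.presheaf.stalk x) := ⟨p, hp.1⟩
  let Q : PrimeSpectrum (G.R.presheaf.stalk x) := ⟨q, hq.1⟩
  let f := G.R.fromSpecStalk x
  have hP : f P ⤳ x := (Scheme.range_fromSpecStalk (x := x)).le ⟨P, rfl⟩
  have hQ : f Q ⤳ x := (Scheme.range_fromSpecStalk (x := x)).le ⟨Q, rfl⟩
  obtain ⟨z, hz₁, hz₂⟩ := exists_common_generization_grpd G eU hP hQ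
  obtain ⟨R, rfl⟩ := (Scheme.range_fromSpecStalk (x := x)).ge (hz₁.trans hP)
  let R' : PrimeSpectrum (G.R.presheaf.stalk x) := R
  have hRP : R' ≤ P := (PrimeSpectrum.le_iff_specializes R' P).mpr
    (f.isEmbedding.isInducing.specializes_iff.mp hz₁)
  have hRQ : R' ≤ Q := (PrimeSpectrum.le_iff_specializes R' Q).mpr
    (f.isEmbedding.isInducing.specializes_iff.mp hz₂)
  have e₁ : p = R'.asIdeal := hp.eq_of_le (y := R'.asIdeal) R'.2 hRP |>.symm
  have e₂ : q = R'.asIdeal := hq.eq_of_le (y := R'.asIdeal) R'.2 hRQ |>.symm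
  rw [e₁, e₂]

theorem i_i : G.i ≫ G.i = 𝟙 G.R := by
  have h1 := cmp_inv_right' G G.i (𝟙 G.R) (by rw [Category.id_comp, G.i_t])
    ((G.comp_s _ _ _).trans ((congrArg (G.i ≫ ·) G.i_t).symm.trans (Category.assoc _ _ _).symm))
  refine Eq.trans ?_ h1
  have h2 : cmp G (𝟙 G.R) G.i (by rw [Category.id_comp, G.i_t]) = G.t ≫ G.e := by
    simpa using G.comp_i (𝟙 G.R)
  refine Eq.trans ?_ (cmp_congr G _ h2 rfl).symm
  refine ((cmp_congr G _ ?_ rfl).trans (G.e_comp (G.i ≫ G.i))).symm
  simp only [Category.assoc, reassoc_of% G.i_t, reassoc_of% G.i_s]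

theorem e_i : G.e ≫ G.i = G.e := by
  have h1 : cmp G G.e (G.e ≫ G.i) (by simp only [Category.assoc, G.i_t]) = G.e ≫ G.i := by
    refine (cmp_congr G _ ?_ rfl).trans (G.e_comp (G.e ≫ G.i))
    simp only [Category.assoc, reassoc_of% G.i_t, reassoc_of% G.e_s]
  exact h1.symm.trans ((G.comp_i G.e).trans (by rw [← Category.assoc, G.e_t, Category.id_comp]))

/-- `R` over `k` through the source map. -/
noncomputable abbrev srcOver : Over (Spec (CommRingCat.of k)) := Over.mk (G.s ≫ eU.hom)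

/-- The identity as a rational point of `R` over `k`. -/
noncomputable abbrev srcUnit : 𝟙_ (Over (Spec (CommRingCat.of k))) ⟶ srcOver G eU :=
  Over.homMk (eU.inv ≫ G.e) (by
    show (eU.inv ≫ G.e) ≫ G.s ≫ eU.hom = 𝟙 _
    rw [Category.assoc, reassoc_of% G.e_s, Iso.inv_hom_id])

theorem exists_common_generization_srcUnit {L : Type u} [Field L] [IsAlgClosed L]
    (b : Spec (CommRingCat.of L) ⟶ Spec (CommRingCat.of k))
    {y₁ y₂ : ↥(Over.mk b ⊗ srcOver G eU).left}
    (hy₁ : y₁ ⤳ (lift (𝟙 _) (toUnit _ ≫ srcUnit G eU)).left (default : Spec (CommRingCat.of L)))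
    (hy₂ : y₂ ⤳ (lift (𝟙 _) (toUnit _ ≫ srcUnit G eU)).left (default : Spec (CommRingCat.of L))) :
    ∃ z, z ⤳ y₁ ∧ z ⤳ y₂ := by
  let s' := G.s ≫ eU.hom
  let t' := G.t ≫ eU.hom
  let ε : Spec (CommRingCat.of L) ⟶ pullback b s' :=
    pullback.lift (𝟙 _) (b ≫ eU.inv ≫ G.e) (by
      simp only [s', Category.id_comp, Category.assoc, reassoc_of% G.e_s, Iso.inv_hom_id,
        Category.comp_id])
  have hεeq : (lift (𝟙 (Over.mk b)) (toUnit _ ≫ srcUnit G eU)).left = ε := by
    rw [Over.lift_left]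
    rfl
  rw [hεeq] at hy₁ hy₂
  let π := pullback.snd b s'
  let π' := pullback.snd b (π ≫ t')
  let at' := pullback.fst b (π ≫ t')
  let as' := π' ≫ pullback.fst b s'
  let r := π' ≫ π
  let e : Spec (CommRingCat.of L) ⟶ pullback b (π ≫ t') := pullback.lift (𝟙 _) ε (by
    simp only [ε, π, t', Category.id_comp, pullback.lift_snd_assoc, Category.assoc,
      reassoc_of% G.e_t, Iso.inv_hom_id, Category.comp_id])
  have heπ : e ≫ π' = ε := pullback.lift_snd _ _ _
  have heat : e ≫ at' = 𝟙 _ := pullback.lift_fst _ _ _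
  have heas : e ≫ as' = 𝟙 _ := by
    rw [← Category.assoc, heπ, pullback.lift_fst]
  have her : e ≫ r = b ≫ eU.inv ≫ G.e := by
    rw [← Category.assoc, heπ, pullback.lift_snd]
  have hrs : r ≫ s' = as' ≫ b := by
    simp only [r, as', π, Category.assoc, pullback.condition]
  have hrt : r ≫ t' = at' ≫ b := by
    simp only [r, at', Category.assoc]
    exact pullback.condition.symm
  let u := pullback.fst as' at' ≫ r
  let v := pullback.snd as' at' ≫ r
  have huv : u ≫ G.s = v ≫ G.t := by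
    rw [← cancel_mono eU.hom, Category.assoc, Category.assoc, Category.assoc, Category.assoc]
    show pullback.fst as' at' ≫ r ≫ s' = pullback.snd as' at' ≫ r ≫ t'
    rw [hrs, hrt, pullback.condition_assoc]
  have hw₁ : (pullback.snd as' at' ≫ as') ≫ b = cmp G u v huv ≫ s' := by
    simp only [s']
    rw [← Category.assoc (cmp G u v huv), G.comp_s u v huv]
    simp only [v, Category.assoc]
    rw [← hrs]
  let mX : pullback as' at' ⟶ pullback b s' :=
    pullback.lift (pullback.snd as' at' ≫ as') (cmp G u v huv) hw₁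
  have hw₂ : (pullback.fst as' at' ≫ at') ≫ b = mX ≫ π ≫ t' := by
    rw [← Category.assoc mX, pullback.lift_snd, ← Category.assoc (cmp G u v huv) G.t,
      G.comp_t u v huv]
    simp only [u, Category.assoc]
    rw [← hrt]
  let m : pullback as' at' ⟶ pullback b (π ≫ t') :=
    pullback.lift (pullback.fst as' at' ≫ at') mX hw₂
  have hext : ∀ {T : Scheme.{u}} (f g : T ⟶ pullback b (π ≫ t')), f ≫ at' = g ≫ at' →
      f ≫ as' = g ≫ as' → f ≫ r = g ≫ r → f = g := by
    intro T f g h₁ h₂ h₃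
    apply pullback.hom_ext h₁
    apply pullback.hom_ext
    · simpa [as', π'] using h₂
    · simpa [r, π, π'] using h₃
  have hmt : m ≫ at' = pullback.fst as' at' ≫ at' := pullback.lift_fst _ _ _
  have hms : m ≫ as' = pullback.snd as' at' ≫ as' := by
    simp only [m, mX, as', π', pullback.lift_snd_assoc, pullback.lift_fst]
  have hmr : m ≫ r = cmp G u v huv := by
    simp only [m, mX, r, π, π', pullback.lift_snd_assoc, pullback.lift_snd]
  have hsrc : ∀ {T : Scheme.{u}} (α : T ⟶ G.R) (β : T ⟶ Spec (CommRingCat.of L)),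
      α ≫ s' = β ≫ b → β ≫ b ≫ eU.inv ≫ G.e = α ≫ G.s ≫ G.e := fun α β h => by
    rw [← Category.assoc β, ← h]
    simp [s']
  have htgt : ∀ {T : Scheme.{u}} (α : T ⟶ G.R) (β : T ⟶ Spec (CommRingCat.of L)),
      α ≫ t' = β ≫ b → β ≫ b ≫ eU.inv ≫ G.e = α ≫ G.t ≫ G.e := fun α β h => by
    rw [← Category.assoc β, ← h]
    simp [t']
  let l₁ := pullback.lift (f := as') (g := at') (𝟙 _) (as' ≫ e) (by simp [heat])
  let l₂ := pullback.lift (f := as') (g := at') (at' ≫ e) (𝟙 _) (by simp [heas])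
  have h1 : l₁ ≫ m = 𝟙 _ := by
    refine hext _ _ ?_ ?_ ?_
    · rw [Category.assoc, hmt, pullback.lift_fst_assoc, Category.id_comp]
    · rw [Category.assoc, hms, pullback.lift_snd_assoc, Category.assoc, heas, Category.comp_id,
        Category.id_comp]
    · rw [Category.assoc, hmr, comp_cmp, Category.id_comp]
      refine (cmp_congr G _ (pullback.lift_fst_assoc _ _ _ _ |>.trans (Category.id_comp _)) ?_).trans
        (G.comp_e r)
      rw [pullback.lift_snd_assoc, Category.assoc, her]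
      exact hsrc r as' hrs
  have h2 : l₂ ≫ m = 𝟙 _ := by
    refine hext _ _ ?_ ?_ ?_
    · rw [Category.assoc, hmt, pullback.lift_fst_assoc, Category.assoc, heat, Category.comp_id,
        Category.id_comp]
    · rw [Category.assoc, hms, pullback.lift_snd_assoc, Category.id_comp]
    · rw [Category.assoc, hmr, comp_cmp, Category.id_comp]
      refine (cmp_congr G _ ?_ (pullback.lift_snd_assoc _ _ _ _ |>.trans (Category.id_comp _))).trans
        (G.e_comp r)
      rw [pullback.lift_fst_assoc, Category.assoc, her]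
      exact htgt r at' hrt
  have hx : π' (e default) = ε default := by rw [← Scheme.Hom.comp_apply, heπ]
  obtain ⟨y₁', hy₁', rfl⟩ := Flat.generalizingMap π' (show y₁ ⤳ π' (e default) by rwa [hx])
  obtain ⟨y₂', hy₂', rfl⟩ := Flat.generalizingMap π' (show y₂ ⤳ π' (e default) by rwa [hx])
  obtain ⟨z, hz₁, hz₂⟩ := exists_common_generization_of_pairing as' at' e heas e heat
    (𝟙 _) (𝟙 _) m h1 h2 hy₁' hy₂'
  exact ⟨π' z, hz₁.map π'.continuous, hz₂.map π'.continuous⟩

theorem geometricallyIrreducible_component_grpd {Z : Scheme.{u}} (ι : Z ⟶ G.R)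
    [IsClosedImmersion ι] [IrreducibleSpace Z] (hZ : Set.range ι ∈ irreducibleComponents G.R)
    (he : G.e (eU.inv (IsLocalRing.closedPoint k)) ∈ Set.range ι) :
    GeometricallyIrreducible (ι ≫ G.s ≫ eU.hom) ∧ GeometricallyIrreducible (ι ≫ G.t ≫ eU.hom) := by
  have key : ∀ (j : Z ⟶ G.R) [IsClosedImmersion j], Set.range j ∈ irreducibleComponents G.R →
      G.e (eU.inv (IsLocalRing.closedPoint k)) ∈ Set.range j →
      GeometricallyIrreducible (j ≫ G.s ≫ eU.hom) := fun j _ hj hej =>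
    geometricallyIrreducible_component_of_directed (srcOver G eU) (srcUnit G eU) j hj hej
      fun h₁ h₂ => exists_common_generization_srcUnit G eU _ h₁ h₂
  have : IsIso G.i := ⟨G.i, i_i G, i_i G⟩
  refine ⟨key ι hZ he, ?_⟩
  have h := key (ι ≫ G.i)
  have e : (ι ≫ G.i) ≫ G.s ≫ eU.hom = ι ≫ G.t ≫ eU.hom := by
    simp only [Category.assoc, reassoc_of% G.i_s]
  rw [← e]
  have hr : Set.range (ι ≫ G.i) = G.i '' Set.range ι := by
    rw [Scheme.Hom.comp_base, TopCat.coe_comp, Set.range_comp]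
  refine h ?_ ?_
  · rw [hr]
    obtain ⟨c, hc⟩ := QuasiSober.sober hZ.1 (isClosed_of_mem_irreducibleComponents _ hZ)
    refine ⟨hZ.1.image G.i G.i.continuous.continuousOn, fun T hT hsub => ?_⟩
    have hii : ∀ p, G.i (G.i p) = p := fun p => by
      rw [← Scheme.Hom.comp_apply, i_i G]; rfl
    have := hZ.eq_of_le (hT.image G.i G.i.continuous.continuousOn) (fun p hp =>
      ⟨G.i p, hsub ⟨p, hp, rfl⟩, hii p⟩)
    intro p hp
    exact ⟨G.i p, by rw [this]; exact ⟨p, hp, rfl⟩, hii p⟩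
  · rw [hr]
    exact ⟨_, he, by rw [← Scheme.Hom.comp_apply G.e, e_i G]⟩

include eU in
theorem isOpen_image_translate_grpd (W : G.R.Opens) {Z : Scheme.{u}} (a : Z ⟶ G.R) :
    IsOpen (Set.range (pullback.lift (pullback.fst (a ≫ G.s) (W.ι ≫ G.t) ≫ a)
      (pullback.snd (a ≫ G.s) (W.ι ≫ G.t) ≫ W.ι)
      ((Category.assoc _ _ _).trans (pullback.condition.trans (Category.assoc _ _ _).symm)) ≫ G.c)) := by
  let z := pullback.fst (a ≫ G.s) G.t
  let r := pullback.snd (a ≫ G.s) G.t
  have hzr : (z ≫ a) ≫ G.s = r ≫ G.t := by rw [Category.assoc]; exact pullback.condition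
  let Ψ : pullback (a ≫ G.s) G.t ⟶ pullback (a ≫ G.t) G.t :=
    pullback.lift z (cmp G (z ≫ a) r hzr)
      ((Category.assoc _ _ _).symm.trans (G.comp_t _ _ hzr).symm)
  let z' := pullback.fst (a ≫ G.t) G.t
  let r' := pullback.snd (a ≫ G.t) G.t
  have hzr' : ((z' ≫ a) ≫ G.i) ≫ G.s = r' ≫ G.t := by
    simp only [Category.assoc, G.i_s]; exact pullback.condition
  have hΨ : IsIso Ψ := by
    refine ⟨pullback.lift z' (cmp G ((z' ≫ a) ≫ G.i) r' hzr')
      ((Eq.trans ?_ (G.comp_t _ _ hzr').symm)), ?_, ?_⟩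
    · simp only [Category.assoc, G.i_t]
    · apply pullback.hom_ext
      · rw [Category.assoc, pullback.lift_fst, pullback.lift_fst, Category.id_comp]
      · rw [Category.assoc, pullback.lift_snd, Category.id_comp, comp_cmp]
        have h0 : ((z ≫ a) ≫ G.i) ≫ G.s = (z ≫ a) ≫ G.t := by rw [Category.assoc, G.i_s]
        have hz : Ψ ≫ (z' ≫ a) ≫ G.i = (z ≫ a) ≫ G.i := by
          simp only [← Category.assoc]
          congr 2
          exact pullback.lift_fst _ _ _
        refine (cmp_congr G _ hz (pullback.lift_snd _ _ _)).trans ?_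
        refine (G.assoc _ _ _ h0 hzr).symm.trans ?_
        refine (cmp_congr G _ (G.i_comp (z ≫ a)) rfl).trans ?_
        refine (cmp_congr G _ ?_ rfl).trans (G.e_comp r)
        rw [← Category.assoc, hzr, Category.assoc]
    · apply pullback.hom_ext
      · rw [Category.assoc, pullback.lift_fst, pullback.lift_fst, Category.id_comp]
      · rw [Category.assoc, pullback.lift_snd, Category.id_comp, comp_cmp]
        have h0 : (z' ≫ a) ≫ G.s = ((z' ≫ a) ≫ G.i) ≫ G.t := by
          simp only [Category.assoc, G.i_t]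
        refine (cmp_congr G _ (α' := z' ≫ a) (pullback.lift_fst_assoc _ _ _ _)
          (pullback.lift_snd _ _ _)).trans ?_
        refine (G.assoc _ _ _ h0 hzr').symm.trans ?_
        refine (cmp_congr G _ (G.comp_i (z' ≫ a)) rfl).trans ?_
        refine (cmp_congr G _ ?_ rfl).trans (G.e_comp r')
        simp only [Category.assoc, ← Category.assoc r', ← pullback.condition, z', r']
  have hopen : UniversallyOpen r' := by
    have : UniversallyOpen (a ≫ G.t) := by
      have h : a ≫ G.t = ((a ≫ G.t) ≫ eU.hom) ≫ eU.inv := by simp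
      rw [h]; infer_instance
    infer_instance
  let J : pullback (a ≫ G.s) (W.ι ≫ G.t) ⟶ pullback (a ≫ G.s) G.t :=
    pullback.map _ _ _ _ (𝟙 _) W.ι (𝟙 _) (by simp) (by simp)
  have e : pullback.lift (pullback.fst (a ≫ G.s) (W.ι ≫ G.t) ≫ a)
      (pullback.snd (a ≫ G.s) (W.ι ≫ G.t) ≫ W.ι)
      ((Category.assoc _ _ _).trans (pullback.condition.trans (Category.assoc _ _ _).symm)) ≫ G.c =
      J ≫ Ψ ≫ r' := by
    rw [pullback.lift_snd, comp_cmp]
    refine cmp_congr G _ ?_ ?_
    · simp only [J, z, pullback.lift_fst_assoc, Category.comp_id]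
    · simp only [J, r, pullback.lift_snd]
  rw [e, Scheme.Hom.comp_base, TopCat.coe_comp, Set.range_comp]
  refine (Ψ ≫ r').isOpenMap _ ?_
  simp only [J]
  rw [Scheme.Pullback.range_map]
  exact (IsOpen.preimage (Scheme.Hom.continuous _) (by simp)).inter
    (IsOpen.preimage (Scheme.Hom.continuous _) W.ι.isOpenEmbedding.isOpen_range)

end GrothLib.GrpSchField
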