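import Mathlib.AlgebraicGeometry.Morphisms.Etale
import Mathlib.CategoryTheory.Comma.Over.Pullback

/-!
Extension properties along a base change: restriction of morphisms in `Over S` to `S₀` in concrete form.
-/

open CategoryTheory CategoryTheory.Limits AlgebraicGeometry

namespace GrothLib.GrpSchField

universe u

variable {S S₀ : Scheme.{u}}

/-- `N` has unique extension from `P` to `Z`. -/
def UExt {Z P N : Scheme.{u}} (zh : Z ⟶ S) (nh : N ⟶ S) (p : P ⟶ Z) : Prop :=
  ∀ h : P ⟶ N, h ≫ nh = p ≫ zh → ∃! g : Z ⟶ N, g ≫ nh = zh ∧ p ≫ g = h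

theorem UExt.eq_of_comp {Z P N : Scheme.{u}} {zh : Z ⟶ S} {nh : N ⟶ S} {p : P ⟶ Z}
    (H : UExt zh nh p) {g g' : Z ⟶ N} (hg : g ≫ nh = zh) (hg' : g' ≫ nh = zh)
    (e : p ≫ g = p ≫ g') : g = g' :=
  (H (p ≫ g') (by rw [Category.assoc, hg'])).unique ⟨hg, e⟩ ⟨hg', rfl⟩

theorem pullback_map_left_fst (j : S₀ ⟶ S) {Z N : Over S} (g : Z ⟶ N) :
    ((Over.pullback j).map g).left ≫ pullback.fst N.hom j = pullback.fst Z.hom j ≫ g.left :=
  pullback.lift_fst _ _ _

/-- Bijectivity of restriction, as a unique extension property. -/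
theorem bijective_pullback_map_iff (j : S₀ ⟶ S) (Z N : Over S) :
    Function.Bijective (fun g : Z ⟶ N => (Over.pullback j).map g) ↔
      UExt Z.hom N.hom (pullback.fst Z.hom j) := by
  constructor
  · intro hb h hh
    obtain ⟨g, hg⟩ := hb.2 (Over.homMk (pullback.lift h (pullback.snd Z.hom j)
      (by rw [hh, pullback.condition])) (pullback.lift_snd _ _ _) :
      (Over.pullback j).obj Z ⟶ (Over.pullback j).obj N)
    have e : pullback.fst Z.hom j ≫ g.left = h := by
      have h1 := congrArg (fun x => x.left ≫ pullback.fst N.hom j) hg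
      simp only [pullback_map_left_fst, Over.homMk_left, pullback.lift_fst] at h1
      exact h1
    refine ⟨g.left, ⟨Over.w g, e⟩, fun g' ⟨h1, h2⟩ => ?_⟩
    have : (Over.homMk g' h1 : Z ⟶ N) = g := hb.1 (Over.OverMorphism.ext (pullback.hom_ext
      (by rw [pullback_map_left_fst, pullback_map_left_fst]; exact h2.trans e.symm)
      ((Over.w ((Over.pullback j).map (Over.homMk g' h1 : Z ⟶ N))).trans
        (Over.w ((Over.pullback j).map g)).symm)))
    exact congrArg (fun x => x.left) this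
  · intro H
    refine ⟨fun g g' e => Over.OverMorphism.ext (H.eq_of_comp (Over.w g) (Over.w g') ?_), fun h => ?_⟩
    · rw [← pullback_map_left_fst, ← pullback_map_left_fst]
      exact congrArg (fun x => x.left ≫ pullback.fst N.hom j) e
    · have w : (h.left ≫ pullback.fst N.hom j) ≫ N.hom = pullback.fst Z.hom j ≫ Z.hom := by
        rw [pullback.condition (f := Z.hom), Category.assoc, pullback.condition]
        exact congrArg (· ≫ j) (Over.w h)
      obtain ⟨g, ⟨hg1, hg2⟩, -⟩ := H _ w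
      refine ⟨Over.homMk g hg1, Over.OverMorphism.ext (pullback.hom_ext ?_ ?_)⟩
      · exact (pullback_map_left_fst j (Over.homMk g hg1 : Z ⟶ N)).trans hg2
      · exact (Over.w ((Over.pullback j).map (Over.homMk g hg1 : Z ⟶ N))).trans (Over.w h).symm

/-- The property does not depend on the chosen fibre product. -/
theorem UExt.of_iso {Z P P' N : Scheme.{u}} {zh : Z ⟶ S} {nh : N ⟶ S} {p : P ⟶ Z} {p' : P' ⟶ Z}
    (e : P ≅ P') (he : e.hom ≫ p' = p) (H : UExt zh nh p) : UExt zh nh p' := by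
  intro h hh
  obtain ⟨g, ⟨h1, h2⟩, huniq⟩ := H (e.hom ≫ h) (by rw [Category.assoc, hh, ← Category.assoc, he])
  refine ⟨g, ⟨h1, ?_⟩, fun g' hg' => huniq g' ⟨hg'.1, ?_⟩⟩
  · rw [← cancel_epi e.hom, ← Category.assoc, he, h2]
  · rw [← he, Category.assoc, hg'.2]

theorem UExt.of_isPullback {Z P N : Scheme.{u}} {zh : Z ⟶ S} {nh : N ⟶ S} {j : S₀ ⟶ S} {p : P ⟶ Z}
    {q : P ⟶ S₀} (h : IsPullback p q zh j) (H : UExt zh nh (pullback.fst zh j)) : UExt zh nh p :=
  H.of_iso h.isoPullback.symm h.isoPullback_inv_fst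

/-- The property only depends on the image of an open immersion into the base. -/
theorem UExt.of_range_eq {S₀' Z N : Scheme.{u}} {zh : Z ⟶ S} {nh : N ⟶ S} (j : S₀ ⟶ S) (j' : S₀' ⟶ S)
    [IsOpenImmersion j] [IsOpenImmersion j'] (h : Set.range j = Set.range j')
    (H : UExt zh nh (pullback.fst zh j)) : UExt zh nh (pullback.fst zh j') := by
  let e := IsOpenImmersion.isoOfRangeEq j j' h
  have he : e.hom ≫ j' = j := IsOpenImmersion.isoOfRangeEq_hom_fac _ _ _
  refine H.of_iso (asIso (pullback.map zh j zh j' (𝟙 _) e.hom (𝟙 _) (by simp) (by simp [he]))) ?_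
  exact (pullback.lift_fst _ _ _).trans (Category.comp_id _)

theorem smooth_of_comp_etale {X Y Z : Scheme.{u}} (f : X ⟶ Y) (g : Y ⟶ Z) [Etale g]
    (h : Smooth (f ≫ g)) : Smooth f := by
  have e : f = pullback.lift (𝟙 X) f (Category.id_comp _) ≫ pullback.snd (f ≫ g) g :=
    (pullback.lift_snd _ _ _).symm
  have : Smooth (pullback.lift (𝟙 X) f (Category.id_comp _) : X ⟶ pullback (f ≫ g) g) :=
    MorphismProperty.of_isPullback (P := @Smooth) (pullback_lift_diagonal_isPullback f g)
      (inferInstance : Smooth (pullback.diagonal g))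
  rw [e]
  infer_instance

end GrothLib.GrpSchField
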