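import Groth.Agent.Lib.GrpSchField.SmoothRegular
import Groth.Agent.Lib.GrpSchField.GrpDim
import Groth.Agent.Lib.GrpSchField.ReducedLocus
import Groth.Agent.Lib.GrpSchField.Criteria
import Groth.Agent.Lib.CMFree.Regular

/-!
A group scheme locally of finite type over a field is smooth if and only if it is regular at the
unit, if and only if the dimension of its tangent space at the unit is its dimension.
-/

open CategoryTheory CategoryTheory.Limits MonoidalCategory CartesianMonoidalCategory MonObj GrpObj
open AlgebraicGeometry IsLocalRing TensorProduct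

namespace GrothLib.GrpSchField

universe u

variable {K : Type u} [Field K] (G : Over (Spec (CommRingCat.of K))) [GrpObj G]
  [LocallyOfFiniteType G.hom]

/-- One point with reduced local ring after base change to an algebraic closure gives smoothness. -/
theorem smooth_of_isReduced_stalk
    (y : ↥(pullback G.hom (Spec.map (CommRingCat.ofHom (algebraMap K (AlgebraicClosure K))))))
    [_root_.IsReduced ((pullback G.hom
      (Spec.map (CommRingCat.ofHom (algebraMap K (AlgebraicClosure K))))).presheaf.stalk y)] :
    Smooth G.hom := by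
  let b : Spec (CommRingCat.of (AlgebraicClosure K)) ⟶ Spec (CommRingCat.of K) :=
    Spec.map (CommRingCat.ofHom (algebraMap K (AlgebraicClosure K)))
  let : GrpObj (Over.mk G.hom) := (inferInstance : GrpObj G)
  let : GrpObj (Over.mk (pullback.snd G.hom b)) := Over.grpObjMkPullbackSnd
  have : LocallyOfFiniteType (Over.mk (pullback.snd G.hom b)).hom :=
    inferInstanceAs (LocallyOfFiniteType (pullback.snd G.hom b))
  have : IsLocallyNoetherian (pullback G.hom b) :=
    LocallyOfFiniteType.isLocallyNoetherian (pullback.snd G.hom b)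
  obtain ⟨U, hU, hred⟩ := exists_isReduced_nhd (X := pullback G.hom b) y
  have : Nonempty U.toScheme := ⟨⟨_, hU⟩⟩
  obtain ⟨f, hf⟩ : ∃ f, f = U.ι ≫ pullback.snd G.hom b := ⟨_, rfl⟩
  have : LocallyOfFinitePresentation f := by rw [hf]; infer_instance
  have : Nonempty f.smoothLocus :=
    (Scheme.Hom.dense_smoothLocus_of_perfectField f).nonempty.to_subtype
  have : Smooth (f.smoothLocus.ι ≫ f) := by
    rw [← Scheme.Hom.smoothLocus_eq_top_iff, ← Scheme.Hom.preimage_smoothLocus_eq,
      Scheme.Opens.ι_preimage_self]
  have : Smooth ((f.smoothLocus.ι ≫ U.ι) ≫ (Over.mk (pullback.snd G.hom b)).hom) := by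
    rw [Category.assoc]; show Smooth (f.smoothLocus.ι ≫ U.ι ≫ pullback.snd G.hom b)
    rw [← hf]; exact this
  have hs : Smooth (Over.mk (pullback.snd G.hom b)).hom :=
    smooth_of_open_smooth (Over.mk (pullback.snd G.hom b)) (f.smoothLocus.ι ≫ U.ι)
  exact MorphismProperty.of_pullback_snd_of_descendsAlong
    (P := @Smooth) (Q := @Surjective ⊓ @Flat ⊓ @QuasiCompact) (f := G.hom) (g := b)
    ⟨⟨inferInstance, inferInstance⟩, inferInstance⟩ hs

/-- The dimension does not change under base change to an algebraic closure. -/
theorem topologicalKrullDim_baseChange :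
    topologicalKrullDim ↥(pullback G.hom
      (Spec.map (CommRingCat.ofHom (algebraMap K (AlgebraicClosure K))))) =
      topologicalKrullDim G.left := by
  let L := AlgebraicClosure K
  let b : Spec (CommRingCat.of L) ⟶ Spec (CommRingCat.of K) :=
    Spec.map (CommRingCat.ofHom (algebraMap K L))
  let : GrpObj (Over.mk G.hom) := (inferInstance : GrpObj G)
  let : GrpObj (Over.mk (pullback.snd G.hom b)) := Over.grpObjMkPullbackSnd
  let Gb : Over (Spec (CommRingCat.of L)) := Over.mk (pullback.snd G.hom b)
  have : LocallyOfFiniteType Gb.hom :=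
    inferInstanceAs (LocallyOfFiniteType (pullback.snd G.hom b))
  let π : pullback b G.hom ⟶ G.left := pullback.snd b G.hom
  let e : Gb.left ≅ pullback b G.hom := pullbackSymmetry G.hom b
  obtain ⟨z⟩ : Nonempty G.left := ⟨η[G].left (IsLocalRing.closedPoint K)⟩
  have hZ := irreducibleComponent_mem_irreducibleComponents z
  have hZo := isOpen_of_mem_irreducibleComponents G hZ
  obtain ⟨p, -, hp⟩ := Scheme.Pullback.exists_preimage_pullback (f := b) (g := G.hom)
    (default : Spec (CommRingCat.of L)) z (Subsingleton.elim (α := Spec (CommRingCat.of K)) _ _)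
  let S : Set ↥(pullback b G.hom) := π ⁻¹' irreducibleComponent z
  have hpS : p ∈ S := by
    show π p ∈ irreducibleComponent z
    rw [hp]; exact mem_irreducibleComponent
  have hS : Topology.IsOpenEmbedding (Subtype.val : S → ↥(pullback b G.hom)) :=
    (hZo.preimage π.continuous).isOpenEmbedding_subtypeVal
  have hsub : irreducibleComponent p ⊆ S :=
    irreducibleComponent_subset_connectedComponent.trans
      (IsClopen.connectedComponent_subset
        ⟨isClosed_irreducibleComponent.preimage π.continuous, hZo.preimage π.continuous⟩ hpS)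
  have hW := preimage_mem_irreducibleComponents (irreducibleComponent_mem_irreducibleComponents p)
    hS ⟨p, mem_irreducibleComponent, ⟨⟨p, hpS⟩, rfl⟩⟩
  have hW' := preimage_mem_irreducibleComponents (irreducibleComponent_mem_irreducibleComponents p)
    e.hom.isOpenEmbedding ⟨p, mem_irreducibleComponent, e.hom.homeomorph.surjective p⟩
  rw [← topologicalKrullDim_component G hZ,
    ← GrothLib.Dim.topologicalKrullDim_component_preimage (L := L) G.hom isClosed_irreducibleComponent
      hZ.1 _ hW]
  show topologicalKrullDim Gb.left = _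
  rw [← topologicalKrullDim_component Gb hW']
  have e1 : topologicalKrullDim (Subtype.val ⁻¹' irreducibleComponent p : Set S) =
      topologicalKrullDim (irreducibleComponent p) := by
    refine GrothLib.Dim.IsEmbedding.topologicalKrullDim_eq
      (f := fun w : (Subtype.val ⁻¹' irreducibleComponent p : Set S) => w.1.1)
      (Topology.IsEmbedding.subtypeVal.comp Topology.IsEmbedding.subtypeVal) ?_
    ext q
    constructor
    · rintro ⟨w, rfl⟩; exact w.2
    · intro hq; exact ⟨⟨⟨q, hsub hq⟩, hq⟩, rfl⟩
  refine Eq.trans ?_ e1.symm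
  refine GrothLib.Dim.IsEmbedding.topologicalKrullDim_eq
    (f := fun w : (e.hom ⁻¹' irreducibleComponent p : Set Gb.left) => e.hom w.1)
    (e.hom.isEmbedding.comp Topology.IsEmbedding.subtypeVal) ?_
  ext q
  constructor
  · rintro ⟨w, rfl⟩; exact w.2
  · intro hq
    obtain ⟨w, rfl⟩ := e.hom.homeomorph.surjective q
    exact ⟨⟨w, hq⟩, rfl⟩

/-- If the tangent space at the unit has dimension at most the dimension, the group is smooth. -/
theorem smooth_of_spanFinrank_le
    (h : ((maximalIdeal (G.left.presheaf.stalk (η[G].left (closedPoint K)))).spanFinrank :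
      WithBot ℕ∞) ≤ topologicalKrullDim G.left) : Smooth G.hom := by
  let L := AlgebraicClosure K
  let b : Spec (CommRingCat.of L) ⟶ Spec (CommRingCat.of K) :=
    Spec.map (CommRingCat.ofHom (algebraMap K L))
  have : IsLocallyNoetherian G.left := LocallyOfFiniteType.isLocallyNoetherian G.hom
  obtain ⟨_, ⟨U₀, hU, rfl⟩, hxU, -⟩ := G.left.isBasis_affineOpens.exists_subset_of_mem_open
    (a := η[G].left (closedPoint K)) (Set.mem_univ _) isOpen_univ
  let U : G.left.Opens := U₀
  have : IsNoetherianRing Γ(G.left, U) := IsLocallyNoetherian.component_noetherian ⟨U, hU⟩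
  obtain ⟨ψ, hψ, hψ'⟩ := GrothLib.Dim.exists_finiteType_specMap G.hom hU
  let _ : Algebra K Γ(G.left, U) := ψ.hom.toAlgebra
  let σ₀ : Spec (CommRingCat.of K) ⟶ G.left := η[G].left
  have hrange : Set.range σ₀ ⊆ Set.range hU.fromSpec := by
    rintro _ ⟨t, rfl⟩
    rw [hU.range_fromSpec, Subsingleton.elim t (closedPoint K)]
    exact hxU
  let σ := IsOpenImmersion.lift hU.fromSpec σ₀ hrange
  have hσ : σ ≫ hU.fromSpec = σ₀ := IsOpenImmersion.lift_fac _ _ _
  let ε₀ := (Spec.preimage σ).hom
  have hεK : ε₀.comp (algebraMap K Γ(G.left, U)) = RingHom.id K := by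
    have h1 : Spec.map (ψ ≫ Spec.preimage σ) = Spec.map (𝟙 (CommRingCat.of K)) := by
      rw [Spec.map_comp, Spec.map_preimage, ← hψ', ← Category.assoc, hσ, Spec.map_id]
      exact Over.w η[G]
    exact congrArg CommRingCat.Hom.hom (Spec.map_injective h1)
  let ε : Γ(G.left, U) →ₐ[K] K :=
    { ε₀ with commutes' := fun r => RingHom.congr_fun hεK r }
  let φ : Γ(G.left, U) ⊗[K] L →ₐ[K] L :=
    Algebra.TensorProduct.lift ((Algebra.ofId K L).comp ε) (AlgHom.id K L) fun _ _ => mul_comm _ _
  have hφsurj : Function.Surjective φ := fun l => ⟨1 ⊗ₜ l, by simp [φ]⟩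
  let p := RingHom.ker ε₀
  let q := RingHom.ker φ.toRingHom
  have hp : p.IsMaximal := RingHom.ker_isMaximal_of_surjective ε₀
    fun r => ⟨algebraMap K _ r, RingHom.congr_fun hεK r⟩
  have hq : q.IsMaximal := RingHom.ker_isMaximal_of_surjective φ.toRingHom hφsurj
  let ι' : Γ(G.left, U) →+* Γ(G.left, U) ⊗[K] L := Algebra.TensorProduct.includeLeftRingHom
  have hqeq : q = p.map ι' := by
    refine le_antisymm (fun x hx => ?_) (Ideal.map_le_iff_le_comap.mpr fun a ha => ?_)
    · have key : ∀ x, x - (1 : Γ(G.left, U)) ⊗ₜ[K] φ x ∈ p.map ι' := by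
        intro x
        induction x using TensorProduct.induction_on with
        | zero => simp
        | tmul a l =>
          have ha : a - algebraMap K _ (ε a) ∈ p := by
            show ε (a - algebraMap K _ (ε a)) = 0
            rw [map_sub, ε.commutes]; simp
          have := Ideal.mul_mem_right ((1 : Γ(G.left, U)) ⊗ₜ[K] l) _ (Ideal.mem_map_of_mem ι' ha)
          have e1 : φ (a ⊗ₜ[K] l) = ε a • l := by
            simp only [φ, Algebra.TensorProduct.lift_tmul]
            rw [Algebra.smul_def]
            rfl
          rw [show ι' (a - algebraMap K _ (ε a)) = (a - algebraMap K _ (ε a)) ⊗ₜ[K] (1 : L) from rfl,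
            Algebra.TensorProduct.tmul_mul_tmul, _root_.mul_one, _root_.one_mul, TensorProduct.sub_tmul,
            Algebra.algebraMap_eq_smul_one, TensorProduct.smul_tmul] at this
          rw [e1]
          exact this
        | add a c ha hc =>
          rw [map_add, TensorProduct.tmul_add, add_sub_add_comm]
          exact add_mem ha hc
      have := key x
      rw [show φ x = 0 from hx, TensorProduct.tmul_zero, sub_zero] at this
      exact this
    · show φ (a ⊗ₜ 1) = 0
      have : ε a = 0 := ha
      simp [φ, this]
  -- embed `Spec (A ⊗ L)` as an open subscheme of the base change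
  let T := CommRingCat.of (Γ(G.left, U) ⊗[K] L)
  have hψ'' : hU.fromSpec ≫ G.hom =
      Spec.map (CommRingCat.ofHom (algebraMap K Γ(G.left, U))) := hψ'
  let j₀ : pullback (hU.fromSpec ≫ G.hom) b ⟶ pullback G.hom b :=
    pullback.map _ _ _ _ hU.fromSpec (𝟙 _) (𝟙 _) (by simp) (by simp)
  have : IsOpenImmersion j₀ :=
    MorphismProperty.pullbackMap (P := @IsOpenImmersion) inferInstance inferInstance rfl
      (Category.id_comp b).symm
  let j : Spec T ⟶ pullback G.hom b :=
    (pullbackSpecIso K Γ(G.left, U) L).inv ≫ (pullback.congrHom hψ'' rfl).inv ≫ j₀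
  have : IsOpenImmersion j := inferInstance
  let qpt : Spec T := ⟨q, hq.isPrime⟩
  let y := j qpt
  have hqclosed : IsClosed ({qpt} : Set (Spec T)) :=
    (PrimeSpectrum.isClosed_singleton_iff_isMaximal _).mpr hq
  have : JacobsonSpace ↥(pullback G.hom b) :=
    LocallyOfFiniteType.jacobsonSpace (pullback.snd G.hom b)
  have hyclosed : IsClosed ({y} : Set ↥(pullback G.hom b)) := by
    have hc : qpt ∈ closedPoints (Spec T) := hqclosed
    rw [← j.isOpenEmbedding.preimage_closedPoints] at hc
    exact hc
  let : GrpObj (Over.mk G.hom) := (inferInstance : GrpObj G)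
  let : GrpObj (Over.mk (pullback.snd G.hom b)) := Over.grpObjMkPullbackSnd
  have : LocallyOfFiniteType (Over.mk (pullback.snd G.hom b)).hom :=
    inferInstanceAs (LocallyOfFiniteType (pullback.snd G.hom b))
  have hdim : ringKrullDim ((pullback G.hom b).presheaf.stalk y) = topologicalKrullDim G.left :=
    (ringKrullDim_stalk_eq (Over.mk (pullback.snd G.hom b)) hyclosed).trans
      (topologicalKrullDim_baseChange G)
  -- generators of the maximal ideals
  let x := η[G].left (closedPoint K)
  let ptU : PrimeSpectrum Γ(G.left, U) := hU.primeIdealOf ⟨x, hxU⟩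
  have hptU : ptU.asIdeal = p := by
    have e1 : σ (closedPoint K) = ptU := hU.fromSpec.isOpenEmbedding.injective (by
      rw [hU.fromSpec_primeIdealOf, ← Scheme.Hom.comp_apply, hσ])
    rw [← e1]
    rw [← Spec.map_preimage σ]
    show Ideal.comap ε₀ (maximalIdeal K) = p
    rw [maximalIdeal_eq_bot]
    rfl
  let _ : Algebra Γ(G.left, U) (G.left.presheaf.stalk x) :=
    G.left.presheaf.algebra_section_stalk ⟨x, hxU⟩
  have hloc : IsLocalization.AtPrime (G.left.presheaf.stalk x) p := by
    have := hU.isLocalization_stalk ⟨x, hxU⟩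
    unfold IsLocalization.AtPrime at this ⊢
    convert this using 2
    exact hptU.symm
  obtain ⟨s, hscard, hs⟩ : ∃ s : Finset (G.left.presheaf.stalk x),
      s.card ≤ (maximalIdeal (G.left.presheaf.stalk x)).spanFinrank ∧
        Ideal.span (s : Set _) = maximalIdeal (G.left.presheaf.stalk x) := by
    have hfg : (maximalIdeal (G.left.presheaf.stalk x)).FG := IsNoetherian.noetherian _
    have hfin := Submodule.FG.finite_generators hfg
    refine ⟨hfin.toFinset, le_of_eq ?_, by rw [Set.Finite.coe_toFinset]; exact Submodule.span_generators _⟩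
    rw [← Submodule.FG.generators_ncard hfg, Set.ncard_eq_toFinset_card _ hfin]
  let qS := Localization.AtPrime q
  let θ : (G.left.presheaf.stalk x) →+* qS :=
    IsLocalization.lift (M := p.primeCompl) (S := G.left.presheaf.stalk x)
      (g := (algebraMap (Γ(G.left, U) ⊗[K] L) qS).comp ι') fun a => by
        refine IsLocalization.map_units qS (⟨ι' a, fun h => a.2 ?_⟩ : q.primeCompl)
        have h' : φ (ι' a) = 0 := h
        have h'' : algebraMap K L (ε a) = 0 := by simpa [φ, ι'] using h'
        exact (map_eq_zero_iff _ (algebraMap K L).injective).mp h''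
  have hθ : (maximalIdeal (G.left.presheaf.stalk x)).map θ = maximalIdeal qS := by
    rw [← IsLocalization.AtPrime.map_eq_maximalIdeal p (G.left.presheaf.stalk x), Ideal.map_map,
      IsLocalization.lift_comp, ← Ideal.map_map, ← hqeq]
    exact IsLocalization.AtPrime.map_eq_maximalIdeal q qS
  have hle : (maximalIdeal qS).spanFinrank ≤ (maximalIdeal (G.left.presheaf.stalk x)).spanFinrank := by
    classical
    rw [← hθ, ← hs, Ideal.map_span]
    refine (Submodule.spanFinrank_span_le_ncard_of_finite (s.finite_toSet.image _)).trans ?_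
    refine (Set.ncard_image_le s.finite_toSet).trans ?_
    rw [Set.ncard_coe_finset, hs]
    exact hscard
  -- transfer to the stalk of the base change
  let e : (pullback G.hom b).presheaf.stalk y ≃+* qS :=
    ((asIso (j.stalkMap qpt)).commRingCatIsoToRingEquiv).trans
      (StructureSheaf.stalkIso (Γ(G.left, U) ⊗[K] L) qpt).toRingEquiv.symm
  have : IsNoetherianRing (Γ(G.left, U) ⊗[K] L) := by
    have : Algebra.FiniteType K Γ(G.left, U) := hψ
    have : IsNoetherianRing (L ⊗[K] Γ(G.left, U)) := Algebra.FiniteType.isNoetherianRing L _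
    exact isNoetherianRing_of_ringEquiv _ (Algebra.TensorProduct.comm K L Γ(G.left, U)).toRingEquiv
  have : IsNoetherianRing qS := IsLocalization.isNoetherianRing q.primeCompl qS inferInstance
  have : IsRegularLocalRing qS := by
    apply IsRegularLocalRing.of_spanFinrank_maximalIdeal_le
    rw [← ringKrullDim_eq_of_ringEquiv e, hdim]
    exact le_trans (by exact_mod_cast hle) h
  have : IsRegularLocalRing ((pullback G.hom b).presheaf.stalk y) := IsRegularLocalRing.of_ringEquiv e.symm
  have : IsDomain ((pullback G.hom b).presheaf.stalk y) := GrothLib.CMFree.isDomain_of_isRegularLocalRing _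
  exact smooth_of_isReduced_stalk G y

theorem topologicalKrullDim_le_spanFinrank :
    topologicalKrullDim G.left ≤
      ((maximalIdeal (G.left.presheaf.stalk (η[G].left (closedPoint K)))).spanFinrank : WithBot ℕ∞) := by
  have : IsLocallyNoetherian G.left := LocallyOfFiniteType.isLocallyNoetherian G.hom
  have := unit_isClosedImmersion G
  rw [← ringKrullDim_stalk_eq G (g := η[G].left (closedPoint K)) (by
    have h := η[G].left.isClosedEmbedding.isClosed_range
    convert h using 1
    ext z
    constructor
    · rintro rfl; exact ⟨_, rfl⟩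
    · rintro ⟨w, rfl⟩
      exact congrArg η[G].left (Subsingleton.elim (α := Spec (CommRingCat.of K)) w (closedPoint K)))]
  exact ringKrullDim_le_spanFinrank_maximalIdeal _

end GrothLib.GrpSchField
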