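import Mathlib.RingTheory.Jacobson.Ring
import Mathlib.FieldTheory.IsAlgClosed.Basic
import Mathlib.LinearAlgebra.TensorProduct.Basis
import Mathlib.RingTheory.Flat.Basic
import Mathlib.RingTheory.TensorProduct.Nontrivial
import Mathlib.RingTheory.TensorProduct.Maps
import Mathlib.AlgebraicGeometry.Pullbacks
import Mathlib.AlgebraicGeometry.Properties

/-!
Tensor products of domains over an algebraically closed field are domains, and the consequence
that fibre products of spectra of domains over such a field are irreducible.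
-/

open TensorProduct CategoryTheory CategoryTheory.Limits AlgebraicGeometry

namespace GrothLib.GrpSchField

universe u

variable {L A B : Type u} [Field L] [IsAlgClosed L] [CommRing A] [CommRing B] [Algebra L A]
  [Algebra L B]

/-- A finitely generated reduced algebra over an algebraically closed field: a nonzero element
does not vanish at some rational point. -/
theorem exists_algHom_ne_zero [IsReduced A] [Algebra.FiniteType L A] {c : A} (hc : c ≠ 0) :
    ∃ φ : A →ₐ[L] L, φ c ≠ 0 := by
  have : IsJacobsonRing A := isJacobsonRing_of_finiteType (A := L)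
  have h0 : (⊥ : Ideal A).jacobson = ⊥ :=
    IsJacobsonRing.out ‹_› (Ideal.isRadical_iff_quotient_reduced ⊥ |>.mpr
      (isReduced_of_injective (RingEquiv.quotientBot A) (RingEquiv.quotientBot A).injective))
  have hc' : c ∉ (⊥ : Ideal A).jacobson := by rw [h0]; exact hc
  simp only [Ideal.jacobson, Submodule.mem_sInf, not_forall] at hc'
  obtain ⟨m, ⟨-, hm⟩, hcm⟩ := hc'
  let _ := Ideal.Quotient.field m
  have : Module.Finite L (A ⧸ m) := finite_of_finite_type_of_isJacobsonRing L _
  have hb : Function.Bijective (algebraMap L (A ⧸ m)) :=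
    IsAlgClosed.algebraMap_bijective_of_isIntegral
  let e : L ≃ₐ[L] A ⧸ m := AlgEquiv.ofBijective (Algebra.ofId L (A ⧸ m)) hb
  refine ⟨e.symm.toAlgHom.comp (Ideal.Quotient.mkₐ L m), fun h => hcm ?_⟩
  exact Ideal.Quotient.eq_zero_iff_mem.mp ((map_eq_zero_iff e.symm e.symm.injective).mp h)

/-- Over an algebraically closed field the tensor product of two domains is a domain. -/
theorem isDomain_tensorProduct [IsDomain A] [IsDomain B] : IsDomain (A ⊗[L] B) := by
  have : Nontrivial (A ⊗[L] B) :=
    Algebra.TensorProduct.nontrivial_of_algebraMap_injective_of_isDomain L A B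
      (algebraMap L A).injective (algebraMap L B).injective
  suffices NoZeroDivisors (A ⊗[L] B) from NoZeroDivisors.to_isDomain _
  constructor
  intro x y hxy
  classical
  let e := Module.Free.chooseBasis L B
  obtain ⟨a, rfl⟩ := TensorProduct.eq_repr_basis_right e x
  obtain ⟨a', rfl⟩ := TensorProduct.eq_repr_basis_right e y
  by_contra hne
  rw [not_or] at hne
  obtain ⟨i, hi⟩ : ∃ i, a i ≠ 0 := by
    by_contra! h
    exact hne.1 (by rw [show a = 0 from Finsupp.ext h, Finsupp.sum_zero_index])
  obtain ⟨j, hj⟩ : ∃ j, a' j ≠ 0 := by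
    by_contra! h
    exact hne.2 (by rw [show a' = 0 from Finsupp.ext h, Finsupp.sum_zero_index])
  let A₀ := Algebra.adjoin L (↑(a.support.image a ∪ a'.support.image a') : Set A)
  have : Algebra.FiniteType L A₀ :=
    ⟨(Subalgebra.fg_top A₀).mpr (Subalgebra.fg_adjoin_finset _)⟩
  have hmem : ∀ k, a k ∈ A₀ ∧ a' k ∈ A₀ := fun k => by
    constructor
    · by_cases h : a k = 0
      · rw [h]; exact zero_mem _
      · exact Algebra.subset_adjoin (Finset.mem_union_left _
          (Finset.mem_image_of_mem _ (Finsupp.mem_support_iff.mpr h)))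
    · by_cases h : a' k = 0
      · rw [h]; exact zero_mem _
      · exact Algebra.subset_adjoin (Finset.mem_union_right _
          (Finset.mem_image_of_mem _ (Finsupp.mem_support_iff.mpr h)))
  let f := Algebra.TensorProduct.map A₀.val (AlgHom.id L B)
  have hf : Function.Injective f :=
    Module.Flat.rTensor_preserves_injective_linearMap (M := B) A₀.val.toLinearMap
      Subtype.val_injective
  let x₀ : A₀ ⊗[L] B := ∑ k ∈ a.support, (⟨a k, (hmem k).1⟩ : A₀) ⊗ₜ e k
  let y₀ : A₀ ⊗[L] B := ∑ k ∈ a'.support, (⟨a' k, (hmem k).2⟩ : A₀) ⊗ₜ e k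
  have h0 : x₀ * y₀ = 0 := by
    apply hf
    rw [map_mul, map_zero, map_sum, map_sum, ← hxy]
    rfl
  have hc : (⟨a i, (hmem i).1⟩ * ⟨a' j, (hmem j).2⟩ : A₀) ≠ 0 := fun h =>
    mul_ne_zero hi hj (congrArg Subtype.val h)
  obtain ⟨φ, hφ⟩ := exists_algHom_ne_zero (L := L) hc
  rw [map_mul] at hφ
  let g : A₀ ⊗[L] B →ₐ[L] B :=
    Algebra.TensorProduct.lift ((Algebra.ofId L B).comp φ) (AlgHom.id L B) fun _ _ => mul_comm _ _
  have hg : ∀ (t : A₀) (k), g (t ⊗ₜ e k) = φ t • e k := fun t k => by
    simp [g, Algebra.smul_def]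
  rcases mul_eq_zero.mp (show g x₀ * g y₀ = 0 by rw [← map_mul, h0, map_zero]) with h | h
  · simp only [x₀, map_sum, hg] at h
    exact left_ne_zero_of_mul hφ
      (linearIndependent_iff'.mp e.linearIndependent _ _ h i (Finsupp.mem_support_iff.mpr hi))
  · simp only [y₀, map_sum, hg] at h
    exact right_ne_zero_of_mul hφ
      (linearIndependent_iff'.mp e.linearIndependent _ _ h j (Finsupp.mem_support_iff.mpr hj))

/-- Over an algebraically closed field the fibre product of spectra of domains is irreducible. -/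
theorem irreducibleSpace_pullback_spec {M N : CommRingCat.{u}} [IsDomain M] [IsDomain N]
    (f : Spec M ⟶ Spec (CommRingCat.of L)) (g : Spec N ⟶ Spec (CommRingCat.of L)) :
    IrreducibleSpace (pullback f g : Scheme.{u}) := by
  obtain ⟨φ, rfl⟩ := Spec.map_surjective f
  obtain ⟨ψ, rfl⟩ := Spec.map_surjective g
  let _ : Algebra L M := φ.hom.toAlgebra
  let _ : Algebra L N := ψ.hom.toAlgebra
  have : IsDomain (M ⊗[L] N) := isDomain_tensorProduct
  have : IrreducibleSpace (Spec (CommRingCat.of (M ⊗[L] N))) :=
    inferInstanceAs (IrreducibleSpace (PrimeSpectrum (M ⊗[L] N)))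
  exact (pullbackSpecIso L M N).symm.hom.homeomorph.surjective.irreducibleSpace
    (pullbackSpecIso L M N).inv.continuous

end GrothLib.GrpSchField
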