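import Mathlib.RingTheory.KrullDimension.Polynomial
import Mathlib.RingTheory.Jacobson.Ring
import Mathlib.RingTheory.IntegralClosure.GoingDown
import Mathlib.RingTheory.NoetherNormalization
import Mathlib.RingTheory.Polynomial.UniqueFactorization
import Mathlib.RingTheory.Polynomial.RationalRoot
import Groth.Agent.Lib.Dim.Ring

/-!
Maximal ideals of affine domains have height equal to the dimension.
-/

namespace GrothLib.GrpSchField

open Ideal

theorem height_eq_of_isMaximal_mvPolynomial (k : Type*) [Field k] :
    ∀ (n : ℕ) (M : Ideal (MvPolynomial (Fin n) k)), M.IsMaximal → M.height = n := by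
  intro n
  induction n with
  | zero =>
    intro M hM
    have h0 : ringKrullDim (MvPolynomial (Fin 0) k) = 0 := by
      rw [MvPolynomial.ringKrullDim_of_isNoetherianRing, ringKrullDim_eq_zero_of_field]; simp
    have := Ideal.height_le_ringKrullDim_of_ne_top hM.ne_top
    rw [h0] at this
    simpa using this
  | succ n ih =>
    intro M hM
    let e := (MvPolynomial.finSuccEquiv k n).toRingEquiv
    let M' : Ideal (Polynomial (MvPolynomial (Fin n) k)) := M.map e
    have : M'.IsMaximal := map_isMaximal_of_equiv e
    have hq : (M'.comap Polynomial.C).IsMaximal :=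
      Polynomial.isMaximal_comap_C_of_isJacobsonRing M'
    have : M'.LiesOver (M'.comap Polynomial.C) := ⟨rfl⟩
    rw [← e.height_map M, show M.map e = M' from rfl,
      Polynomial.height_eq_height_add_one (M'.comap Polynomial.C) M', ih _ hq, Nat.cast_succ]

theorem height_eq_ringKrullDim_of_isMaximal (k : Type*) [Field k] (A : Type*) [CommRing A] [IsDomain A]
    [Algebra k A] [Algebra.FiniteType k A] (m : Ideal A) [hm : m.IsMaximal] :
    (m.height : WithBot ℕ∞) = ringKrullDim A := by
  obtain ⟨n, g, hinj, hfin⟩ := exists_finite_inj_algHom_of_fg k A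
  algebraize [g.toRingHom]
  have : Module.Finite (MvPolynomial (Fin n) k) A := hfin
  have : FaithfulSMul (MvPolynomial (Fin n) k) A :=
    (faithfulSMul_iff_algebraMap_injective _ _).2 hinj
  have hA : ringKrullDim A = n := by
    rw [GrothLib.Dim.ringKrullDim_eq_of_isIntegral (R := MvPolynomial (Fin n) k) (S := A) hinj,
      MvPolynomial.ringKrullDim_of_isNoetherianRing, ringKrullDim_eq_zero_of_field]
    simp
  rw [hA]
  have : IsNoetherianRing A := Algebra.FiniteType.isNoetherianRing k A
  let p := m.under (MvPolynomial (Fin n) k)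
  have : p.IsMaximal := isMaximal_comap_of_isIntegral_of_isMaximal m
  have : m.LiesOver p := ⟨rfl⟩
  refine le_antisymm (hA ▸ Ideal.height_le_ringKrullDim_of_ne_top hm.ne_top) ?_
  have h := Ideal.height_eq_height_add_of_liesOver_of_hasGoingDown p m
  rw [height_eq_of_isMaximal_mvPolynomial k n p inferInstance] at h
  have h' : (n : ℕ∞) ≤ m.height := h ▸ le_self_add
  exact_mod_cast h'

end GrothLib.GrpSchField
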