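import Mathlib.Topology.Constructible
import Mathlib.Topology.LocallyClosed

/-!
A constructible set contains a dense open subset of its closure.
-/

open Topology

namespace GrothLib.GrpSchField

variable {α : Type*} [TopologicalSpace α]

/-- Finite unions of locally closed sets. -/
inductive IsFinUnionLC : Set α → Prop
  | of {s : Set α} : IsLocallyClosed s → IsFinUnionLC s
  | union {s t : Set α} : IsFinUnionLC s → IsFinUnionLC t → IsFinUnionLC (s ∪ t)

theorem IsFinUnionLC.inter {s t : Set α} (hs : IsFinUnionLC s) (ht : IsFinUnionLC t) :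
    IsFinUnionLC (s ∩ t) := by
  induction hs with
  | of hs =>
    induction ht with
    | of ht => exact .of (hs.inter ht)
    | union _ _ h₁ h₂ => rw [Set.inter_union_distrib_left]; exact .union h₁ h₂
  | union _ _ h₁ h₂ => rw [Set.union_inter_distrib_right]; exact .union h₁ h₂

theorem isFinUnionLC_of_isConstructible {s : Set α} (hs : IsConstructible s) : IsFinUnionLC s := by
  suffices H : IsFinUnionLC s ∧ IsFinUnionLC sᶜ from H.1
  induction hs using IsConstructible.empty_union_induction with
  | open_retrocompact U hU _ =>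
    exact ⟨.of hU.isLocallyClosed, .of hU.isClosed_compl.isLocallyClosed⟩
  | union s _ t _ hs ht => exact ⟨hs.1.union ht.1, by rw [Set.compl_union]; exact hs.2.inter ht.2⟩
  | compl s _ hs => exact ⟨hs.2, by simpa using hs.1⟩

/-- The interior of a constructible set in its closure is dense. -/
theorem exists_isOpen_inter_closure_subset {s V : Set α} (hs : IsConstructible s) (hV : IsOpen V)
    (hne : (V ∩ s).Nonempty) :
    ∃ U ⊆ V, IsOpen U ∧ (U ∩ s).Nonempty ∧ U ∩ closure s ⊆ s := by
  have := isFinUnionLC_of_isConstructible hs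
  clear hs
  induction this generalizing V with
  | of hs =>
    obtain ⟨x, hxV, hxs⟩ := hne
    refine ⟨V ∩ coborder _, Set.inter_subset_left, hV.inter hs.isOpen_coborder,
      ⟨x, ⟨hxV, subset_coborder hxs⟩, hxs⟩, fun y hy => ?_⟩
    exact coborder_inter_closure.subset ⟨hy.1.2, hy.2⟩
  | @union s t _ _ ihs iht =>
    by_cases h : (V ∩ s ∩ (closure t)ᶜ).Nonempty
    · obtain ⟨U, hUV, hU, hUs, hsub⟩ := ihs (hV.inter isClosed_closure.isOpen_compl)
        (by rwa [Set.inter_right_comm])
      refine ⟨U, hUV.trans Set.inter_subset_left, hU,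
        hUs.mono (Set.inter_subset_inter_right _ Set.subset_union_left), fun y hy => ?_⟩
      rw [closure_union] at hy
      rcases hy.2 with h2 | h2
      · exact Or.inl (hsub ⟨hy.1, h2⟩)
      · exact absurd h2 (hUV hy.1).2
    · have hsub : V ∩ s ⊆ closure t := fun y hy => by_contra fun hc => h ⟨y, hy, hc⟩
      have hVt : (V ∩ t).Nonempty := by
        obtain ⟨x, hxV, hx | hx⟩ := hne
        · exact mem_closure_iff.mp (hsub ⟨hxV, hx⟩) V hV hxV
        · exact ⟨x, hxV, hx⟩
      obtain ⟨U, hUV, hU, hUt, hsubt⟩ := iht hV hVt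
      refine ⟨U, hUV, hU, hUt.mono (Set.inter_subset_inter_right _ Set.subset_union_right),
        fun y hy => Or.inr (hsubt ⟨hy.1, ?_⟩)⟩
      rw [closure_union] at hy
      rcases hy.2 with h2 | h2
      · refine closure_minimal hsub isClosed_closure (hV.inter_closure ⟨hUV hy.1, h2⟩)
      · exact h2

/-- A nonempty locally constructible set contains a nonempty open subset of its closure. -/
theorem exists_isOpen_inter_closure_subset' {s : Set α} (hs : IsLocallyConstructible s)
    (hne : s.Nonempty) : ∃ U, IsOpen U ∧ (U ∩ s).Nonempty ∧ U ∩ closure s ⊆ s := by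
  obtain ⟨x, hx⟩ := hne
  obtain ⟨V, hxV, hV, hVs⟩ := hs x
  obtain ⟨U, -, hU, ⟨z, hzU, hzs⟩, hsub⟩ := exists_isOpen_inter_closure_subset hVs isOpen_univ
    ⟨⟨x, mem_of_mem_nhds hxV⟩, trivial, hx⟩
  refine ⟨Subtype.val '' U, hV.isOpenEmbedding_subtypeVal.isOpenMap _ hU,
    ⟨z, ⟨z, hzU, rfl⟩, hzs⟩, ?_⟩
  rintro _ ⟨⟨w, hw, rfl⟩, hcl⟩
  refine hsub ⟨hw, ?_⟩
  show w ∈ closure (Subtype.val ⁻¹' s)
  rw [← hV.isOpenEmbedding_subtypeVal.isOpenMap.preimage_closure_eq_closure_preimage
    continuous_subtype_val]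
  exact hcl

end GrothLib.GrpSchField
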