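import Mathlib.RingTheory.Smooth.Field
import Mathlib.RingTheory.Smooth.Locus
import Mathlib.RingTheory.KrullDimension.Zero
import Mathlib.RingTheory.Ideal.Height
import Mathlib.RingTheory.Jacobson.Ring
import Mathlib.RingTheory.LocalProperties.Reduced
import Mathlib.Algebra.DualNumber
import Mathlib.RingTheory.LocalRing.MaximalIdeal.Basic

/-!
Algebra behind Cartier's theorem.
-/

namespace GrothLib.GrpSchField

open IsLocalRing

universe u

/-- An ideal contained in `m²` whose quotient is formally smooth is zero. -/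
theorem eq_bot_of_le_sq_of_formallySmooth {R A : Type u} [CommRing R] [CommRing A] [IsLocalRing A]
    [Algebra R A] (I : Ideal A) (hfg : I.FG) (hI : I ≤ maximalIdeal A ^ 2)
    [Algebra.FormallySmooth R (A ⧸ I)] : I = ⊥ := by
  set m := maximalIdeal A with hm
  have hIm : I ≤ m := hI.trans (Ideal.pow_le_self two_ne_zero)
  let J : Ideal (A ⧸ I ^ 2) := RingHom.ker (Ideal.Quotient.factorₐ R (Ideal.pow_le_self two_ne_zero : I ^ 2 ≤ I))
  have hJ : J = I.map (Ideal.Quotient.mk (I ^ 2)) := by
    apply le_antisymm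
    · intro x hx
      obtain ⟨x, rfl⟩ := Ideal.Quotient.mk_surjective x
      exact Ideal.mem_map_of_mem _ ((Ideal.Quotient.eq_zero_iff_mem).mp hx)
    · rw [Ideal.map_le_iff_le_comap]
      intro x hx
      exact (Ideal.Quotient.eq_zero_iff_mem).mpr hx
  have hJ2 : J ^ 2 = ⊥ := by
    rw [hJ, ← Ideal.map_pow, Ideal.map_quotient_self]
  let e := (Ideal.quotientKerAlgEquivOfSurjective (f := Ideal.Quotient.factorₐ R
    (Ideal.pow_le_self two_ne_zero : I ^ 2 ≤ I)) (Ideal.Quotient.factor_surjective (Ideal.pow_le_self two_ne_zero : I ^ 2 ≤ I)))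
  obtain ⟨g, hg⟩ := Algebra.FormallySmooth.comp_surjective R (A ⧸ I) J hJ2 e.symm.toAlgHom
  let q := Ideal.Quotient.mk (I ^ 2)
  let h : A →+* A ⧸ I ^ 2 := g.toRingHom.comp (Ideal.Quotient.mk I)
  have hδ : ∀ a, q a - h a ∈ I.map q := by
    intro a
    rw [← hJ, ← Ideal.Quotient.eq]
    have : Ideal.Quotient.mk J (g (Ideal.Quotient.mk I a)) = e.symm (Ideal.Quotient.mk I a) :=
      DFunLike.congr_fun hg _
    show Ideal.Quotient.mk J (q a) = Ideal.Quotient.mk J (g (Ideal.Quotient.mk I a))
    rw [this, eq_comm, AlgEquiv.symm_apply_eq]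
    rfl
  have key : ∀ x ∈ m ^ 2, q x - h x ∈ (m * I).map q := by
    intro x hx
    rw [pow_two] at hx
    induction hx using Submodule.mul_induction_on' with
    | mem_mul_mem a ha b hb =>
      have : q (a * b) - h (a * b) = q a * (q b - h b) + h b * (q a - h a) := by
        rw [map_mul, map_mul]; ring
      rw [this, Ideal.map_mul]
      refine add_mem (Ideal.mul_mem_mul (Ideal.mem_map_of_mem _ ha) (hδ b))
        (Ideal.mul_mem_mul ?_ (hδ a))
      have := sub_mem (Ideal.mem_map_of_mem q hb) (Ideal.map_mono hIm (hδ b))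
      simpa using this
    | add a _ b _ iha ihb =>
      have : q (a + b) - h (a + b) = (q a - h a) + (q b - h b) := by rw [map_add, map_add]; ring
      rw [this]
      exact add_mem iha ihb
  have hle : I ≤ m * I := by
    intro x hx
    have h0 : h x = 0 := by
      show g (Ideal.Quotient.mk I x) = 0
      rw [Ideal.Quotient.eq_zero_iff_mem.mpr hx, map_zero]
    have := key x (hI hx)
    rw [h0, sub_zero, ← Ideal.mem_comap,
      Ideal.comap_map_of_surjective _ Ideal.Quotient.mk_surjective, ← RingHom.ker_eq_comap_bot,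
      Ideal.mk_ker] at this
    have hI2 : I ^ 2 ≤ m * I := by
      rw [pow_two]
      exact Ideal.mul_mono hIm le_rfl
    exact sup_le le_rfl hI2 this
  exact Submodule.eq_bot_of_le_smul_of_le_jacobson_bot m I hfg hle (maximalIdeal_le_jacobson ⊥)

/-- A nonzero reduced algebra of finite type over a perfect field is smooth at some maximal ideal. -/
theorem exists_maximal_isSmoothAt {K B : Type u} [Field K] [PerfectField K] [CommRing B] [Algebra K B]
    [Algebra.FiniteType K B] [IsReduced B] [Nontrivial B] :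
    ∃ q : Ideal B, ∃ _ : q.IsMaximal, Algebra.IsSmoothAt K q := by
  have : Algebra.FinitePresentation K B := Algebra.FinitePresentation.of_finiteType.mp ‹_›
  obtain ⟨⟨P, hP⟩⟩ := Ideal.nonempty_minimalPrimes (I := (⊥ : Ideal B)) bot_ne_top
  have : P.IsPrime := hP.1.1
  have : Ring.KrullDimLE 0 (Localization.AtPrime P) := by
    rw [Ring.krullDimLE_iff, IsLocalization.AtPrime.ringKrullDim_eq_height P,
      Ideal.height_eq_zero_iff.mpr hP]
    rfl
  have hF : IsField (Localization.AtPrime P) := Ring.KrullDimLE.isField_of_isReduced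
  let := hF.toField
  have : Algebra.EssFiniteType K (Localization.AtPrime P) :=
    .comp K B (Localization.AtPrime P)
  have : Algebra.IsSmoothAt K P := Algebra.FormallySmooth.of_perfectField
  obtain ⟨f, hf, hsm⟩ := Algebra.IsSmoothAt.exists_notMem_smooth K P
  have : IsJacobsonRing B := isJacobsonRing_of_finiteType (A := K)
  obtain ⟨q, hq, hfq⟩ : ∃ q : Ideal B, q.IsMaximal ∧ f ∉ q := by
    by_contra! h
    have : f ∈ (⊥ : Ideal B).jacobson := Ideal.mem_sInf.mpr fun {J} hJ => h J hJ.2
    rw [← Ideal.radical_eq_jacobson, Ideal.mem_radical_iff] at this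
    obtain ⟨n, hn⟩ := this
    exact hf (hP.1.1.mem_of_pow_mem n (Ideal.mem_bot.mp hn ▸ P.zero_mem))
  exact ⟨q, hq, (Algebra.basicOpen_subset_smoothLocus_iff_smooth.mpr hsm)
    (show (⟨q, hq.isPrime⟩ : PrimeSpectrum B) ∈ PrimeSpectrum.basicOpen f from hfq)⟩

open TrivSqZeroExt

/-- Nilpotents admitting a derivation with unit value vanish in characteristic zero. -/
theorem derivation_not_isUnit_of_nilpotent {A : Type u} [CommRing A] [Nontrivial A]
    (hN : ∀ n : ℕ, n ≠ 0 → IsUnit (n : A))
    (ψ : A →+* DualNumber A) (hψ : ∀ a, fst (ψ a) = a) {x : A} (hx : IsNilpotent x) :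
    ¬ IsUnit (snd (ψ x)) := by
  classical
  intro hu
  have hn : x ^ Nat.find hx = 0 := Nat.find_spec hx
  rcases Nat.eq_zero_or_pos (Nat.find hx) with h | h
  · rw [h, pow_zero] at hn
    exact one_ne_zero hn
  · have h1 : snd (ψ x ^ Nat.find hx) = 0 := by rw [← map_pow, hn, map_zero, snd_zero]
    rw [snd_pow, hψ, smul_eq_mul, nsmul_eq_mul, ← _root_.mul_assoc, hu.mul_left_eq_zero] at h1
    rw [(hN _ h.ne').mul_right_eq_zero] at h1
    have := Nat.find_le (h := hx) (n := (Nat.find hx).pred) h1
    exact absurd this (Nat.not_le.mpr (Nat.pred_lt h.ne'))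

end GrothLib.GrpSchField
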