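import Groth.Agent.Lib.GrpSchField.Smooth
import Groth.Agent.Lib.GrpSchField.CartierAlg
import Mathlib.RingTheory.LocalRing.ResidueField.Basic
import Mathlib.LinearAlgebra.Dual.Lemmas

/-!
Cartier's theorem: group schemes locally of finite type over a field of characteristic zero are smooth.
-/

open CategoryTheory CategoryTheory.Limits MonoidalCategory CartesianMonoidalCategory MonObj GrpObj
open AlgebraicGeometry

namespace GrothLib.GrpSchField

universe u

open TrivSqZeroExt

variable {K : Type u} [Field K]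

/-- Functoriality of dual numbers in the coefficient algebra. -/
def dualMap {A B : Type u} [CommRing A] [CommRing B] [Algebra K A] [Algebra K B] (f : A →ₐ[K] B) :
    DualNumber A →ₐ[K] DualNumber B where
  toFun r := inl (f r.fst) + inr (f r.snd)
  map_one' := by ext <;> simp
  map_mul' r s := by ext <;> simp [mul_comm]
  map_zero' := by ext <;> simp
  map_add' r s := by ext <;> simp
  commutes' c := by ext <;> simp [algebraMap_eq_inl']

@[simp]
theorem fst_dualMap {A B : Type u} [CommRing A] [CommRing B] [Algebra K A] [Algebra K B]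
    (f : A →ₐ[K] B) (r : DualNumber A) : fst (dualMap f r) = f r.fst := by
  simp [dualMap]

@[simp]
theorem snd_dualMap {A B : Type u} [CommRing A] [CommRing B] [Algebra K A] [Algebra K B]
    (f : A →ₐ[K] B) (r : DualNumber A) : snd (dualMap f r) = f r.snd := by
  simp [dualMap]

/-- The spectrum of an algebra as an object over the base field. -/
noncomputable abbrev specOver (K : Type u) [Field K] (C : Type u) [CommRing C] [Algebra K C] :
    Over (Spec (CommRingCat.of K)) :=
  Over.mk (Spec.map (CommRingCat.ofHom (algebraMap K C)))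

/-- The morphism of spectra over the base field of an algebra homomorphism. -/
noncomputable def sMap {C D : Type u} [CommRing C] [Algebra K C] [CommRing D] [Algebra K D]
    (f : C →ₐ[K] D) : specOver K D ⟶ specOver K C :=
  Over.homMk (Spec.map (CommRingCat.ofHom (f : C →+* D))) (by
    simp only [Over.mk_hom, ← Spec.map_comp, ← CommRingCat.ofHom_comp]
    rw [AlgHom.comp_algebraMap])

theorem sMap_comp {C D E : Type u} [CommRing C] [Algebra K C] [CommRing D] [Algebra K D]
    [CommRing E] [Algebra K E] (f : C →ₐ[K] D) (g : D →ₐ[K] E) :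
    sMap g ≫ sMap f = sMap (g.comp f) :=
  Over.OverMorphism.ext (by
    simp only [sMap, Over.comp_left, Over.homMk_left, ← Spec.map_comp, ← CommRingCat.ofHom_comp]
    rfl)

/-- Every point of the spectrum of dual numbers comes from the reduction. -/
theorem surjective_specMap_fst (A : Type u) [CommRing A] [Algebra K A] :
    Function.Surjective
      (Spec.map (CommRingCat.ofHom ((TrivSqZeroExt.fstHom K A A : DualNumber A →ₐ[K] A) :
        DualNumber A →+* A))) := by
  intro p
  refine ⟨PrimeSpectrum.comap (TrivSqZeroExt.inlHom A A) p, PrimeSpectrum.ext (Ideal.ext fun r => ?_)⟩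
  show (inl r.fst : DualNumber A) ∈ p.asIdeal ↔ r ∈ p.asIdeal
  have h : (inr r.snd : DualNumber A) ∈ p.asIdeal :=
    p.2.mem_of_pow_mem 2 (by rw [pow_two, inr_mul_inr]; exact zero_mem _)
  constructor
  · intro h'
    have := add_mem h' h
    rwa [inl_fst_add_inr_snd_eq] at this
  · intro h'
    simpa [inl_fst_add_inr_snd_eq] using (show r - inr r.snd = inl r.fst by
      rw [sub_eq_iff_eq_add, inl_fst_add_inr_snd_eq]) ▸ sub_mem h' h

/-- In characteristic zero, nilpotents at a rational point of a group scheme lie in `m²`. -/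
theorem nilpotent_mem_sq [CharZero K] (G : Over (Spec (CommRingCat.of K))) [GrpObj G]
    {B : Type u} [CommRing B] [Algebra K B] (j : Spec (CommRingCat.of B) ⟶ G.left) [IsOpenImmersion j]
    (hj : j ≫ G.hom = Spec.map (CommRingCat.ofHom (algebraMap K B)))
    (q : Ideal B) [q.IsMaximal] (evB : B →ₐ[K] K) (hev : RingHom.ker evB = q)
    (A : Type u) [CommRing A] [Algebra B A] [Algebra K A] [IsScalarTower K B A]
    [IsLocalization.AtPrime A q] [IsLocalRing A]
    {x : A} (hx : IsNilpotent x) :
    x ∈ IsLocalRing.maximalIdeal A ^ 2 := by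
  set m := IsLocalRing.maximalIdeal A with hm
  have hunit : ∀ b : q.primeCompl, IsUnit (evB b) := fun b =>
    isUnit_iff_ne_zero.mpr fun h => b.2 (hev ▸ h)
  let ev : A →ₐ[K] K := IsLocalization.liftAlgHom hunit
  have hev_eq : ∀ b, ev (algebraMap B A b) = evB b := fun b => IsLocalization.lift_eq _ _
  have hker : RingHom.ker (ev : A →+* K) = m :=
    IsLocalRing.eq_maximalIdeal (RingHom.ker_isMaximal_of_surjective _
      fun c => ⟨algebraMap K A c, ev.commutes c⟩)
  have hsub : ∀ a : A, a - algebraMap K A (ev a) ∈ m := fun a => by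
    rw [← hker, RingHom.mem_ker]; simp
  by_contra hxm
  have hev0 : ev x = 0 := (hx.map ev).eq_zero
  have hxW : x ∉ Submodule.span K {(1 : A)} ⊔ (m ^ 2).restrictScalars K := by
    intro h
    obtain ⟨a, ha, b, hb, rfl⟩ := Submodule.mem_sup.mp h
    obtain ⟨c, rfl⟩ := Submodule.mem_span_singleton.mp ha
    have hb0 : ev b = 0 := by
      rw [← RingHom.mem_ker]; exact hker ▸ Ideal.pow_le_self two_ne_zero hb
    rw [map_add, hb0, map_smul, map_one, smul_eq_mul, _root_.mul_one, add_zero] at hev0
    subst hev0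
    exact hxm (by simpa using hb)
  obtain ⟨v₀, hv₀x, hv₀⟩ := Submodule.exists_dual_map_eq_bot_of_notMem hxW inferInstance
  let v : A →ₗ[K] K := (v₀ x)⁻¹ • v₀
  have hvx : v x = 1 := inv_mul_cancel₀ hv₀x
  have hvW : ∀ w ∈ Submodule.span K {(1 : A)} ⊔ (m ^ 2).restrictScalars K, v w = 0 := fun w hw => by
    have : v₀ w ∈ (Submodule.span K {(1 : A)} ⊔ (m ^ 2).restrictScalars K).map v₀ :=
      ⟨w, hw, rfl⟩
    rw [hv₀, Submodule.mem_bot] at this
    simp [v, this]
  have hv1 : ∀ c : K, v (algebraMap K A c) = 0 := fun c => hvW _ (Submodule.mem_sup_left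
    (Submodule.mem_span_singleton.mpr ⟨c, (Algebra.algebraMap_eq_smul_one c).symm⟩))
  have hvmul : ∀ a b, v (a * b) = ev a * v b + ev b * v a := by
    intro a b
    have h2 : v ((a - algebraMap K A (ev a)) * (b - algebraMap K A (ev b))) = 0 :=
      hvW _ (Submodule.mem_sup_right (show _ ∈ m ^ 2 from by
        rw [pow_two]; exact Ideal.mul_mem_mul (hsub a) (hsub b)))
    have e : (a - algebraMap K A (ev a)) * (b - algebraMap K A (ev b)) =
        a * b - ev a • b - ev b • a + algebraMap K A (ev a * ev b) := by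
      rw [Algebra.smul_def, Algebra.smul_def, map_mul]; ring
    rw [e, map_add, map_sub, map_sub, map_smul, map_smul, hv1, add_zero, smul_eq_mul,
      smul_eq_mul] at h2
    linear_combination h2
  let t : A →ₐ[K] DualNumber K :=
    AlgHom.ofLinearMap
      ((TrivSqZeroExt.inlAlgHom K K K).toLinearMap ∘ₗ ev.toLinearMap +
        TrivSqZeroExt.inrHom K K ∘ₗ v)
      (by
        have h := hv1 1
        rw [map_one] at h
        ext <;> simp [h])
      (fun a b => by ext <;> simp [hvmul, mul_comm])
  have ht_fst : ∀ a, fst (t a) = ev a := fun a => by simp [t]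
  have ht_snd : ∀ a, snd (t a) = v a := fun a => by simp [t]
  let toA : B →ₐ[K] A := IsScalarTower.toAlgHom K B A
  let jo : specOver K B ⟶ G := Over.homMk j hj
  let ιA : specOver K A ⟶ G := sMap toA ≫ jo
  let yc (C : Type u) [CommRing C] [Algebra K C] : specOver K C ⟶ G :=
    sMap ((Algebra.ofId K C).comp ev) ≫ ιA
  have hyc : ∀ {C D : Type u} [CommRing C] [Algebra K C] [CommRing D] [Algebra K D]
      (f : C →ₐ[K] D), sMap f ≫ yc C = yc D := by
    intro C D _ _ _ _ f
    rw [← Category.assoc, sMap_comp]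
    congr 2
    exact AlgHom.ext fun a => f.commutes _
  let inlA : A →ₐ[K] DualNumber A := TrivSqZeroExt.inlAlgHom K A A
  let fstA : DualNumber A →ₐ[K] A := TrivSqZeroExt.fstHom K A A
  let φ : specOver K (DualNumber A) ⟶ G :=
    (sMap inlA ≫ ιA) * (yc (DualNumber A))⁻¹ * (sMap (dualMap (Algebra.ofId K A)) ≫ sMap t ≫ ιA)
  have hfst : sMap fstA ≫ φ = ιA := by
    simp only [φ, MonObj.comp_mul, GrpObj.comp_inv, hyc, ← Category.assoc, sMap_comp]
    have e1 : fstA.comp inlA = AlgHom.id K A := AlgHom.ext fun a => by simp [fstA, inlA]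
    have e2 : fstA.comp ((dualMap (Algebra.ofId K A)).comp t) = (Algebra.ofId K A).comp ev :=
      AlgHom.ext fun a => by simp [fstA, ht_fst]
    rw [e1, e2, show sMap (AlgHom.id K A) = 𝟙 _ from Over.OverMorphism.ext (Spec.map_id _),
      Category.id_comp, inv_mul_cancel_right]
  have hev' : sMap (dualMap ev) ≫ φ = sMap t ≫ ιA := by
    simp only [φ, MonObj.comp_mul, GrpObj.comp_inv, hyc, ← Category.assoc, sMap_comp]
    have e1 : (dualMap ev).comp inlA = (Algebra.ofId K (DualNumber K)).comp ev :=
      AlgHom.ext fun a => by ext <;> simp [inlA, algebraMap_eq_inl']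
    have e2 : (dualMap ev).comp ((dualMap (Algebra.ofId K A)).comp t) = t :=
      AlgHom.ext fun a => by ext <;> simp
    rw [e1, e2]
    simp [yc, mul_inv_cancel]
  have hrange : Set.range φ.left ⊆ Set.range j := by
    rintro _ ⟨p, rfl⟩
    obtain ⟨p, rfl⟩ := surjective_specMap_fst (K := K) A p
    refine ⟨(Spec.map (CommRingCat.ofHom (toA : B →+* A))) p, ?_⟩
    have := congrArg (fun f => f.left p) hfst
    simpa [ιA, jo, sMap, fstA] using this.symm
  let ψ₀ := (Spec.preimage (IsOpenImmersion.lift j φ.left hrange)).hom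
  have hψ₀ : Spec.map (CommRingCat.ofHom ψ₀) ≫ j = φ.left := by
    simp [ψ₀]
  have hψ₀_fst : (fstA : DualNumber A →+* A).comp ψ₀ = algebraMap B A := by
    have h := congrArg (fun f => f.left) hfst
    simp only [Over.comp_left, sMap, Over.homMk_left, ιA, jo] at h
    rw [← hψ₀, ← Category.assoc, cancel_mono, ← Spec.map_comp, ← CommRingCat.ofHom_comp] at h
    exact congrArg (fun f => f.hom) (Spec.map_injective h)
  have hψ₀_ev : (dualMap ev : DualNumber A →+* DualNumber K).comp ψ₀ =
      (t : A →+* DualNumber K).comp (algebraMap B A) := by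
    have h := congrArg (fun f => f.left) hev'
    simp only [Over.comp_left, sMap, Over.homMk_left, ιA, jo] at h
    rw [← hψ₀, ← Category.assoc, ← Category.assoc, cancel_mono, ← Spec.map_comp, ← Spec.map_comp,
      ← CommRingCat.ofHom_comp, ← CommRingCat.ofHom_comp] at h
    exact congrArg (fun f => f.hom) (Spec.map_injective h)
  have hψu : ∀ b : q.primeCompl, IsUnit (ψ₀ b) := fun b =>
    TrivSqZeroExt.isUnit_iff_isUnit_fst.mpr (by
      have := DFunLike.congr_fun hψ₀_fst (b : B)
      rw [show fst (ψ₀ b) = algebraMap B A b from this]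
      exact IsLocalization.map_units A b)
  let ψ : A →+* DualNumber A := IsLocalization.lift hψu
  have hψ_fst : ∀ a, fst (ψ a) = a := by
    have : (fstA : DualNumber A →+* A).comp ψ = RingHom.id A :=
      IsLocalization.ringHom_ext q.primeCompl (by
        rw [RingHom.comp_assoc, IsLocalization.lift_comp, hψ₀_fst, RingHom.id_comp])
    exact DFunLike.congr_fun this
  have hψ_ev : ∀ a, dualMap ev (ψ a) = t a := by
    have : (dualMap ev : DualNumber A →+* DualNumber K).comp ψ = (t : A →+* DualNumber K) :=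
      IsLocalization.ringHom_ext q.primeCompl (by
        rw [RingHom.comp_assoc, IsLocalization.lift_comp, hψ₀_ev])
    exact DFunLike.congr_fun this
  have h1 : ev (snd (ψ x)) = 1 := by
    rw [← snd_dualMap, hψ_ev, ht_snd, hvx]
  refine derivation_not_isUnit_of_nilpotent (fun n hn => ?_) ψ hψ_fst hx ?_
  · rw [← map_natCast (algebraMap K A)]
    exact (IsUnit.mk0 _ (Nat.cast_ne_zero.mpr hn)).map _
  by_contra h
  have : snd (ψ x) ∈ RingHom.ker (ev : A →+* K) := hker ▸ h
  exact one_ne_zero (h1.symm.trans this)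

/-- The nilradical vanishes near a smooth point of the reduction. -/
theorem exists_smooth_away [CharZero K] [IsAlgClosed K] (G : Over (Spec (CommRingCat.of K)))
    [GrpObj G] {B : Type u} [CommRing B] [Algebra K B] [Algebra.FiniteType K B]
    (j : Spec (CommRingCat.of B) ⟶ G.left) [IsOpenImmersion j]
    (hj : j ≫ G.hom = Spec.map (CommRingCat.ofHom (algebraMap K B)))
    (q : Ideal (B ⧸ nilradical B)) [q.IsMaximal] [Algebra.IsSmoothAt K q] :
    ∃ f : B, ¬ IsNilpotent f ∧ Algebra.Smooth K (Localization.Away f) := by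
  set p := q.comap (Ideal.Quotient.mk (nilradical B)) with hp
  have : p.IsMaximal := Ideal.comap_isMaximal_of_surjective _ Ideal.Quotient.mk_surjective
  have : IsJacobsonRing B := isJacobsonRing_of_finiteType (A := K)
  have : Algebra.FinitePresentation K B := Algebra.FinitePresentation.of_finiteType.mp ‹_›
  have : IsNoetherianRing B := Algebra.FiniteType.isNoetherianRing K B
  let := Ideal.Quotient.field p
  have : Module.Finite K (B ⧸ p) := finite_of_finite_type_of_isJacobsonRing K (B ⧸ p)
  let e : K ≃ₐ[K] B ⧸ p := AlgEquiv.ofBijective (Algebra.ofId K (B ⧸ p))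
    (IsAlgClosed.algebraMap_bijective_of_isIntegral (k := K) (K := B ⧸ p))
  let evB : B →ₐ[K] K := e.symm.toAlgHom.comp (Ideal.Quotient.mkₐ K p)
  have hev : RingHom.ker evB = p := Ideal.ext fun b => by
    simp [evB, RingHom.mem_ker, Ideal.Quotient.eq_zero_iff_mem]
  let A := Localization.AtPrime p
  let I : Ideal A := (nilradical B).map (algebraMap B A)
  have hI : I ≤ IsLocalRing.maximalIdeal A ^ 2 := Ideal.map_le_iff_le_comap.mpr fun b hb =>
    nilpotent_mem_sq G j hj p evB hev A (IsNilpotent.map hb (algebraMap B A))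
  have : IsLocalization.AtPrime (A ⧸ I) q := by
    have h : Algebra.algebraMapSubmonoid (B ⧸ nilradical B) p.primeCompl = q.primeCompl := by
      ext y
      constructor
      · rintro ⟨b, hb, rfl⟩
        exact hb
      · intro hy
        obtain ⟨b, rfl⟩ := Ideal.Quotient.mk_surjective y
        exact ⟨b, hy, rfl⟩
    have : IsLocalization (Algebra.algebraMapSubmonoid (B ⧸ nilradical B) p.primeCompl) (A ⧸ I) :=
      inferInstance
    show IsLocalization q.primeCompl (A ⧸ I)
    rwa [← h]
  have : IsScalarTower K (B ⧸ nilradical B) (A ⧸ I) := IsScalarTower.of_algebraMap_eq' rfl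
  have : Algebra.FormallySmooth K (A ⧸ I) :=
    .of_equiv ((IsLocalization.algEquiv q.primeCompl (Localization.AtPrime q) (A ⧸ I)).restrictScalars K)
  have hbot : I = ⊥ := eq_bot_of_le_sq_of_formallySmooth (R := K) I
    (Ideal.FG.map (IsNoetherian.noetherian (nilradical B)) _) hI
  have : Algebra.IsSmoothAt K p :=
    .of_equiv ((Ideal.quotientEquivAlgOfEq K hbot).trans (AlgEquiv.quotientBot K A))
  obtain ⟨f, hf, hsm⟩ := Algebra.IsSmoothAt.exists_notMem_smooth K p
  exact ⟨f, fun ⟨n, hn⟩ => hf ((inferInstance : p.IsPrime).mem_of_pow_mem n (hn ▸ p.zero_mem)), hsm⟩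

/-- Cartier: in characteristic zero over an algebraically closed field a group scheme has a nonempty
smooth open subscheme. -/
theorem exists_smooth_open_of_charZero [CharZero K] [IsAlgClosed K]
    (G : Over (Spec (CommRingCat.of K))) [GrpObj G] [LocallyOfFiniteType G.hom] :
    ∃ (U : Scheme.{u}) (j : U ⟶ G.left),
      IsOpenImmersion j ∧ Nonempty U ∧ Smooth (j ≫ G.hom) := by
  obtain ⟨_, ⟨V, hV, rfl⟩, heV, -⟩ := G.left.isBasis_affineOpens.exists_subset_of_mem_open
    (Set.mem_univ (η[G].left (IsLocalRing.closedPoint K))) isOpen_univ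
  let κ : CommRingCat.of K ⟶ Γ(G.left, V) := Spec.preimage (hV.fromSpec ≫ G.hom)
  let : Algebra K Γ(G.left, V) := κ.hom.toAlgebra
  have hj : hV.fromSpec ≫ G.hom = Spec.map (CommRingCat.ofHom (algebraMap K Γ(G.left, V))) :=
    (Spec.map_preimage _).symm
  have : LocallyOfFiniteType (Spec.map κ) := by rw [Spec.map_preimage]; infer_instance
  have : Algebra.FiniteType K Γ(G.left, V) :=
    (HasRingHomProperty.Spec_iff (P := @LocallyOfFiniteType)).mp this
  have : Algebra.FinitePresentation K Γ(G.left, V) :=
    Algebra.FinitePresentation.of_finiteType.mp ‹_›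
  have : Nontrivial Γ(G.left, V) := by
    have : Nonempty (Spec Γ(G.left, V)) := ⟨hV.primeIdealOf ⟨_, heV⟩⟩
    exact PrimeSpectrum.nonempty_iff_nontrivial.mp this
  have : Nontrivial (Γ(G.left, V) ⧸ nilradical Γ(G.left, V)) :=
    Ideal.Quotient.nontrivial_iff.mpr fun h => not_isUnit_zero (M₀ := Γ(G.left, V)) (by
      obtain ⟨n, hn⟩ : IsNilpotent (1 : Γ(G.left, V)) := by
        rw [← mem_nilradical, h]; exact Submodule.mem_top
      exact absurd ((one_pow n).symm.trans hn) one_ne_zero)
  have : IsReduced (Γ(G.left, V) ⧸ nilradical Γ(G.left, V)) :=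
    (Ideal.isRadical_iff_quotient_reduced _).mp (Ideal.radical_isRadical _)
  obtain ⟨q, _, hq⟩ := exists_maximal_isSmoothAt (K := K) (B := Γ(G.left, V) ⧸ nilradical Γ(G.left, V))
  obtain ⟨f, hf, hsm⟩ : ∃ f : Γ(G.left, V), ¬ IsNilpotent f ∧
      Algebra.Smooth K (Localization.Away f) :=
    exists_smooth_away G hV.fromSpec hj q
  refine ⟨_, Spec.map (CommRingCat.ofHom (algebraMap Γ(G.left, V) (Localization.Away f))) ≫ hV.fromSpec,
    inferInstance, ?_, ?_⟩
  · have : Nontrivial (Localization.Away f) :=
      OreLocalization.nontrivial_iff.mpr fun h0 => hf h0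
    exact (inferInstance : Nonempty (PrimeSpectrum (Localization.Away f)))
  · rw [Category.assoc, hj, ← Spec.map_comp, ← CommRingCat.ofHom_comp,
      ← IsScalarTower.algebraMap_eq]
    exact (HasRingHomProperty.Spec_iff (P := @Smooth)).mpr (RingHom.smooth_algebraMap.mpr hsm)

end GrothLib.GrpSchField
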