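import Groth.Agent.Lib.GrpSchField.Field
import Groth.Agent.Lib.RedSub.Basic
import Mathlib.AlgebraicGeometry.Morphisms.Separated
import Mathlib.AlgebraicGeometry.Morphisms.ClosedImmersion
import Mathlib.CategoryTheory.Monoidal.Cartesian.Over

/-!
Consequences of schematic density of a set of points.
-/

universe u

open CategoryTheory Limits AlgebraicGeometry MonoidalCategory CartesianMonoidalCategory MonObj

namespace GrothLib.GrpSchField

variable {S : Scheme.{u}} {A P : Over S}

/-- `A` has schematically dense `P`-points. -/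
def DensePts (P A : Over S) : Prop :=
  ∀ (Z : Over S) (c : Z ⟶ A), IsClosedImmersion c.left → (∀ x : P ⟶ A, ∃ z : P ⟶ Z, z ≫ c = x) → IsIso c

theorem DensePts.hom_ext (hd : DensePts P A) {B : Over S} [IsSeparated B.hom] {f g : A ⟶ B}
    (h : ∀ x : P ⟶ A, x ≫ f = x ≫ g) : f = g := by
  have := hd (equalizer f g) (equalizer.ι f g) inferInstance
    (fun x => ⟨equalizer.lift x (h x), equalizer.lift_ι _ _⟩)
  exact (cancel_epi (equalizer.ι f g)).mp (equalizer.condition f g)

theorem DensePts.exists_factor (hd : DensePts P A) {B C : Over S} (i : B ⟶ C) [IsClosedImmersion i.left]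
    (f : A ⟶ C) (h : ∀ x : P ⟶ A, ∃ b : P ⟶ B, x ≫ f = b ≫ i) : ∃ l : A ⟶ B, l ≫ i = f := by
  let Z : Over S := Over.mk (pullback.fst f.left i.left ≫ A.hom)
  let c : Z ⟶ A := Over.homMk (pullback.fst f.left i.left) rfl
  have : IsClosedImmersion c.left := inferInstanceAs (IsClosedImmersion (pullback.fst f.left i.left))
  have := hd Z c this fun x => by
    obtain ⟨b, hb⟩ := h x
    refine ⟨Over.homMk (pullback.lift x.left b.left congr($(hb).left)) ?_, Over.OverMorphism.ext (pullback.lift_fst _ _ _)⟩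
    show pullback.lift x.left b.left _ ≫ pullback.fst f.left i.left ≫ A.hom = P.hom
    rw [pullback.lift_fst_assoc, Over.w x]
  let r : Z ⟶ B := Over.homMk (pullback.snd f.left i.left) (by
    show pullback.snd f.left i.left ≫ B.hom = pullback.fst f.left i.left ≫ A.hom
    rw [← Over.w i, ← Category.assoc, ← pullback.condition, Category.assoc, Over.w f])
  refine ⟨inv c ≫ r, ?_⟩
  rw [Category.assoc, IsIso.inv_comp_eq]
  exact Over.OverMorphism.ext pullback.condition.symm

theorem DensePts.isReduced (hd : DensePts P A) [IsReduced P.left] : IsReduced A.left := by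
  let I := Scheme.IdealSheafData.vanishingIdeal (⊤ : TopologicalSpace.Closeds A.left)
  have : IsReduced I.subscheme := RedSub.isReduced_subscheme_vanishingIdeal _
  let Z : Over S := Over.mk (I.subschemeι ≫ A.hom)
  let c : Z ⟶ A := Over.homMk I.subschemeι rfl
  have : IsIso c := hd Z c (inferInstanceAs (IsClosedImmersion I.subschemeι)) fun x => by
    obtain ⟨l, hl⟩ := RedSub.exists_lift x.left I.subschemeι (by
      rw [RedSub.range_subschemeι_vanishingIdeal]; exact Set.subset_univ _)
    exact ⟨Over.homMk l (by show l ≫ I.subschemeι ≫ A.hom = P.hom; rw [reassoc_of% hl, Over.w x]), Over.OverMorphism.ext hl⟩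
  have : IsIso I.subschemeι := inferInstanceAs (IsIso ((Over.forget S).map c))
  exact isReduced_of_isOpenImmersion (inv I.subschemeι)

variable {k : Type u} [Field k] {P : Over (Spec (CommRingCat.of k))} {G H : Over (Spec (CommRingCat.of k))}
  [GrpObj G] [GrpObj H]

theorem DensePts.centralizes (hd : DensePts P H) (i : H ⟶ G) (g : 𝟙_ _ ⟶ G)
    (h : ∀ x : P ⟶ H, (toUnit P ≫ g) * (x ≫ i) = (x ≫ i) * (toUnit P ≫ g)) {X' : Over (Spec (CommRingCat.of k))}
    (y : X' ⟶ H) : (toUnit X' ≫ g) * (y ≫ i) = (y ≫ i) * (toUnit X' ≫ g) := by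
  have : IsSeparated G.hom := isSeparated G
  have key : (toUnit H ≫ g) * i = i * (toUnit H ≫ g) := hd.hom_ext fun x => by
    rw [MonObj.comp_mul, MonObj.comp_mul, ← Category.assoc, Subsingleton.elim (x ≫ toUnit H) (toUnit P)]
    exact h x
  have := congrArg (y ≫ ·) key
  simp only [MonObj.comp_mul, ← Category.assoc, Subsingleton.elim (y ≫ toUnit H) (toUnit X')] at this
  exact this

theorem DensePts.normalizes (hd : DensePts P H) (i : H ⟶ G) [IsClosedImmersion i.left] (g : 𝟙_ _ ⟶ G)
    (h : ∀ x : P ⟶ H, ∃ x' : P ⟶ H, (toUnit P ≫ g) * (x ≫ i) * (toUnit P ≫ g)⁻¹ = x' ≫ i)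
    {X' : Over (Spec (CommRingCat.of k))} (y : X' ⟶ H) :
    ∃ y' : X' ⟶ H, (toUnit X' ≫ g) * (y ≫ i) * (toUnit X' ≫ g)⁻¹ = y' ≫ i := by
  obtain ⟨l, hl⟩ := hd.exists_factor i ((toUnit H ≫ g) * i * (toUnit H ≫ g)⁻¹) fun x => by
    rw [MonObj.comp_mul, MonObj.comp_mul, GrpObj.comp_inv, ← Category.assoc,
      Subsingleton.elim (x ≫ toUnit H) (toUnit P)]
    exact h x
  refine ⟨y ≫ l, ?_⟩
  rw [Category.assoc, hl, MonObj.comp_mul, MonObj.comp_mul, GrpObj.comp_inv, ← Category.assoc,
    Subsingleton.elim (y ≫ toUnit H) (toUnit X')]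

end GrothLib.GrpSchField
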