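import Groth.Agent.Lib.GrpSchField.TensorDomain
import Groth.Agent.Lib.GrpSchField.Points
import Mathlib.AlgebraicGeometry.Morphisms.UniversallyOpen
import Mathlib.AlgebraicGeometry.PullbackCarrier
import Mathlib.AlgebraicGeometry.Morphisms.Flat
import Mathlib.CategoryTheory.Monoidal.Cartesian.Over
import Mathlib.AlgebraicGeometry.Stalk
import Mathlib.FieldTheory.IsAlgClosed.AlgebraicClosure
import Mathlib.RingTheory.Ideal.MinimalPrime.Basic

/-!
In a group scheme over a field the generalizations of any point are directed: the irreducible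
components are disjoint and every local ring has a unique minimal prime.
-/

open CategoryTheory CategoryTheory.Limits MonoidalCategory CartesianMonoidalCategory MonObj GrpObj
open AlgebraicGeometry

namespace GrothLib.GrpSchField

universe u

/-- A pairing `X₁ ×_L X₂ → Y` over an algebraically closed field which restricts to `π₁`, `π₂` on
`X₁ × e₂` and `e₁ × X₂`: generalizations of the base points have a common generalization in `Y`. -/
theorem exists_common_generization_of_pairing {L : Type u} [Field L] [IsAlgClosed L]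
    {X₁ X₂ Y : Scheme.{u}} (a₁ : X₁ ⟶ Spec (CommRingCat.of L)) (a₂ : X₂ ⟶ Spec (CommRingCat.of L))
    (e₁ : Spec (CommRingCat.of L) ⟶ X₁) (he₁ : e₁ ≫ a₁ = 𝟙 _)
    (e₂ : Spec (CommRingCat.of L) ⟶ X₂) (he₂ : e₂ ≫ a₂ = 𝟙 _)
    (π₁ : X₁ ⟶ Y) (π₂ : X₂ ⟶ Y) (m : pullback a₁ a₂ ⟶ Y)
    (h1 : pullback.lift (𝟙 X₁) (a₁ ≫ e₂) (by simp [he₂]) ≫ m = π₁)
    (h2 : pullback.lift (a₂ ≫ e₁) (𝟙 X₂) (by simp [he₁]) ≫ m = π₂)
    {y₁ : X₁} {y₂ : X₂} (hy₁ : y₁ ⤳ e₁ default) (hy₂ : y₂ ⤳ e₂ default) :
    ∃ z : Y, z ⤳ π₁ y₁ ∧ z ⤳ π₂ y₂ := by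
  let i₁ := X₁.fromSpecResidueField y₁
  let i₂ := X₂.fromSpecResidueField y₂
  -- a lift of a generalization, inside the fibre of the first projection over `y₁`
  obtain ⟨q, hq, hq₁, hq₂⟩ : ∃ q : ↥(pullback a₁ a₂), m q ⤳ π₁ y₁ ∧
      pullback.fst a₁ a₂ q = y₁ ∧ pullback.snd a₁ a₂ q = y₂ := by
    let π := pullback.snd (i₁ ≫ a₁) a₂
    let F : pullback (i₁ ≫ a₁) a₂ ⟶ pullback a₁ a₂ :=
      pullback.lift (pullback.fst _ _ ≫ i₁) π (by rw [Category.assoc]; exact pullback.condition)
    let σ : Spec (X₁.residueField y₁) ⟶ pullback (i₁ ≫ a₁) a₂ :=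
      pullback.lift (𝟙 _) ((i₁ ≫ a₁) ≫ e₂) (by simp [he₂])
    have hσ : π (σ default) = e₂ default := by
      rw [← Scheme.Hom.comp_apply, pullback.lift_snd, Scheme.Hom.comp_apply]
      congr 1
      exact Subsingleton.elim _ _
    obtain ⟨q', hq', hπ⟩ := Flat.generalizingMap π (show y₂ ⤳ π (σ default) by rwa [hσ])
    refine ⟨F q', ?_, ?_, ?_⟩
    · have hF : σ ≫ F ≫ m = i₁ ≫ π₁ := by
        have : σ ≫ F = i₁ ≫ pullback.lift (𝟙 X₁) (a₁ ≫ e₂) (by simp [he₂]) := by
          apply pullback.hom_ext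
          · rw [Category.assoc, Category.assoc]
            erw [pullback.lift_fst, pullback.lift_fst, pullback.lift_fst_assoc]
            rw [Category.id_comp, Category.comp_id]
          · rw [Category.assoc, Category.assoc]
            erw [pullback.lift_snd, pullback.lift_snd, pullback.lift_snd]
            rw [Category.assoc]
        rw [← Category.assoc, this, Category.assoc, h1]
      have hm : m (F (σ default)) = π₁ y₁ := by
        rw [show m (F (σ default)) = (σ ≫ F ≫ m) default from rfl, hF, Scheme.Hom.comp_apply,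
          Scheme.fromSpecResidueField_apply]
      have := (hq'.map F.continuous).map m.continuous
      rw [hm] at this
      exact this
    · rw [← Scheme.Hom.comp_apply, pullback.lift_fst, Scheme.Hom.comp_apply,
        Scheme.fromSpecResidueField_apply]
    · rw [← Scheme.Hom.comp_apply, pullback.lift_snd]
      exact hπ
  obtain ⟨r, hr, hr₁, hr₂⟩ : ∃ r : ↥(pullback a₁ a₂), m r ⤳ π₂ y₂ ∧
      pullback.fst a₁ a₂ r = y₁ ∧ pullback.snd a₁ a₂ r = y₂ := by
    let π := pullback.fst a₁ (i₂ ≫ a₂)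
    let F : pullback a₁ (i₂ ≫ a₂) ⟶ pullback a₁ a₂ :=
      pullback.lift π (pullback.snd _ _ ≫ i₂) (by rw [Category.assoc]; exact pullback.condition)
    let σ : Spec (X₂.residueField y₂) ⟶ pullback a₁ (i₂ ≫ a₂) :=
      pullback.lift ((i₂ ≫ a₂) ≫ e₁) (𝟙 _) (by simp [he₁])
    have hσ : π (σ default) = e₁ default := by
      rw [← Scheme.Hom.comp_apply, pullback.lift_fst, Scheme.Hom.comp_apply]
      congr 1
      exact Subsingleton.elim _ _
    obtain ⟨q', hq', hπ⟩ := Flat.generalizingMap π (show y₁ ⤳ π (σ default) by rwa [hσ])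
    refine ⟨F q', ?_, ?_, ?_⟩
    · have hF : σ ≫ F ≫ m = i₂ ≫ π₂ := by
        have : σ ≫ F = i₂ ≫ pullback.lift (a₂ ≫ e₁) (𝟙 X₂) (by simp [he₁]) := by
          apply pullback.hom_ext
          · rw [Category.assoc, Category.assoc]
            erw [pullback.lift_fst, pullback.lift_fst, pullback.lift_fst]
            rw [Category.assoc]
          · rw [Category.assoc, Category.assoc]
            erw [pullback.lift_snd, pullback.lift_snd, pullback.lift_snd_assoc]
            rw [Category.id_comp, Category.comp_id]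
        rw [← Category.assoc, this, Category.assoc, h2]
      have hm : m (F (σ default)) = π₂ y₂ := by
        rw [show m (F (σ default)) = (σ ≫ F ≫ m) default from rfl, hF, Scheme.Hom.comp_apply,
          Scheme.fromSpecResidueField_apply]
      have := (hq'.map F.continuous).map m.continuous
      rw [hm] at this
      exact this
    · rw [← Scheme.Hom.comp_apply, pullback.lift_fst]
      exact hπ
    · rw [← Scheme.Hom.comp_apply, pullback.lift_snd, Scheme.Hom.comp_apply,
        Scheme.fromSpecResidueField_apply]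
  -- the points over `(y₁, y₂)` form an irreducible space
  let J := pullback.map (i₁ ≫ a₁) (i₂ ≫ a₂) a₁ a₂ i₁ i₂ (𝟙 _) (by simp) (by simp)
  have : IrreducibleSpace ↥(pullback (i₁ ≫ a₁) (i₂ ≫ a₂)) :=
    irreducibleSpace_pullback_spec (i₁ ≫ a₁) (i₂ ≫ a₂)
  have hmem : ∀ p : ↥(pullback a₁ a₂), pullback.fst a₁ a₂ p = y₁ → pullback.snd a₁ a₂ p = y₂ →
      p ∈ Set.range J := by
    intro p hp₁ hp₂
    rw [Scheme.Pullback.range_map]
    exact ⟨⟨default, by rw [Scheme.fromSpecResidueField_apply]; exact hp₁.symm⟩,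
      ⟨default, by rw [Scheme.fromSpecResidueField_apply]; exact hp₂.symm⟩⟩
  obtain ⟨q₀, rfl⟩ := hmem q hq₁ hq₂
  obtain ⟨r₀, rfl⟩ := hmem r hr₁ hr₂
  refine ⟨m (J (genericPoint _)), ?_, ?_⟩
  · exact (((genericPoint_specializes q₀).map J.continuous).map m.continuous).trans hq
  · exact (((genericPoint_specializes r₀).map J.continuous).map m.continuous).trans hr

/-- On a scheme over an algebraically closed field with a binary operation having a two-sided
rational unit, the generalizations of the unit are directed. -/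
theorem exists_common_generization_of_unit {L : Type u} [Field L] [IsAlgClosed L] {X : Scheme.{u}}
    (a : X ⟶ Spec (CommRingCat.of L)) (e : Spec (CommRingCat.of L) ⟶ X) (he : e ≫ a = 𝟙 _)
    (m : pullback a a ⟶ X)
    (h1 : pullback.lift (𝟙 X) (a ≫ e) (by simp [he]) ≫ m = 𝟙 X)
    (h2 : pullback.lift (a ≫ e) (𝟙 X) (by simp [he]) ≫ m = 𝟙 X)
    {y₁ y₂ : X} (hy₁ : y₁ ⤳ e default) (hy₂ : y₂ ⤳ e default) :
    ∃ z : X, z ⤳ y₁ ∧ z ⤳ y₂ :=
  exists_common_generization_of_pairing a a e he e he (𝟙 X) (𝟙 X) m h1 h2 hy₁ hy₂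

variable {K : Type u} [Field K] (G : Over (Spec (CommRingCat.of K))) [GrpObj G]

/-- After base change to an algebraically closed field the generalizations of a rational point of
a group scheme are directed. -/
theorem exists_common_generization_baseChange {L : Type u} [Field L] [IsAlgClosed L]
    (b : Spec (CommRingCat.of L) ⟶ Spec (CommRingCat.of K)) (g : Over.mk b ⟶ G)
    {y₁ y₂ : ↥(Over.mk b ⊗ G).left}
    (hy₁ : y₁ ⤳ (lift (𝟙 (Over.mk b)) g).left (default : Spec (CommRingCat.of L)))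
    (hy₂ : y₂ ⤳ (lift (𝟙 (Over.mk b)) g).left (default : Spec (CommRingCat.of L))) :
    ∃ z, z ⤳ y₁ ∧ z ⤳ y₂ := by
  let A : Over (Spec (CommRingCat.of K)) := Over.mk b
  let a : (A ⊗ G).left ⟶ Spec (CommRingCat.of L) := (fst A G).left
  let π : (A ⊗ G).left ⟶ G.left := (snd A G).left
  let ε : A ⟶ A ⊗ G := lift (𝟙 A) g
  have he : ε.left ≫ a = 𝟙 _ := congrArg CommaMorphism.left (lift_fst (𝟙 A) g)
  have haw : a ≫ A.hom = (A ⊗ G).hom := Over.w (fst A G)
  let P : Over (Spec (CommRingCat.of K)) := Over.mk (pullback.fst a a ≫ (A ⊗ G).hom)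
  let p₁ : P ⟶ A ⊗ G := Over.homMk (pullback.fst a a) rfl
  let p₂ : P ⟶ A ⊗ G := Over.homMk (pullback.snd a a) (by
    simp only [P, Over.mk_hom]
    rw [← haw]
    exact (pullback.condition_assoc _).symm)
  let m : P ⟶ A ⊗ G := lift (p₁ ≫ fst A G)
    ((p₁ ≫ snd A G) * ((p₁ ≫ fst A G) ≫ g)⁻¹ * (p₂ ≫ snd A G))
  have hp : p₁ ≫ fst A G = p₂ ≫ fst A G := Over.OverMorphism.ext pullback.condition
  let i₁ : A ⊗ G ⟶ P := Over.homMk (pullback.lift (𝟙 _) (a ≫ ε.left) (by rw [Category.id_comp, Category.assoc, he]; exact (Category.comp_id a).symm))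
    (by simp only [P, Over.mk_hom]; erw [pullback.lift_fst_assoc]; exact Category.id_comp _)
  have hi₁₁ : i₁ ≫ p₁ = 𝟙 _ := Over.OverMorphism.ext (pullback.lift_fst _ _ _)
  have hi₁₂ : i₁ ≫ p₂ = fst A G ≫ ε := Over.OverMorphism.ext (pullback.lift_snd _ _ _)
  let i₂ : A ⊗ G ⟶ P := Over.homMk (pullback.lift (a ≫ ε.left) (𝟙 _) (by rw [Category.id_comp, Category.assoc, he]; exact Category.comp_id a))
    (by
      simp only [P, Over.mk_hom]
      erw [pullback.lift_fst_assoc]
      rw [Category.assoc, Over.w ε]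
      exact haw)
  have hi₂₁ : i₂ ≫ p₁ = fst A G ≫ ε := Over.OverMorphism.ext (pullback.lift_fst _ _ _)
  have hi₂₂ : i₂ ≫ p₂ = 𝟙 _ := Over.OverMorphism.ext (pullback.lift_snd _ _ _)
  have hε₁ : ε ≫ fst A G = 𝟙 A := lift_fst _ _
  have hε₂ : ε ≫ snd A G = g := lift_snd _ _
  have h1 : i₁ ≫ m = 𝟙 _ := by
    simp only [m, comp_lift, MonObj.comp_mul, GrpObj.comp_inv, ← Category.assoc, hi₁₁, hi₁₂,
      Category.id_comp]
    rw [Category.assoc _ ε, hε₂, inv_mul_cancel_right, lift_fst_snd]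
  have h2 : i₂ ≫ m = 𝟙 _ := by
    simp only [m, comp_lift, MonObj.comp_mul, GrpObj.comp_inv, ← Category.assoc, hi₂₁, hi₂₂,
      Category.id_comp]
    rw [Category.assoc _ ε, Category.assoc _ ε, hε₁, hε₂, Category.comp_id, mul_inv_cancel,
      _root_.one_mul, lift_fst_snd]
  exact exists_common_generization_of_unit a ε.left he m.left
    (congrArg CommaMorphism.left h1) (congrArg CommaMorphism.left h2) hy₁ hy₂

/-- In a group scheme over a field any two generalizations of a point have a common generalization. -/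
theorem exists_common_generization {x y₁ y₂ : G.left} (h₁ : y₁ ⤳ x) (h₂ : y₂ ⤳ x) :
    ∃ z : G.left, z ⤳ y₁ ∧ z ⤳ y₂ := by
  let L := AlgebraicClosure (G.left.residueField x)
  let g₀ : Spec (CommRingCat.of L) ⟶ G.left :=
    Spec.map (CommRingCat.ofHom (algebraMap (G.left.residueField x) L)) ≫
      G.left.fromSpecResidueField x
  let A : Over (Spec (CommRingCat.of K)) := Over.mk (g₀ ≫ G.hom)
  let g : A ⟶ G := Over.homMk g₀ rfl
  let π : (A ⊗ G).left ⟶ G.left := (snd A G).left
  let ε : A ⟶ A ⊗ G := lift (𝟙 A) g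
  have hε₂ : ε ≫ snd A G = g := lift_snd _ _
  have hx : π (ε.left (default : Spec (CommRingCat.of L))) = x := by
    rw [← Scheme.Hom.comp_apply, ← Over.comp_left, hε₂]
    show g₀ default = x
    rw [Scheme.Hom.comp_apply, Scheme.fromSpecResidueField_apply]
  have : Flat π := inferInstanceAs (Flat (pullback.snd A.hom G.hom))
  obtain ⟨y₁', hy₁', rfl⟩ := Flat.generalizingMap π (show y₁ ⤳ π (ε.left (default : Spec (CommRingCat.of L))) by rwa [hx])
  obtain ⟨y₂', hy₂', rfl⟩ := Flat.generalizingMap π (show y₂ ⤳ π (ε.left (default : Spec (CommRingCat.of L))) by rwa [hx])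
  obtain ⟨z, hz₁, hz₂⟩ := exists_common_generization_baseChange G (g₀ ≫ G.hom) g hy₁' hy₂'
  exact ⟨π z, hz₁.map π.continuous, hz₂.map π.continuous⟩

/-- In a group scheme over a field the irreducible components are pairwise disjoint. -/
theorem irreducibleComponent_eq_of_mem {Z₁ Z₂ : Set G.left}
    (h₁ : Z₁ ∈ irreducibleComponents G.left) (h₂ : Z₂ ∈ irreducibleComponents G.left) {x : G.left}
    (hx₁ : x ∈ Z₁) (hx₂ : x ∈ Z₂) : Z₁ = Z₂ := by
  obtain ⟨c₁, hc₁⟩ := QuasiSober.sober h₁.1 (isClosed_of_mem_irreducibleComponents Z₁ h₁)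
  obtain ⟨c₂, hc₂⟩ := QuasiSober.sober h₂.1 (isClosed_of_mem_irreducibleComponents Z₂ h₂)
  obtain ⟨z, hz₁, hz₂⟩ := exists_common_generization G (hc₁.specializes hx₁) (hc₂.specializes hx₂)
  have hz : IsIrreducible (closure {z} : Set G.left) := isIrreducible_singleton.closure
  have e₁ : Z₁ = closure {z} := h₁.eq_of_le hz (by
    rw [← hc₁]
    exact hz₁.closure_subset)
  have e₂ : Z₂ = closure {z} := h₂.eq_of_le hz (by
    rw [← hc₂]
    exact hz₂.closure_subset)
  rw [e₁, e₂]

/-- Every point of a group scheme over a field lies on exactly one irreducible component. -/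
theorem existsUnique_irreducibleComponent (x : G.left) :
    ∃! Z : Set G.left, Z ∈ irreducibleComponents (G.left : Type u) ∧ x ∈ Z :=
  ⟨irreducibleComponent x,
    ⟨irreducibleComponent_mem_irreducibleComponents x, mem_irreducibleComponent⟩,
    fun _ hZ => irreducibleComponent_eq_of_mem G hZ.1
      (irreducibleComponent_mem_irreducibleComponents x) hZ.2 mem_irreducibleComponent⟩

/-- The local rings of a group scheme over a field have a unique minimal prime. -/
theorem minimalPrimes_stalk_subsingleton (x : G.left) :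
    (minimalPrimes (G.left.presheaf.stalk x)).Subsingleton := by
  intro p hp q hq
  rw [minimalPrimes_eq_minimals] at hp hq
  let P : PrimeSpectrum (G.left.presheaf.stalk x) := ⟨p, hp.1⟩
  let Q : PrimeSpectrum (G.left.presheaf.stalk x) := ⟨q, hq.1⟩
  let f := G.left.fromSpecStalk x
  have hP : f P ⤳ x := (Scheme.range_fromSpecStalk (x := x)).le ⟨P, rfl⟩
  have hQ : f Q ⤳ x := (Scheme.range_fromSpecStalk (x := x)).le ⟨Q, rfl⟩
  obtain ⟨z, hz₁, hz₂⟩ := exists_common_generization G hP hQ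
  obtain ⟨R, rfl⟩ := (Scheme.range_fromSpecStalk (x := x)).ge (hz₁.trans hP)
  let R' : PrimeSpectrum (G.left.presheaf.stalk x) := R
  have hRP : R' ≤ P := (PrimeSpectrum.le_iff_specializes R' P).mpr
    (f.isEmbedding.isInducing.specializes_iff.mp hz₁)
  have hRQ : R' ≤ Q := (PrimeSpectrum.le_iff_specializes R' Q).mpr
    (f.isEmbedding.isInducing.specializes_iff.mp hz₂)
  have e₁ : p = R'.asIdeal := hp.eq_of_le (y := R'.asIdeal) R'.2 hRP |>.symm
  have e₂ : q = R'.asIdeal := hq.eq_of_le (y := R'.asIdeal) R'.2 hRQ |>.symm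
  rw [e₁, e₂]

end GrothLib.GrpSchField
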