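import Groth.Agent.Lib.GrpSchField.GrpdDirected
import Groth.Agent.Lib.GrpSchField.Smooth
import Groth.Agent.Lib.AlgSp.SourceDescent
import Mathlib.AlgebraicGeometry.Morphisms.Finite
import Mathlib.FieldTheory.Perfect
import Mathlib.RingTheory.Etale.Field

/-!
A groupoid on a perfect field which is smooth somewhere is smooth everywhere.
-/

open CategoryTheory CategoryTheory.Limits AlgebraicGeometry

namespace GrothLib.GrpSchField

universe u

variable {k : Type u} [Field k] {S : Scheme.{u}} (G : Grpd.GroupoidScheme S)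
  (eU : G.U ≅ Spec (CommRingCat.of k))

/-- Closed points of a scheme locally of finite type over a perfect field are étale over it. -/
theorem etale_fromSpecResidueField [PerfectField k] {X : Scheme.{u}}
    (f : X ⟶ Spec (CommRingCat.of k)) [LocallyOfFiniteType f] {x : X} (hx : IsClosed ({x} : Set X)) :
    Etale (X.fromSpecResidueField x ≫ f) := by
  haveI : JacobsonSpace X := LocallyOfFiniteType.jacobsonSpace f
  have := isClosed_singleton_iff_isClosedImmersion.mp hx
  set φ := Spec.preimage (X.fromSpecResidueField x ≫ f)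
  have h : Spec.map φ = X.fromSpecResidueField x ≫ f := Spec.map_preimage _
  rw [← h]
  have hlft : LocallyOfFiniteType (Spec.map φ) := by rw [h]; infer_instance
  let : Algebra k (X.residueField x) := φ.hom.toAlgebra
  have : Algebra.FiniteType k (X.residueField x) :=
    (HasRingHomProperty.Spec_iff (P := @LocallyOfFiniteType)).mp hlft
  have : Module.Finite k (X.residueField x) := finite_of_finite_type_of_isJacobsonRing k (X.residueField x)
  have : Algebra.IsSeparable k (X.residueField x) := inferInstance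
  have : Algebra.FormallyEtale k (X.residueField x) := Algebra.FormallyEtale.of_isSeparable k (X.residueField x)
  have : Algebra.FinitePresentation k (X.residueField x) :=
    Algebra.FinitePresentation.of_finiteType.mp ‹_›
  have h' : Algebra.Etale k (X.residueField x) := ⟨inferInstance, inferInstance⟩
  exact (HasRingHomProperty.Spec_iff (P := @Etale)).mpr h'

set_option backward.isDefEq.respectTransparency.types false in
/-- Translations spread smoothness to every point. -/
theorem smooth_of_open_smooth_grpd [PerfectField k] [LocallyOfFiniteType G.s] [LocallyOfFiniteType G.t]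
    {R₀ : Scheme.{u}} (ρ : R₀ ⟶ G.R) [IsClosedImmersion ρ] [Surjective ρ]
    (hρ : ∀ {P : Scheme.{u}} (f g : P ⟶ G.R), Etale f → Etale g →
      ∃ e : pullback f ρ ⟶ pullback g ρ, IsIso e ∧ e ≫ pullback.fst g ρ = pullback.fst f ρ)
    (O : R₀.Opens) (hO : (O : Set R₀).Nonempty) [Smooth (O.ι ≫ ρ ≫ G.s ≫ eU.hom)] :
    Smooth (ρ ≫ G.s ≫ eU.hom) := by
  haveI : LocallyOfFiniteType (G.s ≫ eU.hom) := inferInstance
  haveI : LocallyOfFiniteType (G.t ≫ eU.hom) := inferInstance
  set f := ρ ≫ G.s ≫ eU.hom with hf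
  haveI : LocallyOfFinitePresentation f := inferInstance
  haveI : JacobsonSpace R₀ := LocallyOfFiniteType.jacobsonSpace f
  haveI : JacobsonSpace G.R := LocallyOfFiniteType.jacobsonSpace (G.s ≫ eU.hom)
  rw [← Scheme.Hom.smoothLocus_eq_top_iff, ← TopologicalSpace.Opens.coe_eq_univ,
    ← not_ne_iff, ← Set.nonempty_compl]
  intro H
  obtain ⟨x₀, hx₀, hx₀c⟩ :=
    nonempty_inter_closedPoints H f.smoothLocus.2.isClosed_compl.isLocallyClosed
  obtain ⟨w₀, hw₀ : w₀ ∈ O, hw₀c⟩ := nonempty_inter_closedPoints hO O.2.isLocallyClosed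
  have hxc : IsClosed ({ρ x₀} : Set G.R) := ρ.closePoints_subset_preimage_closedPoints hx₀c
  have hwc : IsClosed ({ρ w₀} : Set G.R) := ρ.closePoints_subset_preimage_closedPoints hw₀c
  let fst₂ := pullback.fst (G.s ≫ eU.hom) (G.s ≫ eU.hom)
  let snd₂ := pullback.snd (G.s ≫ eU.hom) (G.s ≫ eU.hom)
  haveI : JacobsonSpace ↥(pullback (G.s ≫ eU.hom) (G.s ≫ eU.hom)) :=
    LocallyOfFiniteType.jacobsonSpace (fst₂ ≫ G.s ≫ eU.hom)
  obtain ⟨q₀, hq₁, hq₂⟩ := Scheme.Pullback.exists_preimage_pullback (f := G.s ≫ eU.hom)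
    (g := G.s ≫ eU.hom) (ρ w₀) (ρ x₀) (Subsingleton.elim (α := PrimeSpectrum k) _ _)
  obtain ⟨q, ⟨hqw, hqx⟩, hqc⟩ := nonempty_inter_closedPoints
    (Z := fst₂ ⁻¹' {ρ w₀} ∩ snd₂ ⁻¹' {ρ x₀}) ⟨q₀, hq₁, hq₂⟩
    ((hwc.preimage fst₂.continuous).inter (hxc.preimage snd₂.continuous)).isLocallyClosed
  have hst : fst₂ ≫ G.s = snd₂ ≫ G.s := by
    rw [← cancel_mono eU.hom, Category.assoc, Category.assoc]; exact pullback.condition
  have h' : snd₂ ≫ G.s = (fst₂ ≫ G.i) ≫ G.t := by rw [Category.assoc, G.i_t, hst]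
  have hds : grpdDiv G eU ≫ G.s = fst₂ ≫ G.t :=
    (G.comp_s _ _ h').trans (by rw [Category.assoc, G.i_s])
  haveI : LocallyOfFiniteType (grpdDiv G eU) := by
    haveI : LocallyOfFiniteType (grpdDiv G eU ≫ G.s ≫ eU.hom) := by
      rw [reassoc_of% hds]; infer_instance
    exact locallyOfFiniteType_of_comp _ (G.s ≫ eU.hom)
  set d := grpdDiv G eU q with hd
  have hdc : IsClosed ({d} : Set G.R) := (grpdDiv G eU).closePoints_subset_preimage_closedPoints hqc
  let a := G.R.fromSpecResidueField d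
  haveI : Etale (a ≫ G.s) := by
    have h1 : a ≫ G.s = (a ≫ G.s ≫ eU.hom) ≫ eU.inv := by simp
    haveI := etale_fromSpecResidueField (G.s ≫ eU.hom) hdc
    rw [h1]; infer_instance
  haveI : Etale (a ≫ G.t) := by
    have h1 : a ≫ G.t = (a ≫ G.t ≫ eU.hom) ≫ eU.inv := by simp
    haveI := etale_fromSpecResidueField (G.t ≫ eU.hom) hdc
    rw [h1]; infer_instance
  let z := pullback.fst (a ≫ G.s) G.t
  let r := pullback.snd (a ≫ G.s) G.t
  have hzr : (z ≫ a) ≫ G.s = r ≫ G.t := by rw [Category.assoc]; exact pullback.condition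
  let Ψ : pullback (a ≫ G.s) G.t ⟶ pullback (a ≫ G.t) G.t :=
    pullback.lift z (cmp G (z ≫ a) r hzr)
      ((Category.assoc _ _ _).symm.trans (G.comp_t _ _ hzr).symm)
  let z' := pullback.fst (a ≫ G.t) G.t
  let r' := pullback.snd (a ≫ G.t) G.t
  have hzr' : ((z' ≫ a) ≫ G.i) ≫ G.s = r' ≫ G.t := by
    simp only [Category.assoc, G.i_s]; exact pullback.condition
  haveI hΨ : IsIso Ψ := by
    refine ⟨pullback.lift z' (cmp G ((z' ≫ a) ≫ G.i) r' hzr')
      ((Eq.trans ?_ (G.comp_t _ _ hzr').symm)), ?_, ?_⟩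
    · simp only [Category.assoc, G.i_t]
    · apply pullback.hom_ext
      · rw [Category.assoc, pullback.lift_fst, pullback.lift_fst, Category.id_comp]
      · rw [Category.assoc, pullback.lift_snd, Category.id_comp, comp_cmp]
        have h0 : ((z ≫ a) ≫ G.i) ≫ G.s = (z ≫ a) ≫ G.t := by rw [Category.assoc, G.i_s]
        have hz : Ψ ≫ (z' ≫ a) ≫ G.i = (z ≫ a) ≫ G.i := by
          simp only [← Category.assoc]
          congr 2
          exact pullback.lift_fst _ _ _
        refine (cmp_congr G _ hz (pullback.lift_snd _ _ _)).trans ?_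
        refine (G.assoc _ _ _ h0 hzr).symm.trans ?_
        refine (cmp_congr G _ (G.i_comp (z ≫ a)) rfl).trans ?_
        refine (cmp_congr G _ ?_ rfl).trans (G.e_comp r)
        rw [← Category.assoc, hzr, Category.assoc]
    · apply pullback.hom_ext
      · rw [Category.assoc, pullback.lift_fst, pullback.lift_fst, Category.id_comp]
      · rw [Category.assoc, pullback.lift_snd, Category.id_comp, comp_cmp]
        have h0 : (z' ≫ a) ≫ G.s = ((z' ≫ a) ≫ G.i) ≫ G.t := by
          simp only [Category.assoc, G.i_t]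
        refine (cmp_congr G _ (α' := z' ≫ a) (pullback.lift_fst_assoc _ _ _ _)
          (pullback.lift_snd _ _ _)).trans ?_
        refine (G.assoc _ _ _ h0 hzr').symm.trans ?_
        refine (cmp_congr G _ (G.comp_i (z' ≫ a)) rfl).trans ?_
        refine (cmp_congr G _ ?_ rfl).trans (G.e_comp r')
        simp only [Category.assoc, ← Category.assoc r', ← pullback.condition, z', r']
  let m := Ψ ≫ r'
  haveI : Etale r' := MorphismProperty.pullback_snd _ _ inferInstance
  haveI : Etale r := MorphismProperty.pullback_snd _ _ inferInstance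
  haveI : Etale m := inferInstance
  have hmc : m = cmp G (z ≫ a) r hzr := pullback.lift_snd _ _ _
  have hms : m ≫ G.s = r ≫ G.s := by rw [hmc]; exact G.comp_s _ _ hzr
  -- the point over `(d, ρ w₀)`
  let F := pullback.lift (f := G.s) (g := G.t) (grpdDiv G eU) fst₂ hds
  have hF : F ≫ G.c = snd₂ := cmp_inv_right G fst₂ snd₂ hst h'
  let J : pullback (a ≫ G.s) G.t ⟶ pullback G.s G.t :=
    pullback.map _ _ _ _ a (𝟙 _) (𝟙 _) (by simp) (by simp)
  obtain ⟨r₁, hr₁⟩ : F q ∈ Set.range J := by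
    rw [Scheme.Pullback.range_map]
    refine ⟨?_, ?_⟩
    · rw [Set.mem_preimage, ← Scheme.Hom.comp_apply, pullback.lift_fst]
      exact ⟨default, Scheme.fromSpecResidueField_apply d _⟩
    · exact ⟨_, rfl⟩
  have hJc : J ≫ G.c = m := by
    have h3 : J = pullback.lift (z ≫ a) r hzr := by
      apply pullback.hom_ext
      · exact (pullback.lift_fst _ _ _).trans (pullback.lift_fst _ _ _).symm
      · exact ((pullback.lift_snd _ _ _).trans (Category.comp_id _)).trans (pullback.lift_snd _ _ _).symm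
    rw [hmc, h3]
  have hmx : m r₁ = ρ x₀ := by
    rw [← hJc, Scheme.Hom.comp_apply, hr₁, ← Scheme.Hom.comp_apply, hF]
    exact hqx
  have hrw : r r₁ = ρ w₀ := by
    have h3 : J ≫ pullback.snd G.s G.t = r := (pullback.lift_snd _ _ _).trans (Category.comp_id _)
    rw [← h3, Scheme.Hom.comp_apply, hr₁, ← Scheme.Hom.comp_apply, pullback.lift_snd]
    exact hqw
  -- transport the smooth open
  obtain ⟨e, he, hef⟩ := hρ r m inferInstance inferInstance
  haveI := he
  let p₀ := pullback.snd r ρ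
  let g₀ := e ≫ pullback.snd m ρ
  haveI : Etale p₀ := MorphismProperty.pullback_snd _ _ inferInstance
  haveI : Etale g₀ := by
    haveI : Etale (pullback.snd m ρ) := MorphismProperty.pullback_snd _ _ inferInstance
    infer_instance
  have hgρ : g₀ ≫ ρ = pullback.fst r ρ ≫ m := by
    simp only [g₀, Category.assoc, ← pullback.condition, reassoc_of% hef]
  have hgf : g₀ ≫ f = p₀ ≫ f := by
    rw [hf, reassoc_of% hgρ, reassoc_of% hms, pullback.condition_assoc]
  obtain ⟨ζ, hζ₁, hζ₂⟩ := Scheme.Pullback.exists_preimage_pullback (f := r) (g := ρ) r₁ w₀ hrw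
  let Z := p₀ ⁻¹ᵁ O
  let V : R₀.Opens := ⟨Set.range (Z.ι ≫ g₀), (Z.ι ≫ g₀).isOpenMap.isOpen_range⟩
  have hV : Set.range (Z.ι ≫ g₀) ⊆ Set.range V.ι := by rw [Scheme.Opens.range_ι]; exact le_rfl
  let c : (Z : Scheme.{u}) ⟶ V := IsOpenImmersion.lift V.ι (Z.ι ≫ g₀) hV
  have hc : c ≫ V.ι = Z.ι ≫ g₀ := IsOpenImmersion.lift_fac _ _ _
  haveI : Etale c := by
    haveI : Etale (c ≫ V.ι) := by rw [hc]; infer_instance
    exact MorphismProperty.of_postcomp @Etale c V.ι (inferInstance : Etale V.ι) ‹_›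
  haveI : Surjective c := ⟨fun v => by
    obtain ⟨y, hy⟩ : V.ι v ∈ Set.range (Z.ι ≫ g₀) := v.2
    refine ⟨y, V.ι.isOpenEmbedding.injective ?_⟩
    rw [← Scheme.Hom.comp_apply, hc, hy]⟩
  have hs : Smooth (c ≫ V.ι ≫ f) := by
    rw [← Category.assoc, hc, Category.assoc, hgf, ← Category.assoc, ← morphismRestrict_ι,
      Category.assoc]
    infer_instance
  haveI : Smooth (V.ι ≫ f) :=
    GrothLib.AlgSp.etaleSourceDescends_smooth c (V.ι ≫ f) inferInstance inferInstance hs
  refine hx₀ ?_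
  have hmem : g₀ ζ ∈ V := ⟨⟨ζ, show p₀ ζ ∈ O by rw [show p₀ ζ = w₀ from hζ₂]; exact hw₀⟩, rfl⟩
  have hgx : g₀ ζ = x₀ := ρ.isClosedEmbedding.injective (by
    rw [← Scheme.Hom.comp_apply, hgρ, Scheme.Hom.comp_apply, hζ₁, hmx])
  exact hgx ▸ le_smoothLocus_of_smooth f V.ι ⟨g₀ ζ, hmem⟩

/-- The hypothesis on translations for the identity. -/
theorem pullback_id_translates {R : Scheme.{u}} {P : Scheme.{u}} (f g : P ⟶ R) :
    ∃ e : pullback f (𝟙 R) ⟶ pullback g (𝟙 R),
      IsIso e ∧ e ≫ pullback.fst g (𝟙 R) = pullback.fst f (𝟙 R) :=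
  ⟨pullback.fst f (𝟙 R) ≫ inv (pullback.fst g (𝟙 R)), inferInstance, by simp⟩

end GrothLib.GrpSchField
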