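import Groth.Agent.Lib.GrpSchField.Cartier
import Groth.Agent.Lib.GrpSchField.GrpdTranslate
import Groth.Agent.Lib.RedSmooth.Basic
import Groth.Agent.Lib.RedSub.Basic

/-!
Groupoids locally of finite type on a field of characteristic zero are smooth.
-/

open CategoryTheory CategoryTheory.Limits AlgebraicGeometry

namespace GrothLib.GrpSchField

universe u

open TrivSqZeroExt

variable {K : Type u} [Field K] {S : Scheme.{u}} (G : Grpd.GroupoidScheme S)
  (eU : G.U ≅ Spec (CommRingCat.of K))

/-- Functoriality of dual numbers in ring homomorphisms. -/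
def dualMapRing {A : Type u} [CommRing A] (f : K →+* A) : DualNumber K →+* DualNumber A where
  toFun r := inl (f r.fst) + inr (f r.snd)
  map_one' := by ext <;> simp
  map_mul' r s := by ext <;> simp [mul_comm]
  map_zero' := by ext <;> simp
  map_add' r s := by ext <;> simp

/-- In characteristic zero nilpotents at the identity of a groupoid on a field lie in `m²`. -/
theorem nilpotent_mem_sq_grpd [CharZero K]
    {B : Type u} [CommRing B] [Algebra K B] (j : Spec (CommRingCat.of B) ⟶ G.R) [IsOpenImmersion j]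
    (hj : j ≫ G.s ≫ eU.hom = Spec.map (CommRingCat.ofHom (algebraMap K B)))
    (q : Ideal B) [q.IsMaximal] (evB : B →ₐ[K] K) (hev : RingHom.ker evB = q)
    (he : Spec.map (CommRingCat.ofHom (evB : B →+* K)) ≫ j = eU.inv ≫ G.e)
    (A : Type u) [CommRing A] [Algebra B A] [Algebra K A] [IsScalarTower K B A]
    [IsLocalization.AtPrime A q] [IsLocalRing A]
    {x : A} (hx : IsNilpotent x) :
    x ∈ IsLocalRing.maximalIdeal A ^ 2 := by
  set m := IsLocalRing.maximalIdeal A with hm
  have hunit : ∀ b : q.primeCompl, IsUnit (evB b) := fun b =>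
    isUnit_iff_ne_zero.mpr fun h => b.2 (hev ▸ h)
  let ev : A →ₐ[K] K := IsLocalization.liftAlgHom hunit
  have hev_eq : ∀ b, ev (algebraMap B A b) = evB b := fun b => IsLocalization.lift_eq _ _
  have hker : RingHom.ker (ev : A →+* K) = m :=
    IsLocalRing.eq_maximalIdeal (RingHom.ker_isMaximal_of_surjective _
      fun c => ⟨algebraMap K A c, ev.commutes c⟩)
  have hsub : ∀ a : A, a - algebraMap K A (ev a) ∈ m := fun a => by
    rw [← hker, RingHom.mem_ker]; simp
  by_contra hxm
  have hev0 : ev x = 0 := (hx.map ev).eq_zero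
  have hxW : x ∉ Submodule.span K {(1 : A)} ⊔ (m ^ 2).restrictScalars K := by
    intro h
    obtain ⟨a, ha, b, hb, rfl⟩ := Submodule.mem_sup.mp h
    obtain ⟨c, rfl⟩ := Submodule.mem_span_singleton.mp ha
    have hb0 : ev b = 0 := by
      rw [← RingHom.mem_ker]; exact hker ▸ Ideal.pow_le_self two_ne_zero hb
    rw [map_add, hb0, map_smul, map_one, smul_eq_mul, _root_.mul_one, add_zero] at hev0
    subst hev0
    exact hxm (by simpa using hb)
  obtain ⟨v₀, hv₀x, hv₀⟩ := Submodule.exists_dual_map_eq_bot_of_notMem hxW inferInstance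
  let v : A →ₗ[K] K := (v₀ x)⁻¹ • v₀
  have hvx : v x = 1 := inv_mul_cancel₀ hv₀x
  have hvW : ∀ w ∈ Submodule.span K {(1 : A)} ⊔ (m ^ 2).restrictScalars K, v w = 0 := fun w hw => by
    have : v₀ w ∈ (Submodule.span K {(1 : A)} ⊔ (m ^ 2).restrictScalars K).map v₀ :=
      ⟨w, hw, rfl⟩
    rw [hv₀, Submodule.mem_bot] at this
    simp [v, this]
  have hv1 : ∀ c : K, v (algebraMap K A c) = 0 := fun c => hvW _ (Submodule.mem_sup_left
    (Submodule.mem_span_singleton.mpr ⟨c, (Algebra.algebraMap_eq_smul_one c).symm⟩))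
  have hvmul : ∀ a b, v (a * b) = ev a * v b + ev b * v a := by
    intro a b
    have h2 : v ((a - algebraMap K A (ev a)) * (b - algebraMap K A (ev b))) = 0 :=
      hvW _ (Submodule.mem_sup_right (show _ ∈ m ^ 2 from by
        rw [pow_two]; exact Ideal.mul_mem_mul (hsub a) (hsub b)))
    have e : (a - algebraMap K A (ev a)) * (b - algebraMap K A (ev b)) =
        a * b - ev a • b - ev b • a + algebraMap K A (ev a * ev b) := by
      rw [Algebra.smul_def, Algebra.smul_def, map_mul]; ring
    rw [e, map_add, map_sub, map_sub, map_smul, map_smul, hv1, add_zero, smul_eq_mul,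
      smul_eq_mul] at h2
    linear_combination h2
  let t : A →ₐ[K] DualNumber K :=
    AlgHom.ofLinearMap
      ((TrivSqZeroExt.inlAlgHom K K K).toLinearMap ∘ₗ ev.toLinearMap +
        TrivSqZeroExt.inrHom K K ∘ₗ v)
      (by
        have h := hv1 1
        rw [map_one] at h
        ext <;> simp [h])
      (fun a b => by ext <;> simp [hvmul, mul_comm])
  have ht_fst : ∀ a, fst (t a) = ev a := fun a => by simp [t]
  have ht_snd : ∀ a, snd (t a) = v a := fun a => by simp [t]
  let toA : B →ₐ[K] A := IsScalarTower.toAlgHom K B A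
  let ιA : Spec (CommRingCat.of A) ⟶ G.R := Spec.map (CommRingCat.ofHom (toA : B →+* A)) ≫ j
  have hιA : ιA ≫ G.s ≫ eU.hom = Spec.map (CommRingCat.ofHom (algebraMap K A)) := by
    simp only [ιA, Category.assoc, hj, ← Spec.map_comp, ← CommRingCat.ofHom_comp,
      AlgHom.comp_algebraMap]
  let θ : K →+* A := (Spec.preimage (ιA ≫ G.t ≫ eU.hom)).hom
  have hθ : Spec.map (CommRingCat.ofHom θ) = ιA ≫ G.t ≫ eU.hom := Spec.map_preimage _
  have hevA : Spec.map (CommRingCat.ofHom (ev : A →+* K)) ≫ ιA = eU.inv ≫ G.e := by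
    rw [← he, ← Category.assoc, ← Spec.map_comp, ← CommRingCat.ofHom_comp]
    congr 3
    exact RingHom.ext hev_eq
  have hevθ : (ev : A →+* K).comp θ = RingHom.id K := by
    have h : Spec.map (CommRingCat.ofHom ((ev : A →+* K).comp θ)) =
        Spec.map (CommRingCat.ofHom (RingHom.id K)) := by
      rw [CommRingCat.ofHom_comp, Spec.map_comp, hθ, reassoc_of% hevA, reassoc_of% G.e_t,
        Iso.inv_hom_id]
      exact Spec.map_id _ |>.symm
    exact congrArg CommRingCat.Hom.hom (Spec.map_injective h)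
  let Tp : Spec (CommRingCat.of (DualNumber K)) ⟶ G.R :=
    Spec.map (CommRingCat.ofHom (t : A →+* DualNumber K)) ≫ ιA
  have hTp : Tp ≫ G.s ≫ eU.hom = Spec.map (CommRingCat.ofHom (algebraMap K (DualNumber K))) := by
    simp only [Tp, Category.assoc, hιA, ← Spec.map_comp, ← CommRingCat.ofHom_comp,
      AlgHom.comp_algebraMap]
  let inlA : A →+* DualNumber A := TrivSqZeroExt.inlHom A A
  let fstA : DualNumber A →+* A := (TrivSqZeroExt.fstHom K A A : DualNumber A →ₐ[K] A)
  let τ' : Spec (CommRingCat.of (DualNumber A)) ⟶ G.R :=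
    Spec.map (CommRingCat.ofHom (dualMapRing θ)) ≫ Tp
  let γ' : Spec (CommRingCat.of (DualNumber A)) ⟶ G.R := Spec.map (CommRingCat.ofHom inlA) ≫ ιA
  have hcomp : τ' ≫ G.s = γ' ≫ G.t := by
    rw [← cancel_mono eU.hom]
    simp only [τ', γ', Category.assoc, hTp, ← hθ, ← Spec.map_comp, ← CommRingCat.ofHom_comp]
    congr 2
    exact RingHom.ext fun c => by ext <;> simp [dualMapRing, inlA, algebraMap_eq_inl']
  let φ : Spec (CommRingCat.of (DualNumber A)) ⟶ G.R := cmp G τ' γ' hcomp
  have hfst : Spec.map (CommRingCat.ofHom fstA) ≫ φ = ιA := by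
    rw [comp_cmp]
    have e1 : fstA.comp inlA = RingHom.id A := RingHom.ext fun a => by simp [fstA, inlA]
    have e2 : fstA.comp ((dualMapRing θ).comp (t : A →+* DualNumber K)) =
        θ.comp (ev : A →+* K) :=
      RingHom.ext fun a => by simp [fstA, dualMapRing, ht_fst]
    have h1 : Spec.map (CommRingCat.ofHom fstA) ≫ γ' = ιA := by
      simp only [γ', ← Category.assoc, ← Spec.map_comp, ← CommRingCat.ofHom_comp, e1]
      rw [show CommRingCat.ofHom (RingHom.id A) = 𝟙 _ from rfl, Spec.map_id, Category.id_comp]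
    have h2 : Spec.map (CommRingCat.ofHom fstA) ≫ τ' = ιA ≫ G.t ≫ G.e := by
      simp only [τ', Tp, ← Category.assoc, ← Spec.map_comp, ← CommRingCat.ofHom_comp]
      rw [e2, CommRingCat.ofHom_comp, Spec.map_comp, Category.assoc, hevA, hθ]
      simp only [Category.assoc, Iso.hom_inv_id_assoc]
    exact (cmp_congr G _ h2 h1).trans (G.e_comp ιA)
  have hev' : Spec.map (CommRingCat.ofHom (dualMap ev : DualNumber A →+* DualNumber K)) ≫ φ = Tp := by
    rw [comp_cmp]
    have e1 : (dualMap ev : DualNumber A →+* DualNumber K).comp inlA =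
        (algebraMap K (DualNumber K)).comp (ev : A →+* K) :=
      RingHom.ext fun a => by ext <;> simp [inlA, algebraMap_eq_inl']
    have e2 : (dualMap ev : DualNumber A →+* DualNumber K).comp (dualMapRing θ) =
        RingHom.id (DualNumber K) := RingHom.ext fun r => by
      have hc : ∀ c, ev (θ c) = c := fun c => RingHom.congr_fun hevθ c
      ext <;> simp [dualMapRing, hc]
    have h1 : Spec.map (CommRingCat.ofHom (dualMap ev : DualNumber A →+* DualNumber K)) ≫ γ' =
        Tp ≫ G.s ≫ G.e := by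
      simp only [γ', ← Category.assoc, ← Spec.map_comp, ← CommRingCat.ofHom_comp, e1]
      rw [CommRingCat.ofHom_comp, Spec.map_comp, Category.assoc, hevA, ← hTp]
      simp only [Category.assoc, Iso.hom_inv_id_assoc]
    have h2 : Spec.map (CommRingCat.ofHom (dualMap ev : DualNumber A →+* DualNumber K)) ≫ τ' = Tp := by
      simp only [τ', ← Category.assoc, ← Spec.map_comp, ← CommRingCat.ofHom_comp, e2]
      rw [show CommRingCat.ofHom (RingHom.id (DualNumber K)) = 𝟙 _ from rfl, Spec.map_id, Category.id_comp]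
    exact (cmp_congr G _ h2 h1).trans (G.comp_e Tp)
  have hrange : Set.range φ ⊆ Set.range j := by
    rintro _ ⟨p, rfl⟩
    obtain ⟨p, rfl⟩ := surjective_specMap_fst (K := K) A p
    refine ⟨(Spec.map (CommRingCat.ofHom (toA : B →+* A))) p, ?_⟩
    have := congrArg (fun f : Spec (CommRingCat.of A) ⟶ G.R => f p) hfst
    simpa [ιA, fstA] using this.symm
  let ψ₀ := (Spec.preimage (IsOpenImmersion.lift j φ hrange)).hom
  have hψ₀ : Spec.map (CommRingCat.ofHom ψ₀) ≫ j = φ := by
    simp [ψ₀]
  have hψ₀_fst : fstA.comp ψ₀ = algebraMap B A := by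
    have h := hfst
    simp only [ιA] at h
    rw [← hψ₀, ← Category.assoc, cancel_mono, ← Spec.map_comp, ← CommRingCat.ofHom_comp] at h
    exact congrArg CommRingCat.Hom.hom (Spec.map_injective h)
  have hψ₀_ev : (dualMap ev : DualNumber A →+* DualNumber K).comp ψ₀ =
      (t : A →+* DualNumber K).comp (algebraMap B A) := by
    have h := hev'
    simp only [Tp, ιA] at h
    rw [← hψ₀, ← Category.assoc, ← Category.assoc, cancel_mono, ← Spec.map_comp, ← Spec.map_comp,
      ← CommRingCat.ofHom_comp, ← CommRingCat.ofHom_comp] at h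
    exact congrArg CommRingCat.Hom.hom (Spec.map_injective h)
  have hψu : ∀ b : q.primeCompl, IsUnit (ψ₀ b) := fun b =>
    TrivSqZeroExt.isUnit_iff_isUnit_fst.mpr (by
      have := DFunLike.congr_fun hψ₀_fst (b : B)
      rw [show fst (ψ₀ b) = algebraMap B A b from this]
      exact IsLocalization.map_units A b)
  let ψ : A →+* DualNumber A := IsLocalization.lift hψu
  have hψ_fst : ∀ a, fst (ψ a) = a := by
    have : fstA.comp ψ = RingHom.id A :=
      IsLocalization.ringHom_ext q.primeCompl (by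
        rw [RingHom.comp_assoc, IsLocalization.lift_comp, hψ₀_fst, RingHom.id_comp])
    exact DFunLike.congr_fun this
  have hψ_ev : ∀ a, dualMap ev (ψ a) = t a := by
    have : (dualMap ev : DualNumber A →+* DualNumber K).comp ψ = (t : A →+* DualNumber K) :=
      IsLocalization.ringHom_ext q.primeCompl (by
        rw [RingHom.comp_assoc, IsLocalization.lift_comp, hψ₀_ev])
    exact DFunLike.congr_fun this
  have h1 : ev (snd (ψ x)) = 1 := by
    rw [← snd_dualMap, hψ_ev, ht_snd, hvx]
  refine derivation_not_isUnit_of_nilpotent (fun n hn => ?_) ψ hψ_fst hx ?_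
  · rw [← map_natCast (algebraMap K A)]
    exact (IsUnit.mk0 _ (Nat.cast_ne_zero.mpr hn)).map _
  by_contra h
  have : snd (ψ x) ∈ RingHom.ker (ev : A →+* K) := hker ▸ h
  exact one_ne_zero (h1.symm.trans this)


/-- The nilradical vanishes near the identity. -/
theorem exists_smooth_away_grpd [CharZero K] {B : Type u} [CommRing B] [Algebra K B]
    [Algebra.FiniteType K B]
    (j : Spec (CommRingCat.of B) ⟶ G.R) [IsOpenImmersion j]
    (hj : j ≫ G.s ≫ eU.hom = Spec.map (CommRingCat.ofHom (algebraMap K B)))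
    (p : Ideal B) [p.IsMaximal] (evB : B →ₐ[K] K) (hev : RingHom.ker evB = p)
    (hev0' : Spec.map (CommRingCat.ofHom (evB : B →+* K)) ≫ j = eU.inv ≫ G.e)
    (hsm : Algebra.Smooth K (B ⧸ nilradical B)) :
    ∃ f : B, ¬ IsNilpotent f ∧ Algebra.Smooth K (Localization.Away f) := by
  have : Algebra.FinitePresentation K B := Algebra.FinitePresentation.of_finiteType.mp ‹_›
  have : IsNoetherianRing B := Algebra.FiniteType.isNoetherianRing K B
  have hle : nilradical B ≤ p := nilradical_le_prime p
  let q : Ideal (B ⧸ nilradical B) := p.map (Ideal.Quotient.mk (nilradical B))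
  have hqp : q.comap (Ideal.Quotient.mk (nilradical B)) = p := by
    rw [Ideal.comap_map_of_surjective _ Ideal.Quotient.mk_surjective, ← RingHom.ker_eq_comap_bot,
      Ideal.mk_ker, sup_eq_left]
    exact hle
  have : q.IsMaximal := by
    refine (Ideal.map_eq_top_or_isMaximal_of_surjective _ Ideal.Quotient.mk_surjective ‹p.IsMaximal›).resolve_left
      fun h => (‹p.IsMaximal›.ne_top) ?_
    rw [← hqp, show q = ⊤ from h, Ideal.comap_top]
  have : Algebra.IsSmoothAt K q :=
    Algebra.FormallySmooth.comp K (B ⧸ nilradical B) (Localization.AtPrime q)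
  let A := Localization.AtPrime p
  let I : Ideal A := (nilradical B).map (algebraMap B A)
  have hI : I ≤ IsLocalRing.maximalIdeal A ^ 2 := Ideal.map_le_iff_le_comap.mpr fun b hb =>
    nilpotent_mem_sq_grpd G eU j hj p evB hev hev0' A (IsNilpotent.map hb (algebraMap B A))
  have : IsLocalization.AtPrime (A ⧸ I) q := by
    have h : Algebra.algebraMapSubmonoid (B ⧸ nilradical B) p.primeCompl = q.primeCompl := by
      have hmem : ∀ b, Ideal.Quotient.mk (nilradical B) b ∈ q ↔ b ∈ p := fun b =>
        (SetLike.ext_iff.mp hqp b)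
      ext y
      constructor
      · rintro ⟨b, hb, rfl⟩
        exact fun h => hb ((hmem b).mp h)
      · intro hy
        obtain ⟨b, rfl⟩ := Ideal.Quotient.mk_surjective y
        exact ⟨b, fun h => hy ((hmem b).mpr h), rfl⟩
    have : IsLocalization (Algebra.algebraMapSubmonoid (B ⧸ nilradical B) p.primeCompl) (A ⧸ I) :=
      inferInstance
    show IsLocalization q.primeCompl (A ⧸ I)
    rwa [← h]
  have : IsScalarTower K (B ⧸ nilradical B) (A ⧸ I) := IsScalarTower.of_algebraMap_eq' rfl
  have : Algebra.FormallySmooth K (A ⧸ I) :=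
    .of_equiv ((IsLocalization.algEquiv q.primeCompl (Localization.AtPrime q) (A ⧸ I)).restrictScalars K)
  have hbot : I = ⊥ := eq_bot_of_le_sq_of_formallySmooth (R := K) I
    (Ideal.FG.map (IsNoetherian.noetherian (nilradical B)) _) hI
  have : Algebra.IsSmoothAt K p :=
    .of_equiv ((Ideal.quotientEquivAlgOfEq K hbot).trans (AlgEquiv.quotientBot K A))
  obtain ⟨f, hf, hsm⟩ := Algebra.IsSmoothAt.exists_notMem_smooth K p
  exact ⟨f, fun ⟨n, hn⟩ => hf ((inferInstance : p.IsPrime).mem_of_pow_mem n (hn ▸ p.zero_mem)), hsm⟩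


/-- Two surjective closed immersions from reduced schemes are isomorphic. -/
theorem exists_iso_of_reduced {X₁ X₂ X : Scheme.{u}} (i₁ : X₁ ⟶ X) (i₂ : X₂ ⟶ X)
    [IsClosedImmersion i₁] [Surjective i₁] [IsClosedImmersion i₂] [Surjective i₂]
    [IsReduced X₁] [IsReduced X₂] : ∃ e : X₁ ⟶ X₂, IsIso e ∧ e ≫ i₂ = i₁ := by
  haveI : IsClosedImmersion (pullback.fst i₁ i₂) := inferInstance
  haveI : Surjective (pullback.fst i₁ i₂) := inferInstance
  haveI : IsClosedImmersion (pullback.snd i₁ i₂) := inferInstance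
  haveI : Surjective (pullback.snd i₁ i₂) := inferInstance
  haveI := isIso_of_isClosedImmersion_of_surjective (pullback.fst i₁ i₂)
  haveI := isIso_of_isClosedImmersion_of_surjective (pullback.snd i₁ i₂)
  exact ⟨inv (pullback.fst i₁ i₂) ≫ pullback.snd i₁ i₂, inferInstance,
    by rw [Category.assoc, ← pullback.condition, IsIso.inv_hom_id_assoc]⟩

set_option backward.isDefEq.respectTransparency.types false in
include eU in
/-- In characteristic zero a groupoid locally of finite type on a field is smooth. -/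
theorem smooth_s_of_charZero [CharZero K] [LocallyOfFiniteType G.s] [LocallyOfFiniteType G.t] :
    Smooth G.s := by
  set f := G.s ≫ eU.hom with hf
  haveI : LocallyOfFiniteType f := inferInstance
  haveI : LocallyOfFinitePresentation f := inferInstance
  haveI : JacobsonSpace G.R := LocallyOfFiniteType.jacobsonSpace f
  let I := Scheme.IdealSheafData.vanishingIdeal (X := G.R) ⊤
  haveI : IsReduced I.subscheme := RedSub.isReduced_subscheme_vanishingIdeal _
  let ρ := I.subschemeι
  haveI : Surjective ρ := ⟨fun x => by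
    have : x ∈ Set.range ρ := by
      rw [Scheme.IdealSheafData.range_subschemeι, Scheme.IdealSheafData.coe_support_vanishingIdeal]
      trivial
    exact this⟩
  have hρ : ∀ {P : Scheme.{u}} (g h : P ⟶ G.R), Etale g → Etale h →
      ∃ e : pullback g ρ ⟶ pullback h ρ, IsIso e ∧ e ≫ pullback.fst h ρ = pullback.fst g ρ := by
    intro P g h _ _
    haveI : IsReduced (pullback g ρ) := GrothLib.RedSmooth.isReduced_of_smooth (pullback.snd g ρ)
    haveI : IsReduced (pullback h ρ) := GrothLib.RedSmooth.isReduced_of_smooth (pullback.snd h ρ)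
    exact exists_iso_of_reduced _ _
  haveI hsm₀ : Smooth (ρ ≫ f) := by
    haveI : Nonempty I.subscheme :=
      ⟨(ρ.surjective (G.e (eU.inv (IsLocalRing.closedPoint K)))).choose⟩
    have hne := (Scheme.Hom.dense_smoothLocus_of_perfectField (ρ ≫ f)).nonempty
    haveI : Smooth ((ρ ≫ f).smoothLocus.ι ≫ ρ ≫ G.s ≫ eU.hom) := by
      show Smooth ((ρ ≫ f).smoothLocus.ι ≫ ρ ≫ f)
      rw [← Scheme.Hom.smoothLocus_eq_top_iff, ← Scheme.Hom.preimage_smoothLocus_eq (ρ ≫ f).smoothLocus.ι (ρ ≫ f),
        Scheme.Opens.ι_preimage_self]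
    exact smooth_of_open_smooth_grpd G eU ρ hρ _ hne
  obtain ⟨_, ⟨V, hV, rfl⟩, heV, -⟩ := G.R.isBasis_affineOpens.exists_subset_of_mem_open
    (Set.mem_univ (G.e (eU.inv (IsLocalRing.closedPoint K)))) isOpen_univ
  let κ : CommRingCat.of K ⟶ Γ(G.R, V) := Spec.preimage (hV.fromSpec ≫ f)
  let : Algebra K Γ(G.R, V) := κ.hom.toAlgebra
  have hj : hV.fromSpec ≫ f = Spec.map (CommRingCat.ofHom (algebraMap K Γ(G.R, V))) :=
    (Spec.map_preimage _).symm
  have : LocallyOfFiniteType (Spec.map κ) := by rw [Spec.map_preimage]; infer_instance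
  have : Algebra.FiniteType K Γ(G.R, V) :=
    (HasRingHomProperty.Spec_iff (P := @LocallyOfFiniteType)).mp this
  have hr : Set.range (eU.inv ≫ G.e) ⊆ Set.range hV.fromSpec := by
    rintro _ ⟨p, rfl⟩
    rw [hV.range_fromSpec, Subsingleton.elim (α := PrimeSpectrum K) p (IsLocalRing.closedPoint K)]
    exact heV
  let evB₀ := (Spec.preimage (IsOpenImmersion.lift hV.fromSpec (eU.inv ≫ G.e) hr)).hom
  have hevB₀ : Spec.map (CommRingCat.ofHom evB₀) ≫ hV.fromSpec = eU.inv ≫ G.e := by simp [evB₀]
  have hcomm : evB₀.comp (algebraMap K Γ(G.R, V)) = RingHom.id K := by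
    have h : Spec.map (CommRingCat.ofHom (evB₀.comp (algebraMap K Γ(G.R, V)))) =
        Spec.map (CommRingCat.ofHom (RingHom.id K)) := by
      rw [CommRingCat.ofHom_comp, Spec.map_comp, ← hj, reassoc_of% hevB₀, hf, reassoc_of% G.e_s,
        Iso.inv_hom_id]
      exact (Spec.map_id _).symm
    exact congrArg CommRingCat.Hom.hom (Spec.map_injective h)
  let evB : Γ(G.R, V) →ₐ[K] K := { evB₀ with commutes' := RingHom.congr_fun hcomm }
  have : (RingHom.ker evB).IsMaximal :=
    RingHom.ker_isMaximal_of_surjective _ fun c => ⟨algebraMap K _ c, evB.commutes c⟩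
  let π := Ideal.Quotient.mk (nilradical Γ(G.R, V))
  let i₁ := Spec.map (CommRingCat.ofHom π)
  haveI : IsClosedImmersion i₁ := IsClosedImmersion.spec_of_surjective _ Ideal.Quotient.mk_surjective
  haveI : Surjective i₁ := ⟨fun p => ⟨(PrimeSpectrum.mk (p.asIdeal.map π)
    (Ideal.map_isPrime_of_surjective Ideal.Quotient.mk_surjective
      (by rw [Ideal.mk_ker]; exact nilradical_le_prime _))), PrimeSpectrum.ext (by
      show (p.asIdeal.map π).comap π = p.asIdeal
      rw [Ideal.comap_map_of_surjective _ Ideal.Quotient.mk_surjective, ← RingHom.ker_eq_comap_bot,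
        Ideal.mk_ker, sup_eq_left]
      exact nilradical_le_prime _)⟩⟩
  have : _root_.IsReduced (Γ(G.R, V) ⧸ nilradical Γ(G.R, V)) :=
    (Ideal.isRadical_iff_quotient_reduced _).mp (Ideal.radical_isRadical _)
  haveI : IsReduced (pullback hV.fromSpec ρ) := isReduced_of_isOpenImmersion (pullback.snd hV.fromSpec ρ)
  obtain ⟨e, _, he⟩ := exists_iso_of_reduced i₁ (pullback.fst hV.fromSpec ρ)
  have hsmB : Algebra.Smooth K (Γ(G.R, V) ⧸ nilradical Γ(G.R, V)) := by
    have h : Smooth (i₁ ≫ hV.fromSpec ≫ f) := by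
      rw [← he, Category.assoc, pullback.condition_assoc]
      infer_instance
    rw [hj, ← Spec.map_comp, ← CommRingCat.ofHom_comp] at h
    exact RingHom.smooth_algebraMap.mp ((HasRingHomProperty.Spec_iff (P := @Smooth)).mp h)
  obtain ⟨b, hb, hbs⟩ := exists_smooth_away_grpd G eU hV.fromSpec hj _ evB rfl hevB₀ hsmB
  let jb := Spec.map (CommRingCat.ofHom (algebraMap Γ(G.R, V) (Localization.Away b))) ≫ hV.fromSpec
  haveI : Nontrivial (Localization.Away b) := OreLocalization.nontrivial_iff.mpr fun h0 => hb h0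
  obtain ⟨p⟩ : Nonempty (PrimeSpectrum (Localization.Away b)) := inferInstance
  have hjb : Smooth (jb ≫ f) := by
    rw [Category.assoc, hj, ← Spec.map_comp, ← CommRingCat.ofHom_comp, ← IsScalarTower.algebraMap_eq]
    exact (HasRingHomProperty.Spec_iff (P := @Smooth)).mpr (RingHom.smooth_algebraMap.mpr hbs)
  haveI : Smooth (jb.opensRange.ι ≫ 𝟙 G.R ≫ G.s ≫ eU.hom) := by
    rw [Category.id_comp, show jb.opensRange.ι = jb.isoOpensRange.inv ≫ jb by simp, Category.assoc]
    infer_instance
  have h := smooth_of_open_smooth_grpd G eU (𝟙 G.R)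
    (fun g h _ _ => pullback_id_translates g h) jb.opensRange ⟨jb p, ⟨p, rfl⟩⟩
  rw [Category.id_comp] at h
  haveI := h
  rw [show G.s = (G.s ≫ eU.hom) ≫ eU.inv by simp]
  infer_instance

end GrothLib.GrpSchField
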