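import Groth.Agent.Lib.GrpSchField.GrpdDirected
import Groth.Agent.Lib.GrpSchField.Smooth
import Groth.Agent.Lib.GrpSchField.GrpDim
import Groth.Agent.Lib.AffDom.LocalDim
import Mathlib.AlgebraicGeometry.Morphisms.Finite
import Mathlib.AlgebraicGeometry.Morphisms.Flat

/-!
Groupoids on a field, locally of finite type, are equidimensional.
-/

open CategoryTheory CategoryTheory.Limits AlgebraicGeometry

namespace GrothLib.GrpSchField

universe u

variable {k : Type u} [Field k] {S : Scheme.{u}} (G : Grpd.GroupoidScheme S)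
  (eU : G.U ≅ Spec (CommRingCat.of k))

/-- Closed points of a scheme locally of finite type over a field are finite over it. -/
theorem isFinite_fromSpecResidueField {X : Scheme.{u}}
    (f : X ⟶ Spec (CommRingCat.of k)) [LocallyOfFiniteType f] {x : X} (hx : IsClosed ({x} : Set X)) :
    IsFinite (X.fromSpecResidueField x ≫ f) := by
  have : JacobsonSpace X := LocallyOfFiniteType.jacobsonSpace f
  have := isClosed_singleton_iff_isClosedImmersion.mp hx
  rw [isFinite_iff_locallyOfFiniteType_of_jacobsonSpace]
  infer_instance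

set_option backward.isDefEq.respectTransparency.types false in
/-- Any two closed arrows are related by a translation defined on a finite flat cover. -/
theorem exists_finiteFlat_translate [LocallyOfFiniteType G.s] [LocallyOfFiniteType G.t]
    {w x : G.R} (hwc : IsClosed ({w} : Set G.R)) (hxc : IsClosed ({x} : Set G.R))
    (eU : G.U ≅ Spec (CommRingCat.of k)) :
    ∃ (P : Scheme.{u}) (r m : P ⟶ G.R) (p : P), IsFinite r ∧ Flat r ∧ IsFinite m ∧ Flat m ∧
      r p = w ∧ m p = x := by
  have : LocallyOfFiniteType (G.s ≫ eU.hom) := inferInstance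
  have : LocallyOfFiniteType (G.t ≫ eU.hom) := inferInstance
  have : JacobsonSpace G.R := LocallyOfFiniteType.jacobsonSpace (G.s ≫ eU.hom)
  let fst₂ := pullback.fst (G.s ≫ eU.hom) (G.s ≫ eU.hom)
  let snd₂ := pullback.snd (G.s ≫ eU.hom) (G.s ≫ eU.hom)
  have : JacobsonSpace ↥(pullback (G.s ≫ eU.hom) (G.s ≫ eU.hom)) :=
    LocallyOfFiniteType.jacobsonSpace (fst₂ ≫ G.s ≫ eU.hom)
  obtain ⟨q₀, hq₁, hq₂⟩ := Scheme.Pullback.exists_preimage_pullback (f := G.s ≫ eU.hom)
    (g := G.s ≫ eU.hom) w x (Subsingleton.elim (α := PrimeSpectrum k) _ _)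
  obtain ⟨q, ⟨hqw, hqx⟩, hqc⟩ := nonempty_inter_closedPoints
    (Z := fst₂ ⁻¹' {w} ∩ snd₂ ⁻¹' {x}) ⟨q₀, hq₁, hq₂⟩
    ((hwc.preimage fst₂.continuous).inter (hxc.preimage snd₂.continuous)).isLocallyClosed
  have hst : fst₂ ≫ G.s = snd₂ ≫ G.s := by
    rw [← cancel_mono eU.hom, Category.assoc, Category.assoc]; exact pullback.condition
  have h' : snd₂ ≫ G.s = (fst₂ ≫ G.i) ≫ G.t := by rw [Category.assoc, G.i_t, hst]
  have hds : grpdDiv G eU ≫ G.s = fst₂ ≫ G.t :=
    (G.comp_s _ _ h').trans (by rw [Category.assoc, G.i_s])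
  have : LocallyOfFiniteType (grpdDiv G eU) := by
    have : LocallyOfFiniteType (grpdDiv G eU ≫ G.s ≫ eU.hom) := by
      rw [reassoc_of% hds]; infer_instance
    exact locallyOfFiniteType_of_comp _ (G.s ≫ eU.hom)
  set d := grpdDiv G eU q with hd
  have hdc : IsClosed ({d} : Set G.R) := (grpdDiv G eU).closePoints_subset_preimage_closedPoints hqc
  let a := G.R.fromSpecResidueField d
  have : IsFinite (a ≫ G.s) := by
    have h1 : a ≫ G.s = (a ≫ G.s ≫ eU.hom) ≫ eU.inv := by simp
    have := isFinite_fromSpecResidueField (G.s ≫ eU.hom) hdc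
    rw [h1]; infer_instance
  have : IsFinite (a ≫ G.t) := by
    have h1 : a ≫ G.t = (a ≫ G.t ≫ eU.hom) ≫ eU.inv := by simp
    have := isFinite_fromSpecResidueField (G.t ≫ eU.hom) hdc
    rw [h1]; infer_instance
  have : Subsingleton G.U := eU.hom.homeomorph.injective.subsingleton
  have : IsIntegral G.U := IsIntegral.of_isIso eU.inv
  let z := pullback.fst (a ≫ G.s) G.t
  let r := pullback.snd (a ≫ G.s) G.t
  have hzr : (z ≫ a) ≫ G.s = r ≫ G.t := by rw [Category.assoc]; exact pullback.condition
  let Ψ : pullback (a ≫ G.s) G.t ⟶ pullback (a ≫ G.t) G.t :=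
    pullback.lift z (cmp G (z ≫ a) r hzr)
      ((Category.assoc _ _ _).symm.trans (G.comp_t _ _ hzr).symm)
  let z' := pullback.fst (a ≫ G.t) G.t
  let r' := pullback.snd (a ≫ G.t) G.t
  have hzr' : ((z' ≫ a) ≫ G.i) ≫ G.s = r' ≫ G.t := by
    simp only [Category.assoc, G.i_s]; exact pullback.condition
  have hΨ : IsIso Ψ := by
    refine ⟨pullback.lift z' (cmp G ((z' ≫ a) ≫ G.i) r' hzr')
      ((Eq.trans ?_ (G.comp_t _ _ hzr').symm)), ?_, ?_⟩
    · simp only [Category.assoc, G.i_t]
    · apply pullback.hom_ext
      · rw [Category.assoc, pullback.lift_fst, pullback.lift_fst, Category.id_comp]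
      · rw [Category.assoc, pullback.lift_snd, Category.id_comp, comp_cmp]
        have h0 : ((z ≫ a) ≫ G.i) ≫ G.s = (z ≫ a) ≫ G.t := by rw [Category.assoc, G.i_s]
        have hz : Ψ ≫ (z' ≫ a) ≫ G.i = (z ≫ a) ≫ G.i := by
          simp only [← Category.assoc]
          congr 2
          exact pullback.lift_fst _ _ _
        refine (cmp_congr G _ hz (pullback.lift_snd _ _ _)).trans ?_
        refine (G.assoc _ _ _ h0 hzr).symm.trans ?_
        refine (cmp_congr G _ (G.i_comp (z ≫ a)) rfl).trans ?_
        refine (cmp_congr G _ ?_ rfl).trans (G.e_comp r)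
        rw [← Category.assoc, hzr, Category.assoc]
    · apply pullback.hom_ext
      · rw [Category.assoc, pullback.lift_fst, pullback.lift_fst, Category.id_comp]
      · rw [Category.assoc, pullback.lift_snd, Category.id_comp, comp_cmp]
        have h0 : (z' ≫ a) ≫ G.s = ((z' ≫ a) ≫ G.i) ≫ G.t := by
          simp only [Category.assoc, G.i_t]
        refine (cmp_congr G _ (α' := z' ≫ a) (pullback.lift_fst_assoc _ _ _ _)
          (pullback.lift_snd _ _ _)).trans ?_
        refine (G.assoc _ _ _ h0 hzr').symm.trans ?_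
        refine (cmp_congr G _ (G.comp_i (z' ≫ a)) rfl).trans ?_
        refine (cmp_congr G _ ?_ rfl).trans (G.e_comp r')
        simp only [Category.assoc, ← Category.assoc r', ← pullback.condition, z', r']
  let m := Ψ ≫ r'
  have : IsFinite r' := MorphismProperty.pullback_snd _ _ inferInstance
  have : IsFinite r := MorphismProperty.pullback_snd _ _ inferInstance
  have : Flat r' := MorphismProperty.pullback_snd _ _ inferInstance
  have : Flat r := MorphismProperty.pullback_snd _ _ inferInstance
  have hmc : m = cmp G (z ≫ a) r hzr := pullback.lift_snd _ _ _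
  have hms : m ≫ G.s = r ≫ G.s := by rw [hmc]; exact G.comp_s _ _ hzr
  -- the point over `(d, w)`
  let F := pullback.lift (f := G.s) (g := G.t) (grpdDiv G eU) fst₂ hds
  have hF : F ≫ G.c = snd₂ := cmp_inv_right G fst₂ snd₂ hst h'
  let J : pullback (a ≫ G.s) G.t ⟶ pullback G.s G.t :=
    pullback.map _ _ _ _ a (𝟙 _) (𝟙 _) (by simp) (by simp)
  obtain ⟨r₁, hr₁⟩ : F q ∈ Set.range J := by
    rw [Scheme.Pullback.range_map]
    refine ⟨?_, ?_⟩
    · rw [Set.mem_preimage, ← Scheme.Hom.comp_apply, pullback.lift_fst]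
      exact ⟨default, Scheme.fromSpecResidueField_apply d _⟩
    · exact ⟨_, rfl⟩
  have hJc : J ≫ G.c = m := by
    have h3 : J = pullback.lift (z ≫ a) r hzr := by
      apply pullback.hom_ext
      · exact (pullback.lift_fst _ _ _).trans (pullback.lift_fst _ _ _).symm
      · exact ((pullback.lift_snd _ _ _).trans (Category.comp_id _)).trans (pullback.lift_snd _ _ _).symm
    rw [hmc, h3]
  have hmx : m r₁ = x := by
    rw [← hJc, Scheme.Hom.comp_apply, hr₁, ← Scheme.Hom.comp_apply, hF]
    exact hqx
  have hrw : r r₁ = w := by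
    have h3 : J ≫ pullback.snd G.s G.t = r := (pullback.lift_snd _ _ _).trans (Category.comp_id _)
    rw [← h3, Scheme.Hom.comp_apply, hr₁, ← Scheme.Hom.comp_apply, pullback.lift_snd]
    exact hqw
  exact ⟨_, r, m, r₁, inferInstance, inferInstance, inferInstance, inferInstance, hrw, hmx⟩

open GrothLib.AffDom TopologicalSpace

variable [LocallyOfFiniteType G.s] [LocallyOfFiniteType G.t]

omit [LocallyOfFiniteType G.t] in
include eU in
/-- The components of a groupoid on a field are open. -/
theorem isOpen_component_grpd {Z : Set G.R} (hZ : Z ∈ irreducibleComponents (G.R : Type u)) :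
    IsOpen Z := by
  have : IsLocallyNoetherian G.R := LocallyOfFiniteType.isLocallyNoetherian (G.s ≫ eU.hom)
  exact isOpen_irreducibleComponent_of_disjoint
    (fun Z₁ h₁ Z₂ h₂ x hx₁ hx₂ =>
      (existsUnique_irreducibleComponent_grpd G eU x).unique ⟨h₁, hx₁⟩ ⟨h₂, hx₂⟩) Z hZ

/-- A finite flat morphism maps a component onto a component of the same dimension. -/
theorem topologicalKrullDim_component_finiteFlat {P X : Scheme.{u}} (r : P ⟶ X) [IsFinite r] [Flat r]
    (q : X ⟶ Spec (CommRingCat.of k)) [LocallyOfFiniteType q] (p : P) {Z : Set X}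
    (hu : ∀ W ∈ irreducibleComponents (X : Type u), r p ∈ W → W = Z) {η : P}
    (hη : IsGenericPoint η (irreducibleComponent p)) :
    ptDim η = topologicalKrullDim Z := by
  obtain ⟨ξ, hξ⟩ := QuasiSober.sober
    (irreducibleComponent_mem_irreducibleComponents (r η)).1 isClosed_irreducibleComponent
  obtain ⟨η', hη', e⟩ := Flat.generalizingMap r (hξ.specializes mem_irreducibleComponent)
  have h1 : closure {η} = closure {η'} :=
    Set.Subset.antisymm hη'.closure_subset (by
      have := (irreducibleComponent_mem_irreducibleComponents p).2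
        (isIrreducible_singleton (x := η')).closure
        (by rw [← hη.def]; exact hη'.closure_subset)
      rw [hη.def]; exact this)
  have h2 : ξ = r η := by
    rw [← e]
    exact (congrArg r ((show IsGenericPoint η' (closure {η}) from h1.symm).eq
      (show IsGenericPoint η (closure {η}) from rfl)))
  subst h2
  have h3 : irreducibleComponent (r η) = Z := by
    refine hu _ (irreducibleComponent_mem_irreducibleComponents _) ?_
    rw [← hξ.def]
    exact specializes_iff_mem_closure.mp ((hη.specializes mem_irreducibleComponent).map r.continuous)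
  have h4 : ptDim (r.asFiber η) = 0 := by
    refine le_antisymm ((ptDim_le _).trans ?_) (ptDim_nonneg _)
    exact topologicalKrullDim_zero_of_discreteTopology _
  rw [ptDim_eq_add r q η, h4, add_zero, ptDim, hξ.def, h3]

include eU in
/-- All components of a groupoid on a field have the same dimension. -/
theorem topologicalKrullDim_component_grpd_eq {Z₁ Z₂ : Set G.R}
    (h₁ : Z₁ ∈ irreducibleComponents (G.R : Type u)) (h₂ : Z₂ ∈ irreducibleComponents (G.R : Type u)) :
    topologicalKrullDim Z₁ = topologicalKrullDim Z₂ := by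
  let q := G.s ≫ eU.hom
  have : JacobsonSpace G.R := LocallyOfFiniteType.jacobsonSpace q
  obtain ⟨w, hw, hwc⟩ := nonempty_inter_closedPoints h₁.1.nonempty
    (isClosed_of_mem_irreducibleComponents _ h₁).isLocallyClosed
  obtain ⟨x, hx, hxc⟩ := nonempty_inter_closedPoints h₂.1.nonempty
    (isClosed_of_mem_irreducibleComponents _ h₂).isLocallyClosed
  obtain ⟨P, r, m, p, hr, hr', hm, hm', ew, ex⟩ := exists_finiteFlat_translate G hwc hxc eU
  obtain ⟨η, hη⟩ := QuasiSober.sober
    (irreducibleComponent_mem_irreducibleComponents p).1 isClosed_irreducibleComponent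
  rw [← topologicalKrullDim_component_finiteFlat r q p (Z := Z₁) (fun W hW hpW =>
      (existsUnique_irreducibleComponent_grpd G eU w).unique ⟨hW, ew ▸ hpW⟩ ⟨h₁, hw⟩) hη,
    topologicalKrullDim_component_finiteFlat m q p (Z := Z₂) (fun W hW hpW =>
      (existsUnique_irreducibleComponent_grpd G eU x).unique ⟨hW, ex ▸ hpW⟩ ⟨h₂, hx⟩) hη]

include eU in
/-- Every component of a groupoid on a field has the dimension of the whole space. -/
theorem topologicalKrullDim_component_grpd {Z : Set G.R}
    (hZ : Z ∈ irreducibleComponents (G.R : Type u)) :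
    topologicalKrullDim Z = topologicalKrullDim G.R := by
  refine le_antisymm (topologicalKrullDim_subspace_le _ _) ?_
  refine GrothLib.Dim.topologicalKrullDim_le_of_cover
    (fun y : G.R => (⟨irreducibleComponent y, isOpen_component_grpd G eU
      (irreducibleComponent_mem_irreducibleComponents y)⟩ : Opens G.R))
    (fun y => ⟨y, mem_irreducibleComponent⟩) fun y => ?_
  exact le_of_eq (topologicalKrullDim_component_grpd_eq G eU
    (irreducibleComponent_mem_irreducibleComponents y) hZ)

include eU in
theorem ringKrullDim_stalk_grpd {x : G.R} (hx : IsClosed ({x} : Set G.R)) :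
    ringKrullDim (G.R.presheaf.stalk x) = topologicalKrullDim G.R := by
  rw [← topologicalKrullDim_component_grpd G eU (irreducibleComponent_mem_irreducibleComponents x)]
  exact ringKrullDim_stalk_eq_of_isClosed (G.s ≫ eU.hom) isClosed_irreducibleComponent
    (isOpen_component_grpd G eU (irreducibleComponent_mem_irreducibleComponents x))
    isIrreducible_irreducibleComponent mem_irreducibleComponent hx

include eU in
theorem localDim_grpd (x : G.R) : FlatMor.localDim G.R x = topologicalKrullDim G.R := by
  refine le_antisymm ?_ (le_iInf fun ⟨V, hV⟩ => ?_)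
  · exact iInf_le_of_le ⟨⊤, trivial⟩ (topologicalKrullDim_subspace_le _ _)
  · let q := G.s ≫ eU.hom
    have : JacobsonSpace G.R := LocallyOfFiniteType.jacobsonSpace q
    obtain ⟨y, hy, hyc⟩ := nonempty_inter_closedPoints ⟨x, hV⟩ V.2.isLocallyClosed
    have hyc : IsClosed ({y} : Set G.R) := hyc
    have h0 : ptDim y = 0 := by
      refine le_antisymm ?_ (ptDim_nonneg y)
      rw [ptDim, hyc.closure_eq]
      exact topologicalKrullDim_zero_of_discreteTopology (↥({y} : Set G.R))
    have h1 : FlatMor.localDim G.R y = topologicalKrullDim G.R := by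
      rw [localDim_eq q y, h0, zero_add, ringKrullDim_stalk_grpd G eU hyc]
    exact h1 ▸ iInf_le_of_le ⟨V, hy⟩ le_rfl

end GrothLib.GrpSchField
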